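import Cfsg.Agent.TH.Sv.ClDat_m3
import Cfsg.Agent.SB.Low.TabD1_m3
import Cfsg.Agent.DS.Cl.Par
import Cfsg.Agent.SB.Tor.Refl_m3
import Cfsg.Agent.H382.FieldAction
import Cfsg.Agent.DS.Cl.Vec
import Cfsg.Agent.H384.TwoCyc
import Cfsg.Agent.H616.ExtPSL
import Cfsg.Agent.SB.C2.Main
import Mathlib
import Cfsg.Agent.TH.Alt.Base_m3
import Cfsg.Agent.DS.Cl.Main
import Cfsg.Agent.H427.CsQuot
import Cfsg.Agent.FastGrp
import Cfsg.Agent.Prune
set_option linter.all false

section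
prune_inst 0x7ff4acf9abb8a9dedfff7e7faed8ddfc29909fffa6dff94bbfe021df0bdf030009c5238d09e000fe0e86401400a87843bb7eeeffe86bdc7ffffd5ff41ffbee0ff5f73508519488340f3c0ff603f0778e7f3fffffffffffffffffffffffffffaeffbfffffffff

-- part: TH/Ex/Ab/Defs
section
set_option linter.all false
open scoped Cfsg.Agent.FastGrp

/-!
# S3541, local examples in `F₄, E₆, ²E₆, E₇, E₈`: interface (captain helper73)

Paper proofs: `notes/TH/ex.md`, section 2.  `XC D tw T H E m p f r` collects the standing hypotheses; `F` is a frame of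
`SB/Exc/Defs`.  Boxes: `BoxFrm` (frames), `BoxComp` (components of centralisers), `BoxZC` (the centre of a Sylow subgroup),
`BoxMax`, `BoxTor`, `BoxNT` (the three cases).
-/

set_option autoImplicit false
set_option linter.unusedSectionVars false

namespace Cfsg.Agent.TH.Ab

open CoxeterSystem Cfsg Cfsg.Lie Cfsg.Lie.ChevalleyDatum
open Cfsg.Agent.ChevalleyStructure Cfsg.Agent.ChevalleyStructure.Elts Cfsg.Agent.ChevalleyStructure.CoxeterGeom
  Cfsg.Agent.ChevalleyStructure.CoxeterGeomTypes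
open Cfsg.Agent.Tits.Roots Cfsg.Agent.Tits.Core Cfsg.Agent.Nodes Cfsg.Agent.Nodes.Reps Cfsg.Agent.Nodes.BNOf
  Cfsg.Agent.Nodes.RGDChev Cfsg.Agent.Nodes.Bruhat Cfsg.Agent.Nodes.Coroot
open Cfsg.Agent.KFacts.RgdField Cfsg.Agent.KFacts.RgdChevCoord
open Cfsg.Agent.BpExc Cfsg.Agent.BpExc.TorCent Cfsg.Agent.BpExc.TorChev Cfsg.Agent.BpExc.Tow
  Cfsg.Agent.BpExc.TowChev Cfsg.Agent.BpExc.Fr Cfsg.Agent.BpExc.LangFr Cfsg.Agent.BpExc.Zc
open Cfsg.Agent.H469.Exc Cfsg.Agent.H316.U6 Cfsg.Agent.H129.TorusChar Cfsg.Agent.DS.Ex Cfsg.Agent.H786.FC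
open Cfsg.Agent.SB.Exc (XF HasRt)

/-- `T` is the Chevalley group of type `D` over the field with `p ^ f` elements, or `²E₆(p ^ f)` (`tw = true`) -/
def IsoX (D : ChevalleyDatum) (tw : Bool) (p f : ℕ) (T : Type) [Group T] : Prop :=
  0 < f ∧ ∃ (F : Type) (_ : Field F) (_ : Fintype F) (_ : CharP F p),
    (tw = false ∧ Fintype.card F = p ^ f ∧ Nonempty (T ≃* D.group F)) ∨
    (tw = true ∧ D = chevE6 ∧ Fintype.card F = (p ^ f) ^ 2 ∧ Nonempty (T ≃* twistedE6 F (p ^ f)))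

/-- the standing hypotheses -/
structure XC (D : ChevalleyDatum) (tw : Bool) {G : Type} [Group G] (T H E : Subgroup G) (m p f r : ℕ) : Prop where
  typ : Typ D
  ctx : NCtx T H m p
  loc : DS.Loc T H E r
  ne : r ≠ p
  iso : IsoX D tw p f ↥T

/-- [FRM] frames with the right field -/
def BoxFrm : Prop := ∀ (D : ChevalleyDatum) (l : ℕ) (M : CoxeterMatrix (Fin l)) (hp : IsType D l M), Typ D →
  ∀ (tw : Bool) (p : ℕ) [Fact p.Prime] (f : ℕ) (G : Type) [Group G] [Finite G] (T : Subgroup G), AS T → IsoX D tw p f ↥T →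
    Nonempty (XF hp p (p ^ f) T)

/-- the subgroup generated by the `σ`-fixed `p`-elements of `M` -/
def PE (p : ℕ) {Y : Type} [Group Y] (σ : MulAut Y) (M : Subgroup Y) : Subgroup Y :=
  Subgroup.closure {y | y ∈ M ∧ σ y = y ∧ ∃ j : ℕ, y ^ p ^ j = 1}

/-- [ZC] an elementary abelian normal subgroup of a Sylow subgroup has a non-trivial radical (`E₇`, `r = 2`; `E₆`, `r = 3`) -/
def BoxZC : Prop := ∀ (D : ChevalleyDatum) (l : ℕ) (M : CoxeterMatrix (Fin l)) (hp : IsType D l M)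
  (tw : Bool) (p : ℕ) [Fact p.Prime] (f r : ℕ) (G : Type) [Group G] [Finite G] (T : Subgroup G), AS T → IsoX D tw p f ↥T →
    (D = chevE6 ∧ r = 3 ∨ D = chevE7 ∧ r = 2) → r ≠ p → ∀ (F : XF hp p (p ^ f) T) (P R : Subgroup ↥T), IsPGroup r P →
      ¬ r ∣ P.index → R ≤ P → (∀ a ∈ P, ∀ x ∈ R, a * x * a⁻¹ ∈ R) → R ≠ ⊥ → (∀ x ∈ R, ∀ y ∈ R, x * y = y * x) →
      (∀ x ∈ R, x ^ r = 1) → ∃ x ∈ R, x ≠ 1 ∧ ∀ y ∈ R, DS.Nt.Tp p (F.L.ι y) (F.L.ι x)

/-- [MAX] an invariant toral subgroup on which a root is trivial -/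
def BoxMax : Prop := ∀ (D : ChevalleyDatum) (l : ℕ) (M : CoxeterMatrix (Fin l)) (hp : IsType D l M)
  (tw : Bool) (p : ℕ) [Fact p.Prime] (G : Type) [Group G] [Finite G] (T H E : Subgroup G) (m f r : ℕ),
    XC D tw T H E m p f r → ∀ (F : XF hp p (p ^ f) T) (A₀ : Subgroup (YY D p)), A₀ ≠ ⊥ → F.L.Inv H A₀ → HasRt hp p A₀ → False

/-- [TOR] the normaliser of a maximal torus -/
def BoxTor : Prop := ∀ (D : ChevalleyDatum) (l : ℕ) (M : CoxeterMatrix (Fin l)) (hp : IsType D l M)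
  (tw : Bool) (p : ℕ) [Fact p.Prime] (G : Type) [Group G] [Finite G] (T H E : Subgroup G) (m f r : ℕ),
    XC D tw T H E m p f r → ∀ (F : XF hp p (p ^ f) T) (A₀ : Subgroup (YY D p)), A₀ ≠ ⊥ → F.L.Inv H A₀ → Toral p A₀ →
      (∀ A₁ : Subgroup (YY D p), A₁ ≠ ⊥ → F.L.Inv H A₁ → ¬ HasRt hp p A₁) → False

/-- [NT] no invariant toral subgroup -/
def BoxNT : Prop := ∀ (D : ChevalleyDatum) (l : ℕ) (M : CoxeterMatrix (Fin l)) (hp : IsType D l M)
  (tw : Bool) (p : ℕ) [Fact p.Prime] (G : Type) [Group G] [Finite G] (T H E : Subgroup G) (m f r : ℕ),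
    XC D tw T H E m p f r → ∀ (F : XF hp p (p ^ f) T),
      (∀ A₀ : Subgroup (YY D p), Toral p A₀ → F.L.Inv H A₀ → A₀ = ⊥) → False

/-! ### assembly -/

/-- the boxes -/
structure Boxes : Prop where
  frm : BoxFrm
  max : BoxMax
  tor : BoxTor
  nt : BoxNT

theorem Boxes.false (B : Boxes) {D : ChevalleyDatum} {l : ℕ} {M : CoxeterMatrix (Fin l)} (hp : IsType D l M) {tw : Bool}
    {p : ℕ} {G : Type} [Group G] [Finite G] {T H E : Subgroup G} {m f r : ℕ} (C : XC D tw T H E m p f r) : False := by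
  have := Fact.mk C.ctx.prime
  obtain ⟨F⟩ := B.frm D l M hp C.typ tw p f G T C.ctx.as C.iso
  by_cases h1 : ∀ A₀ : Subgroup (YY D p), Toral p A₀ → F.L.Inv H A₀ → A₀ = ⊥
  · exact B.nt D l M hp tw p G T H E m f r C F h1
  · push Not at h1
    obtain ⟨A₀, a1, a2, a3⟩ := h1
    by_cases h2 : ∀ A₁ : Subgroup (YY D p), A₁ ≠ ⊥ → F.L.Inv H A₁ → ¬ HasRt hp p A₁
    · exact B.tor D l M hp tw p G T H E m f r C F A₀ a3 a2 a1 h2
    · push Not at h2
      obtain ⟨A₁, b1, b2, b3⟩ := h2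
      exact B.max D l M hp tw p G T H E m f r C F A₁ b1 b2 b3

theorem isoX_of_chev {D : ChevalleyDatum} {k p : ℕ} (hp : p.Prime) {T : Type} [Group T] (h : ChevChar D k p T) :
    ∃ f, IsoX D false p f T := by
  obtain ⟨F, _, _, _, -, e⟩ := h
  have := Fact.mk hp
  obtain ⟨n, -, hn⟩ := FiniteField.card F p
  exact ⟨n, n.2, F, _, _, inferInstance, Or.inl ⟨rfl, hn, e⟩⟩

theorem isoX_of_tw {p : ℕ} (hp : p.Prime) {T : Type} [Group T]
    (h : ∃ (K : Type) (_ : Field K) (_ : Fintype K) (_ : CharP K p) (q : ℕ), IsPrimePow q ∧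
      Fintype.card K = q ^ 2 ∧ Nonempty (T ≃* Cfsg.Lie.twistedE6 K q)) : ∃ f, IsoX chevE6 true p f T := by
  obtain ⟨F, _, _, _, q, ⟨s, f, hs, hf, rfl⟩, hq, e⟩ := h
  have := Fact.mk hp
  obtain ⟨n, -, hn⟩ := FiniteField.card F p
  have h1 : p ∣ s := by
    refine hp.dvd_of_dvd_pow (n := f * 2) ?_
    rw [pow_mul, ← hq, hn]
    exact dvd_pow_self p n.2.ne'
  obtain rfl : p = s := (Nat.prime_dvd_prime_iff_eq hp hs.nat_prime).1 h1
  exact ⟨f, hf, F, _, _, inferInstance, Or.inr ⟨rfl, rfl, hq, e⟩⟩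

theorem Boxes.noAb (B : Boxes) {D : ChevalleyDatum} {l : ℕ} {M : CoxeterMatrix (Fin l)} (hp : IsType D l M) (hD : Typ D) :
    NoAb fun p T _ => ChevChar D 0 p T := fun _ _ _ _ _ _ _ _ _ c h hr hP => by
  obtain ⟨f, hf⟩ := isoX_of_chev c.prime hP
  exact B.false hp ⟨hD, c, h, hr, hf⟩

theorem Boxes.noAb_F4 (B : Boxes) : NoAb fun p T _ => ChevChar chevF4 0 p T := B.noAb hpF4 (Or.inl rfl)
theorem Boxes.noAb_E6 (B : Boxes) : NoAb fun p T _ => ChevChar chevE6 0 p T := B.noAb hpE6 (Or.inr (Or.inl rfl))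
theorem Boxes.noAb_E7 (B : Boxes) : NoAb fun p T _ => ChevChar chevE7 0 p T := B.noAb hpE7 (Or.inr (Or.inr (Or.inl rfl)))
theorem Boxes.noAb_E8 (B : Boxes) : NoAb fun p T _ => ChevChar chevE8 0 p T := B.noAb hpE8 (Or.inr (Or.inr (Or.inr rfl)))

theorem Boxes.noAb_2E6 (B : Boxes) : NoAb fun p T _ => ∃ (K : Type) (_ : Field K) (_ : Fintype K) (_ : CharP K p) (q : ℕ),
    IsPrimePow q ∧ Fintype.card K = q ^ 2 ∧ Nonempty (T ≃* Cfsg.Lie.twistedE6 K q) := fun _ _ _ _ _ _ _ _ _ c h hr hP => by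
  obtain ⟨f, hf⟩ := isoX_of_tw c.prime hP
  exact B.false hpE6 ⟨Or.inr (Or.inl rfl), c, h, hr, hf⟩

end Cfsg.Agent.TH.Ab
end

-- part: TH/Cl/Cases/Div
section
set_option linter.all false
open scoped Cfsg.Agent.FastGrp

/-!
# S3541, classical socles: Aschbacher's case division `BoxCases` (helper23)

The proofs follow `DS/Cl/Main.lean`.
-/

set_option autoImplicit false

namespace Cfsg.Agent.TH.Cl

open Cfsg.Agent.DS.Cl Cfsg.Agent.DS.Cl.Fwd Cfsg.Agent.SB.Cl Cfsg.Agent.DS.Cl.Main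

namespace Cases

variable {A : Type} [Ring A] [StarRing A] [Finite A] {F : FR A} {M N : Subgroup (RingAut A)}

/-- the reducible case -/
theorem red (ss : SS A) (hle : M ≤ F.Aut) (hD : ∀ D : Finset A, Fr D → ¬ Inv M D) (hI : ¬ Irr M) :
    ParD F M ∨ NSD F M := by
  classical
  have := ss.nontrivial
  have hS : M ≤ SAut A := hle.trans F.Aut_le_SAut
  obtain ⟨R, hR, hR2⟩ : ∃ R : Ideal A, Inv M R ∧ ¬ DS.Cl.Two R := by
    by_contra hcon
    exact hI fun R hR => not_not.1 fun h1 => hcon ⟨R, hR, h1⟩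
  have hT : ∀ x ∈ R ⊓ perp R, ∀ y ∈ R ⊓ perp R, x * star y = 0 := fun x hx y hy => hy.2 x hx.1
  have hTi : Inv M (R ⊓ perp R : Ideal A) := fun γ hγ x hx => ⟨hR γ hγ x hx.1, inv_perp hS hR γ hγ x hx.2⟩
  by_cases h0 : R ⊓ perp R = ⊥
  · obtain ⟨f, hf, hs, hi, h1⟩ := exists_symm_idem ss h0
    have hf0 : f ≠ 0 := fun e => hR2 fun x hx a => by
      rw [← h1 x hx, e, mul_zero, zero_mul]
      exact R.zero_mem
    have hf1 : 1 - f ≠ 0 := fun e => hR2 fun x _ a => by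
      rw [← mul_one (x * a), sub_eq_zero.1 e]
      exact R.mul_mem_left _ hf
    have h2 : f * (1 - f) = 0 := by rw [mul_sub, mul_one, hi, sub_self]
    have h3 : (1 - f) * f = 0 := by rw [sub_mul, one_mul, hi, sub_self]
    have hne : f ≠ 1 - f := fun e => hf0 (by rw [← hi]; nth_rewrite 2 [e]; exact h2)
    have hfix : ∀ γ ∈ M, γ f = f := by
      intro γ hγ
      have h4 := congrArg γ (h1 _ (hR _ (inv_mem hγ) f hf))
      rw [map_mul, ra_apply_inv] at h4
      have h5 := congrArg star h4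
      rw [star_mul, ← hS hγ, hs, h1 _ (hR γ hγ f hf)] at h5
      exact h5
    refine absurd ?_ (hD {f, 1 - f} ⟨by rw [Finset.card_pair hne], ?_, ?_, ?_, ?_, by
      rw [Finset.sum_pair hne, add_sub_cancel]⟩)
    · intro γ hγ x hx
      simp only [Finset.coe_insert, Finset.coe_singleton, Set.mem_insert_iff, Set.mem_singleton_iff] at hx ⊢
      rcases hx with rfl | rfl
      · exact Or.inl (hfix γ hγ)
      · exact Or.inr (by rw [map_sub, map_one, hfix γ hγ])
    · simp [hf0, hf1]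
    · simp only [Finset.mem_insert, Finset.mem_singleton, forall_eq_or_imp, forall_eq]
      exact ⟨hi, by rw [mul_sub, mul_one, h3, sub_zero]⟩
    · simp [hs]
    · simp [h2, h3]
  by_cases h1 : sing F _ hT = ⊥
  · refine Or.inr ⟨_, h0, hTi, hT, fun x hx hx' => ?_⟩
    have h2 : x ∈ sing F _ hT := ⟨hx, hx'⟩
    rwa [h1] at h2
  refine Or.inl ⟨_, h1, fun γ hγ x hx => ⟨hTi γ hγ x hx.1, ?_⟩, fun x hx y hy => hT x hx.1 y hy.1,
    fun x hx => hx.2, fun h2 => ?_⟩
  · have h2 := F.L.sub_mem (F.map_mem (hS hγ) hx.2) (F.conj_mem (hle hγ).2 (γ x))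
    convert h2 using 1
    rw [map_mul, map_mul, hS hγ]
    noncomm_ring
  · rcases ss.two_cases (I := sing F _ hT) h2 with h3 | h3 | ⟨ε, hε, h3⟩
    · exact h1 h3
    · have h4 : (1 : A) ∈ sing F _ hT := by rw [h3]; trivial
      simpa using hT 1 h4.1 1 h4.1
    · have h4 := ((h3 ε).2 hε.idem).1
      refine hR2 fun x hx a => ?_
      have h5 := h4.2 x hx
      rw [hε.star_eq, mul_sub, mul_one, sub_eq_zero] at h5
      rw [h5, mul_assoc, ← hε.comm, ← mul_assoc]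
      exact R.mul_mem_left _ h4.1

/-- a proper invariant subring with the same centre -/
theorem ten_central (ss : SS A) (hle : M ≤ F.Aut) (hI : Irr2 M) {B : Subring A}
    (h1 : Subring.center A ≤ B) (h2 : ¬ B ≤ Subring.center A) (hs : ∀ x ∈ B, star x ∈ B) (hB : Inv M B)
    (hZ : cenOf B ≤ Subring.center A) (hne : B ≠ ⊤) : TenD M := by
  have hS : M ≤ SAut A := hle.trans F.Aut_le_SAut
  obtain ⟨n, E, hE, hEm, hEc⟩ := exists_mu_sub (ss_of_inv ss hS hI.1.1 hI.1.2 hs hB)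
  let C := Subring.centralizer (B : Set A)
  have hcoef : ∀ a i j, coef E a i j ∈ C := by
    intro a i j b hb
    rw [hE.expand b, Finset.sum_mul, Finset.mul_sum]
    refine Finset.sum_congr rfl fun p _ => ?_
    rw [Finset.sum_mul, Finset.mul_sum]
    refine Finset.sum_congr rfl fun q _ => ?_
    have h3 : coef E b p q ∈ Subring.center A :=
      hZ ⟨coef_mem hEm hb p q, hEc _ (coef_mem hEm hb p q) (hE.coef_comm b p q)⟩
    rw [mul_assoc, ← hE.coef_comm, ← mul_assoc, ← mul_assoc, cen_comm h3]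
  have hgen : ∀ X : Subring A, B ≤ X → C ≤ X → X = ⊤ := fun X h3 h4 => eq_top_iff.2 fun a _ => by
    rw [hE.expand a]
    exact X.sum_mem fun i _ => X.sum_mem fun j _ => X.mul_mem (h4 (hcoef a i j)) (h3 (hEm i j))
  have hC := inv_centralizer hB
  refine ⟨hI, {B, C}, ⟨B, Or.inl rfl, C, Or.inr rfl, fun e => h2 fun x hx =>
    hZ ⟨hx, e.le hx⟩⟩, ?_, ?_, ?_, ?_, (hgen _ (fun x hx => Subring.subset_closure (Set.mem_biUnion (Or.inl rfl) hx))
      fun x hx => Subring.subset_closure (Set.mem_biUnion (Or.inr rfl) hx)), ?_⟩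
  · rintro _ (rfl | rfl)
    · exact h1
    · exact fun x hx y _ => cen_comm hx y
  · rintro _ (rfl | rfl)
    · exact h2
    · exact fun h3 => hne (hgen _ le_rfl (h3.trans h1))
  · rintro _ (rfl | rfl)
    · exact hs
    · exact star_centralizer hs
  · rintro _ (rfl | rfl) _ (rfl | rfl) e x hx y hy
    · exact absurd rfl e
    · exact hy x hx
    · exact (hx y hy).symm
    · exact absurd rfl e
  · rintro γ hγ _ (rfl | rfl)
    · exact Or.inl (map_eq_of (hB γ hγ) (hB _ (inv_mem hγ)))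
    · exact Or.inr (map_eq_of (hC γ hγ) (hC _ (inv_mem hγ)))

/-- an absolutely irreducible non-abelian minimal normal subgroup which is not simple -/
theorem ten_comp (hle : M ≤ F.Aut) (hI : Irr2 M) (hN : N ≤ F.PI)
    (h0 : N ≠ ⊥) (htop : alg F N = ⊤) {𝓣 : Set (Subgroup (RingAut A))} (hT : Comp M N 𝓣) (h1 : N ∉ 𝓣) : TenD M := by
  have hp : ∀ T ∈ 𝓣, T ≤ ⁅T, T⁆ := fun T hT' => perfect_of_simple (hT.simple T hT') (hT.noncomm T hT')
  have hcomm : ∀ T ∈ 𝓣, ∀ T' ∈ 𝓣, T ≠ T' → ∀ x ∈ alg F T, ∀ y ∈ alg F T', x * y = y * x := fun T h2 T' h3 e =>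
    alg_comm ((hT.le T' h3).trans hN) (hp T' h3) (hT.comm T h2 T' h3 e)
  refine ⟨hI, alg F '' 𝓣, ?_, ?_, ?_, ?_, ?_, ?_, ?_⟩
  · obtain ⟨T, h2⟩ : 𝓣.Nonempty := by
      by_contra hcon
      exact h0 (eq_bot_iff.2 (hT.gen ⊥ fun T h2 => absurd ⟨T, h2⟩ hcon))
    obtain ⟨T', h3, e⟩ : ∃ T' ∈ 𝓣, T' ≠ T := by
      by_contra hcon
      push Not at hcon
      exact h1 (le_antisymm (hT.le T h2) (hT.gen T fun T' h3 => (hcon T' h3).le) ▸ h2)
    refine ⟨_, ⟨T', h3, rfl⟩, _, ⟨T, h2, rfl⟩, fun e' => hT.noncomm T h2 (comm_of_alg ((hT.le T h2).trans hN) ?_)⟩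
    exact fun x hx => hcomm T' h3 T h2 e x (e' ▸ hx)
  · rintro _ ⟨T, -, rfl⟩
    exact cen_le_alg
  · rintro _ ⟨T, h2, rfl⟩
    have := hT.simple T h2
    exact alg_not_le ((hT.le T h2).trans hN) ((Subgroup.nontrivial_iff_ne_bot T).1 inferInstance)
  · rintro _ ⟨T, -, rfl⟩
    exact star_alg
  · rintro _ ⟨T, h2, rfl⟩ _ ⟨T', h3, rfl⟩ e
    exact hcomm T h2 T' h3 fun e' => e (by rw [e'])
  · set X := Subring.closure (⋃ B ∈ alg F '' 𝓣, (B : Set A))
    have hX : ∀ T ∈ 𝓣, alg F T ≤ X := fun T h2 x hx => Subring.subset_closure (Set.mem_biUnion ⟨T, h2, rfl⟩ hx)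
    obtain ⟨T, h2⟩ : 𝓣.Nonempty := by
      by_contra hcon
      exact h0 (eq_bot_iff.2 (hT.gen ⊥ fun T h2 => absurd ⟨T, h2⟩ hcon))
    have hc : Subring.center A ≤ X := cen_le_alg.trans (hX T h2)
    let W : Subgroup Aˣ :=
      { carrier := {u | (u : A) ∈ X ∧ ((u⁻¹ : Aˣ) : A) ∈ X}
        mul_mem' := fun ha hb => ⟨X.mul_mem ha.1 hb.1, by rw [mul_inv_rev]; exact X.mul_mem hb.2 ha.2⟩
        one_mem' := ⟨X.one_mem, X.one_mem⟩
        inv_mem' := fun ha => ⟨ha.2, ha.1⟩ }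
    have h3 : N ≤ W.map (DS.Cl.cj A) := hT.gen _ fun T h3 t ht => by
      obtain ⟨u, hu, rfl⟩ := hN (hT.le T h3 ht)
      exact ⟨u, ⟨hX T h3 (mem_alg hu ht), hX T h3 (mem_alg (inv_mem hu) (by rw [map_inv]; exact inv_mem ht))⟩, rfl⟩
    rw [eq_top_iff, ← htop]
    refine alg_le hc fun u _ hu => ?_
    obtain ⟨w, hw, e⟩ := h3 hu
    obtain ⟨z, hz, rfl⟩ := cj_eq_iff.1 e.symm
    exact X.mul_mem hw.1 (hc hz)
  · rintro γ hγ _ ⟨T, h2, rfl⟩
    exact ⟨_, hT.inv γ hγ T h2, (map_alg (hle hγ)).symm⟩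

end Cases

open Cases in
/-- **[C-Cases]** -/
theorem boxCases : BoxCases := by
  intro A _ _ _ F G H m p c
  have : Finite (RingAut A) := Finite.of_injective (fun γ : RingAut A => (γ : A → A)) DFunLike.coe_injective
  have hle := c.H_le_Aut
  by_cases hD : ∃ D : Finset A, Fr D ∧ Inv H D
  · exact Or.inr (Or.inr (Or.inl hD))
  replace hD : ∀ D : Finset A, Fr D → ¬ Inv H D := fun D h1 h2 => hD ⟨D, h1, h2⟩
  by_cases hI : ¬ Irr H
  · rcases red c.ss hle hD hI with h | h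
    · exact Or.inl h
    · exact Or.inr (Or.inl h)
  replace hI : Irr1 H := ⟨not_not.1 hI, hD⟩
  refine Or.inr (Or.inr (Or.inr ?_))
  by_cases hF : ∃ Z : Subring A, ComSub Z ∧ ¬ Z ≤ Subring.center A ∧ Inv H Z
  · exact Or.inl ⟨hI, hF⟩
  have hI2 : Irr2 H := ⟨hI, fun Z h1 h2 => not_not.1 fun h3 => hF ⟨Z, h1, h3, h2⟩⟩
  refine Or.inr ?_
  obtain ⟨N, hN, hmin⟩ := exists_minN (M := H) (K := H ⊓ F.S) (fun γ hγ s hs => c.conj_inf hγ hs) c.inf_ne_bot
  have hNP : N ≤ F.PI := (hN.trans inf_le_right).trans F.S_le_PI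
  have hB : Inv H (alg F N) := fun γ hγ => apply_mem_alg (hle hγ) (hmin.nrm γ hγ)
  have hZ : cenOf (alg F N) ≤ Subring.center A := hI2.2 _
    ⟨fun x hx => ⟨cen_le_alg hx, fun y _ => cen_comm hx y⟩,
      fun x hx => ⟨star_alg x hx.1, star_centralizer star_alg x hx.2⟩, fun x hx y hy => hy.2 x hx.1⟩ (inv_cenOf hB)
  by_cases htop : alg F N ≠ ⊤
  · exact Or.inl (ten_central c.ss hle hI2 cen_le_alg (alg_not_le hNP hmin.ne) star_alg hB hZ htop)
  replace htop := not_not.1 htop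
  by_cases hc : ∀ x ∈ N, ∀ y ∈ N, x * y = y * x
  · exact Or.inr (Or.inl ⟨hI2, N, hN, hmin, hc, htop⟩)
  · obtain ⟨𝓣, hT⟩ := hmin.exists_comp hc
    by_cases h1 : N ∈ 𝓣
    · exact Or.inr (Or.inr ⟨hI2, N, hN, hmin.nrm, hT.simple N h1, hT.noncomm N h1, htop⟩)
    · exact Or.inl (ten_comp hle hI2 hNP hmin.ne htop hT h1)

end Cfsg.Agent.TH.Cl
end

-- part: TH/Cl/Cases/Par
section
prune_inst 0xb0102104556210000018000062000100700004020040000000820a000348a0402d430841058001121828080000000408111000200200000000000400000500000880000480080108000006000000000000000000000000000000000000000004000000000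
set_option linter.all false
open scoped Cfsg.Agent.FastGrp

-- part: TH/Cl/Cases/ParR
section
/-!
# S3541, classical socles: the parabolic case, ring level (helper23)

If `H` preserves a totally singular subspace, the unipotent radical meets `F.S` trivially (`O_p(H) = 1`), hence it is
centralised by the stabiliser of the subspace in the isometry group (`PC`).
-/

set_option autoImplicit false

namespace Cfsg.Agent.TH.Cl

open Cfsg.Agent.DS.Cl Cfsg.Agent.DS.Cl.Fwd Cfsg.Agent.SB.Cl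

namespace Cases

variable {A : Type} [Ring A] [StarRing A]

theorem UR_cube {F : FR A} {R : Ideal A} {u : Aˣ} (hu : u ∈ UR F R) : ((u : A) - 1) ^ 3 = 0 := by
  have h2 : ∀ r ∈ R, ((u : A) - 1) * star r = 0 := fun r hr => by
    have h3 := congrArg star ((inv_mem hu).2.1 r hr)
    rw [FR.Iso.inv_eq hu.1, star_mul, star_star] at h3
    rw [sub_mul, h3, one_mul, sub_self]
  have h3 := hu.2.1 _ (hu.2.2 _ h2)
  calc ((u : A) - 1) ^ 3 = (((u : A) - 1) * u - (u - 1)) * u - (((u : A) - 1) * u - (u - 1)) := by noncomm_ring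
    _ = 0 := by rw [h3, sub_self]

omit [StarRing A] in
theorem pow_eq_one_of_cube [Nontrivial A] {p : ℕ} (hp : p.Prime) (h0 : (p : A) = 0) {u : Aˣ}
    (hu : ((u : A) - 1) ^ 3 = 0) : u ^ p ^ 2 = 1 := by
  have : Fact p.Prime := ⟨hp⟩
  have : CharP A p := (CharP.charP_iff_prime_eq_zero hp).2 h0
  apply Units.ext
  have h1 := add_pow_char_pow_of_commute p 2 (Commute.one_left ((u : A) - 1))
  rw [add_sub_cancel, one_pow] at h1
  have h2 : 3 ≤ p ^ 2 := by nlinarith [hp.two_le]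
  obtain ⟨k, hk⟩ := Nat.exists_eq_add_of_le h2
  rw [Units.val_pow_eq_pow_val, h1, hk, pow_add, hu, zero_mul, add_zero, Units.val_one]

/-- the unipotent radical is centralised by the stabiliser in the isometry group -/
def PC (F : FR A) (e : A) : Prop := ∀ g ∈ F.Iso, ∀ u ∈ F.Iso, e * g * (1 - e) = 0 → e * ((u : A) - 1) = 0 →
  (1 - star e) * ((u : A) - 1) * (1 - e) = 0 → (g : A) * u = u * g

variable [Finite A] {F : FR A} {G H : Subgroup (RingAut A)} {m p : ℕ}

theorem exists_pc (c : Ctx F G H m p) (h : ParD F H) :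
    ∃ e, Hyp F e ∧ e ≠ 0 ∧ (¬ ∀ a, e * a * (1 - e) = 0) ∧ PC F e := by
  obtain ⟨R, h0, hinv, h1, h2, h3⟩ := h
  have := c.ss.nontrivial
  obtain ⟨e, heR, he, hR⟩ := exists_hyp c.ss F h1 h2
  have hS : ¬ Inv F.S R := fun h4 => h3 (FR.two_of_S c.span h4)
  have hN : (UR F R).map (DS.Cl.cj A) ⊓ F.S = ⊥ := by
    refine c.eq_bot_of_isPGroup (fun γ hγ => c.mem_of_inv hinv hS (c.S_le hγ.2) fun x hx => (cj_UR_stab hγ.1 x).1 hx)
      (fun a ha x hx => ⟨conj_mem_UR (c.H_le_Aut ha) (le_setStab hinv ha) hx.1, FR.conj_mem_S (c.H_le_Aut ha) hx.2⟩) ?_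
    rintro ⟨_, ⟨u, hu, rfl⟩, hs⟩
    refine ⟨2, Subtype.ext ?_⟩
    change DS.Cl.cj A u ^ p ^ 2 = 1
    rw [← map_pow, pow_eq_one_of_cube c.prime c.char (UR_cube hu), map_one]
  refine ⟨e, he, fun e0 => h0 (eq_bot_iff.2 fun x hx => by rw [← hR x hx, e0, mul_zero]; exact Ideal.zero_mem _),
    fun h4 => h3 fun x hx a => ?_, fun g hg u hu a1 a2 a3 => ?_⟩
  · have h5 := h4 a
    rw [mul_sub, mul_one, sub_eq_zero] at h5
    rw [← hR x hx, mul_assoc, h5, ← mul_assoc]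
    exact R.mul_mem_left _ heR
  have hu' : u ∈ UR F R := by
    refine ⟨hu, fun r hr => ?_, fun x hx => ?_⟩
    · rw [mul_sub, mul_one, sub_eq_zero] at a2
      rw [← hR r hr, mul_assoc, a2]
    · have h4 : x * u - x = x * ((1 - star e) * ((u : A) - 1)) := by
        rw [← mul_assoc, mul_sub x 1, hx e heR, mul_one, sub_zero, mul_sub, mul_one]
      rw [mul_sub _ 1, mul_one, sub_eq_zero] at a3
      rw [h4, a3, ← mul_assoc]
      exact R.mul_mem_left _ heR
  have hg' : DS.Cl.cj A g⁻¹ ∈ stab F (R : Set A) := by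
    refine ⟨FR.cj_mem_Aut (inv_mem hg), fun x hx => ?_⟩
    rw [mul_sub, mul_one, sub_eq_zero] at a1
    rw [cj_apply, inv_inv, ← hR x hx, mul_assoc, mul_assoc, a1, ← mul_assoc, ← mul_assoc]
    exact R.mul_mem_left _ heR
  have h4 : g⁻¹ * u * g ∈ UR F R := by
    have h5 := um_mem_UR hg'.1 (le_setStab (inv_stab F (R : Set A)) hg') hu'
    have h6 : um (DS.Cl.cj A g⁻¹) u = g⁻¹ * u * g := Units.ext (by rw [um_val, cj_apply, inv_inv]; rfl)
    rwa [h6] at h5
  have h5 : g⁻¹ * u * g * u⁻¹ ∈ UR F R := mul_mem h4 (inv_mem hu')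
  have h6 : DS.Cl.cj A (g⁻¹ * u * g * u⁻¹) ∈ (UR F R).map (DS.Cl.cj A) ⊓ F.S := by
    refine ⟨⟨_, h5, rfl⟩, ?_⟩
    have h7 := conj_mul_inv_mem F (g := DS.Cl.cj A g⁻¹) (s := DS.Cl.cj A u) ⟨_, inv_mem hg, rfl⟩ ⟨_, hu, rfl⟩
    rw [map_inv, inv_inv] at h7
    rw [map_mul, map_mul, map_mul, map_inv, map_inv]
    exact h7
  rw [hN, Subgroup.mem_bot, cj_eq_one_iff] at h6
  have h7 := SS_eq_zero c.ss (sub_mem h6 (one_mem _)) ⟨3, UR_cube h5⟩
  have h8 : g⁻¹ * u * g * u⁻¹ = 1 := Units.ext (sub_eq_zero.1 h7)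
  rw [mul_inv_eq_one, mul_assoc, inv_mul_eq_iff_eq_mul] at h8
  exact (congrArg Units.val h8).symm

variable {e : A}

/-- an isometry supported on the non-degenerate part -/
theorem PC.levi (h : PC F e) (he : Hyp F e) {g : Aˣ} (hg : g ∈ F.Iso) (h1 : e * ((g : A) - 1) = 0)
    (h2 : ((g : A) - 1) * e = 0) (h3 : ((g : A) - 1) * star e = 0) (x : A) : ((g : A) - 1) * x * e = 0 := by
  obtain ⟨a, ha⟩ : ∃ a, a = (1 - e - star e) * x * e := ⟨_, rfl⟩
  obtain ⟨b, hb⟩ : ∃ b, b = -(star a * F.l * a) := ⟨_, rfl⟩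
  have ae : a * e = a := by rw [ha, mul_assoc, he.idem]
  have ea : e * a = 0 := by rw [ha, ← mul_assoc, ← mul_assoc]; simp [mul_sub, he.idem, he.ms]
  have sa : star e * a = 0 := by rw [ha, ← mul_assoc, ← mul_assoc]; simp [mul_sub, he.sidem, he.sm]
  have sc : star e * star a = star a := by rw [← star_mul, ae]
  have be : b * e = b := by rw [hb, neg_mul, mul_assoc, ae]
  have sb : star e * b = b := by rw [hb, mul_neg, ← mul_assoc, ← mul_assoc, sc]
  have eb : e * b = 0 := by rw [← sb, ← mul_assoc, he.ms, zero_mul]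
  have ce : star a * e = 0 := by rw [← star_star e, ← star_mul, sa, star_zero]
  have de : star b * e = star b := by rw [← star_star e, ← star_mul, sb]
  have cb : star a * b = 0 := by rw [← sb, ← mul_assoc, ← star_mul, ea, star_zero, zero_mul]
  have da : star b * a = 0 := by rw [← de, mul_assoc, ea, mul_zero]
  have db : star b * b = 0 := by nth_rewrite 1 [← de]; rw [mul_assoc, eb, mul_zero]
  have hsb : star b = -(star a * star F.l * a) := by
    rw [hb, star_neg, star_mul, star_mul, star_star, mul_assoc]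
  have rel : b + star b + star a * a = 0 := by
    rw [hsb, hb, F.star_l]
    noncomm_ring
  have e1 : e + a + b = (1 + a + b) * e := by rw [add_mul, add_mul, one_mul, ae, be]
  have e2 : e * (e + a + b) = e := by rw [mul_add, mul_add, he.idem, ea, eb, add_zero, add_zero]
  have he' : Hyp F (e + a + b) := by
    refine ⟨?_, ?_, ?_, ?_, ?_⟩
    · nth_rewrite 1 [e1]
      rw [mul_assoc, e2, ← e1]
    · rw [e1, star_mul, mul_assoc, ← mul_assoc e, he.ms, zero_mul, mul_zero]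
    · simp only [star_add, add_mul, mul_add, he.sm, sa, sb, ce, cb, de, da, db, zero_add, add_zero]
      rw [← rel]; abel
    · have h4 := F.conj_mem he.q1 (1 + a + b)
      rw [e1, star_mul]
      simpa only [mul_assoc] using h4
    · have c1 := F.polar_mem (star e) (star a)
      have c2 := F.polar_mem (star e) (star b)
      have c3 := F.polar_mem (star a) (star b)
      have c4 := F.conj_mem he.q1 (star b)
      have c5 := F.sub_star_mem b
      simp only [star_star, ce, de, da, sub_zero] at c1 c2 c3 c4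
      rw [← mul_assoc, ← mul_assoc, de, mul_assoc _ (star e), sb] at c4
      have c6 : star a * F.l * a + b = 0 := by rw [hb, add_neg_cancel]
      rw [star_add, star_add]
      convert F.L.sub_mem (F.L.add_mem (F.L.add_mem (F.L.add_mem (F.L.add_mem c1 c2) c3) c4) he.q2) c5 using 1
      rw [← add_zero (_ - _), ← c6]
      noncomm_ring
  obtain ⟨u, hu, u1, u2, u3⟩ := he.trans he' e2 (by rw [e1, mul_assoc, he.idem])
  have u4 : (u : A) * e = e + a + b := by
    rw [← cj_mul_eq, u1, e1, mul_assoc, u2]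
  have h4 := h g hg u hu (by
      have h5 : e * (g : A) = e := by rwa [mul_sub, mul_one, sub_eq_zero] at h1
      rw [h5, mul_sub, mul_one, he.idem, sub_self])
    (by rw [mul_sub, u2, mul_one, sub_self]) (by
      have h5 := u3 (1 - star e) (by rw [sub_mul, one_mul, he.sidem, sub_self])
      rw [mul_sub (1 - star e), mul_one, mul_sub, mul_one, h5, sub_self])
  have h5 : ((g : A) - 1) * (e + a + b) = 0 := by
    have h6 : (g : A) * e = e := by rwa [sub_mul, one_mul, sub_eq_zero] at h2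
    rw [← u4, sub_mul, ← mul_assoc, h4, mul_assoc, h6, one_mul, sub_self]
  rw [mul_add, mul_add, h2, ← sb, ← mul_assoc, h3, zero_mul, zero_add, add_zero, ha, ← mul_assoc, ← mul_assoc,
    mul_sub, mul_sub, h2, h3, mul_one, sub_zero, sub_zero] at h5
  exact h5

omit [Finite A] in
theorem nil_levi (he : Hyp F e) {n : A} (h1 : e * n = n) (h2 : n * e = n) (h3 : n * n = 0) : Nil F n := by
  have h4 : star e * star n = star n := by rw [← star_mul, h2]
  have h5 : star n * star e = star n := by rw [← star_mul, h1]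
  refine ⟨h3, ?_, ?_, ?_, ?_⟩
  · rw [← h2, star_mul, mul_assoc, ← mul_assoc e, he.ms, zero_mul, mul_zero]
  · rw [← h1, star_mul, mul_assoc, ← mul_assoc (star e), he.sm, zero_mul, mul_zero]
  · have h6 := F.conj_mem he.q1 n
    rwa [← mul_assoc, ← mul_assoc, h2, mul_assoc _ (star e), h4] at h6
  · have h6 := F.conj_mem he.q2 (star n)
    rwa [star_star, ← mul_assoc, ← mul_assoc, h5, mul_assoc _ e, h1] at h6

omit [Finite A] in
/-- the centre of the radical and the linear part of the Levi factor -/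
theorem PC.cen (h : PC F e) (he : Hyp F e) {u : Aˣ} (hu : u ∈ F.Iso) (h1 : star e * ((u : A) - 1) = u - 1)
    (h2 : ((u : A) - 1) * e = u - 1) {n : A} (n1 : e * n = n) (n2 : n * e = n) (n3 : n * n = 0) :
    ((u : A) - 1) * n = -(star n * ((u : A) - 1)) := by
  have hn := nil_levi he n1 n2 n3
  obtain ⟨b, hb⟩ : ∃ b, b = (u : A) - 1 := ⟨_, rfl⟩
  have h4 : star e * star n = star n := by rw [← star_mul, n2]
  have h5 : e * star n = 0 := by rw [← h4, ← mul_assoc, he.ms, zero_mul]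
  have h6 := h _ hn.unit_mem u hu (by
      rw [hn.unit_val, mul_add, mul_sub e, h5, n1, mul_one, sub_zero, mul_sub, add_mul e n e, he.idem, n2, mul_one,
        sub_self])
    (by rw [← h1, ← mul_assoc, he.ms, zero_mul]) (by rw [sub_mul 1, h1, one_mul, sub_self, zero_mul])
  rw [← hb] at h1 h2 ⊢
  have h7 : n * b = 0 := by rw [← n2, ← h1, mul_assoc, ← mul_assoc e, he.ms, zero_mul, mul_zero]
  have h8 : b * star n = 0 := by rw [← h2, mul_assoc, h5, mul_zero]
  rw [hn.unit_val, show (u : A) = 1 + b by rw [hb, add_sub_cancel]] at h6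
  simp only [mul_add, add_mul, mul_sub, sub_mul, one_mul, mul_one, h7, h8, zero_sub, sub_zero] at h6
  calc b * n = (1 + b + (n + b * n - (star n + 0))) - (1 + (n - star n) + b) := by abel
    _ = -(star n * b) := by rw [← h6]; abel

end Cases

end Cfsg.Agent.TH.Cl
end

-- part: TH/Cl/Cases/Par
section
/-!
# S3541, classical socles: the box `BoxPar` (helper23)
-/

set_option autoImplicit false
set_option linter.unusedSectionVars false

namespace Cfsg.Agent.TH.Cl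

open Cfsg.Agent.DS.Cl Cfsg.Agent.DS.Cl.Fwd Cfsg.Agent.SB.Cl Cfsg.Agent.SB.Tor Module Matrix

namespace Cases

/-! ### Linear groups -/

section lin

/-- an idempotent of rank at least two contains a nilpotent element -/
theorem exists_nil_end {K V : Type} [Field K] [AddCommGroup V] [Module K V] [Module.Finite K V] {f : End K V}
    (hf : f * f = f) (h2 : 2 ≤ finrank K (LinearMap.range f)) :
    ∃ n : End K V, n ≠ 0 ∧ n * n = 0 ∧ f * n = n ∧ n * f = n := by
  have hff : ∀ v, f (f v) = f v := fun v => LinearMap.congr_fun hf v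
  have : Nontrivial (LinearMap.range f) := Module.nontrivial_of_finrank_pos (R := K) (by omega)
  obtain ⟨⟨_, v, rfl⟩, hv⟩ := exists_ne (0 : LinearMap.range f)
  have hv0 : f v ≠ 0 := fun h0 => hv (Subtype.ext h0)
  obtain ⟨_, ⟨w, rfl⟩, hw⟩ : ∃ w ∈ LinearMap.range f, w ∉ Submodule.span K {f v} := by
    by_contra hcon
    push Not at hcon
    have h3 := Submodule.finrank_mono (show LinearMap.range f ≤ Submodule.span K {f v} from hcon)
    rw [finrank_span_singleton hv0] at h3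
    omega
  obtain ⟨φ, h1, h3⟩ := Submodule.exists_le_ker_of_notMem hw
  have h4 : φ (f v) = 0 := h3 (Submodule.mem_span_singleton_self _)
  refine ⟨(φ ∘ₗ f).smulRight (f v), fun h0 => ?_, ?_, ?_, ?_⟩
  · have h5 := LinearMap.congr_fun h0 w
    rw [LinearMap.smulRight_apply, LinearMap.zero_apply, smul_eq_zero] at h5
    exact h5.elim h1 hv0
  · ext x
    simp [hff, h4]
  · ext x
    simp [hff]
  · ext x
    simp [hff]

variable {K : Type} [Field K] {n : ℕ}

theorem exists_nil_mat (h3 : 3 ≤ n) {f : Matrix (Fin n) (Fin n) K} (hf : f * f = f) :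
    ∃ y : Matrix (Fin n) (Fin n) K, y ≠ 0 ∧ y * y = 0 ∧
      ((f * y = y ∧ y * f = y) ∨ ((1 - f) * y = y ∧ y * (1 - f) = y)) := by
  let φ := Matrix.toLinAlgEquiv' (n := Fin n) (R := K)
  have key : ∀ g : Matrix (Fin n) (Fin n) K, g * g = g → 2 ≤ finrank K (LinearMap.range (φ g)) →
      ∃ y : Matrix (Fin n) (Fin n) K, y ≠ 0 ∧ y * y = 0 ∧ g * y = y ∧ y * g = y := fun g hg h2 => by
    obtain ⟨y, h1, h4, h5, h6⟩ := exists_nil_end (f := φ g) (by rw [← map_mul, hg]) h2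
    obtain ⟨y, rfl⟩ := φ.surjective y
    rw [← map_mul] at h4 h5 h6
    exact ⟨y, fun h0 => h1 (by rw [h0, map_zero]), φ.injective (h4.trans (map_zero φ).symm), φ.injective h5,
      φ.injective h6⟩
  have h1 : LinearMap.range (φ f) ⊔ LinearMap.range (φ (1 - f)) = ⊤ := eq_top_iff.2 fun v _ =>
    Submodule.mem_sup.2 ⟨_, ⟨v, rfl⟩, _, ⟨v, rfl⟩, by
      rw [← LinearMap.add_apply, ← map_add, add_sub_cancel, map_one, End.one_apply]⟩
  have h2 := Submodule.finrank_add_le_finrank_add_finrank (LinearMap.range (φ f)) (LinearMap.range (φ (1 - f)))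
  rw [h1, finrank_top, Module.finrank_fin_fun] at h2
  by_cases h4 : 2 ≤ finrank K (LinearMap.range (φ f))
  · obtain ⟨y, a1, a2, a3⟩ := key f hf h4
    exact ⟨y, a1, a2, Or.inl a3⟩
  · obtain ⟨y, a1, a2, a3⟩ := key (1 - f) (by rw [mul_sub, mul_one, sub_mul, one_mul, hf, sub_self, sub_zero])
      (by omega)
    exact ⟨y, a1, a2, Or.inr a3⟩

theorem prime_mat {a b : Matrix (Fin n) (Fin n) K} (ha : a ≠ 0) (hb : b ≠ 0) : ∃ c, a * c * b ≠ 0 := by
  obtain ⟨i, j, h1⟩ : ∃ i j, a i j ≠ 0 := by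
    by_contra hcon
    push Not at hcon
    exact ha (Matrix.ext hcon)
  obtain ⟨k, l, h2⟩ : ∃ i j, b i j ≠ 0 := by
    by_contra hcon
    push Not at hcon
    exact hb (Matrix.ext hcon)
  refine ⟨Matrix.single j k 1, fun h0 => mul_ne_zero h1 h2 ?_⟩
  have h3 := congrFun (congrFun h0 i) l
  rw [Matrix.mul_apply, Finset.sum_eq_single k (fun x _ hx => by
    rw [Matrix.mul_single_apply_of_ne _ _ _ _ _ hx, zero_mul]) (fun h => absurd (Finset.mem_univ _) h),
    Matrix.mul_single_apply_same, mul_one] at h3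
  exact h3

theorem two_mat (h3 : 3 ≤ n) {f : Matrix (Fin n) (Fin n) K} (hf : f * f = f) (h0 : f ≠ 0) (h1 : 1 - f ≠ 0) :
    ∃ x y : Matrix (Fin n) (Fin n) K, f * x = x ∧ x * f = 0 ∧ y * y = 0 ∧ x * y ≠ y * x ∧
      ((f * y = y ∧ y * f = y) ∨ (f * y = 0 ∧ y * f = 0)) := by
  have hf' : (1 - f) * f = 0 := by rw [sub_mul, one_mul, hf, sub_self]
  obtain ⟨y, y0, y1, ⟨y2, y3⟩ | ⟨y2, y3⟩⟩ := exists_nil_mat h3 hf
  · obtain ⟨c, hc⟩ := prime_mat y0 h1
    refine ⟨f * c * (1 - f), y, by rw [← mul_assoc, ← mul_assoc, hf], by rw [mul_assoc, hf', mul_zero], y1,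
      fun e => hc ?_, Or.inl ⟨y2, y3⟩⟩
    rw [← mul_assoc, ← mul_assoc, y3] at e
    rw [← e, ← y2, ← mul_assoc, mul_assoc _ _ f, hf', mul_zero, zero_mul]
  · obtain ⟨c, hc⟩ := prime_mat h0 y0
    have y4 : y * f = 0 := by rw [← y3, mul_assoc, hf', mul_zero]
    refine ⟨f * c * (1 - f), y, by rw [← mul_assoc, ← mul_assoc, hf], by rw [mul_assoc, hf', mul_zero], y1,
      fun e => hc ?_, Or.inr ⟨by rw [← y2, ← mul_assoc, mul_sub, mul_one, hf, sub_self, zero_mul], y4⟩⟩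
    rw [mul_assoc, y2] at e
    rw [e, ← mul_assoc, ← mul_assoc, y4, zero_mul, zero_mul]

/-- an element of the radical and an element of the parabolic subgroup which do not commute -/
theorem flag_mat (h3 : 3 ≤ n) {a b : Matrix (Fin n) (Fin n) K} (aa : a * a = a) (bb : b * b = b) (ab : a * b = 0)
    (ba : b * a = 0) (h : (a ≠ 0 ∧ a ≠ 1) ∨ (b ≠ 0 ∧ b ≠ 1)) :
    ∃ x y : Matrix (Fin n) (Fin n) K, x * x = 0 ∧ y * y = 0 ∧ x * y ≠ y * x ∧ a * x = 0 ∧ x * b = 0 ∧
      (1 - b) * x * (1 - a) = 0 ∧ a * y * (1 - a) = 0 ∧ (1 - b) * y * b = 0 := by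
  have sq : ∀ f x : Matrix (Fin n) (Fin n) K, f * x = x → x * f = 0 → x * x = 0 := fun f x h1 h2 => by
    nth_rewrite 2 [← h1]
    rw [← mul_assoc, h2, zero_mul]
  by_cases hb : b = 0
  · subst hb
    have ha := h.resolve_right fun h => h.1 rfl
    obtain ⟨x, y, x1, x2, y1, xy, hy⟩ := two_mat h3 (f := 1 - a)
      (by rw [mul_sub, mul_one, sub_mul, one_mul, aa, sub_self, sub_zero]) (sub_ne_zero.2 ha.2.symm)
      (by rw [sub_sub_cancel]; exact ha.1)
    have h4 : a * (1 - a) = 0 := by rw [mul_sub, mul_one, aa, sub_self]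
    refine ⟨x, y, sq _ x x1 x2, y1, xy, by rw [← x1, ← mul_assoc, h4, zero_mul], mul_zero _,
      by rw [mul_assoc, x2, mul_zero], ?_, mul_zero _⟩
    rcases hy with hy | hy
    · rw [← hy.1, ← mul_assoc, h4, zero_mul, zero_mul]
    · rw [mul_assoc, hy.2, mul_zero]
  have h4 : (1 - b) * b = 0 := by rw [sub_mul, one_mul, bb, sub_self]
  by_cases hab : a = 0 ∨ a = 1 - b
  · have hb1 : 1 - b ≠ 0 := fun e => by
      rcases h with h | h
      · rcases hab with h5 | h5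
        · exact h.1 h5
        · exact h.1 (h5.trans e)
      · exact h.2 (sub_eq_zero.1 e).symm
    obtain ⟨x, y, x1, x2, y1, xy, hy⟩ := two_mat h3 bb hb hb1
    refine ⟨x, y, sq _ x x1 x2, y1, xy, by rw [← x1, ← mul_assoc, ab, zero_mul], x2,
      by rw [← x1, ← mul_assoc, h4, zero_mul, zero_mul], ?_, ?_⟩
    · rcases hab with h5 | h5
      · rw [h5, zero_mul, zero_mul]
      · rcases hy with hy | hy
        · rw [← hy.1, ← mul_assoc, ab, zero_mul, zero_mul]
        · rw [h5, sub_sub_cancel, mul_assoc, hy.2, mul_zero]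
    · rcases hy with hy | hy
      · rw [← hy.1, ← mul_assoc, h4, zero_mul, zero_mul]
      · rw [mul_assoc, hy.2, mul_zero]
  push Not at hab
  obtain ⟨g, hg⟩ : ∃ g, g = 1 - a - b := ⟨_, rfl⟩
  have g0 : g ≠ 0 := fun e => hab.2 (by rw [hg, sub_right_comm, sub_eq_zero] at e; exact e.symm)
  have ag : a * g = 0 := by rw [hg, mul_sub, mul_sub, mul_one, aa, ab, sub_self, sub_zero]
  have gb : g * b = 0 := by rw [hg, sub_mul, sub_mul, one_mul, bb, ab, sub_zero, sub_self]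
  have gg : g * g = g := by
    nth_rewrite 2 [hg]
    rw [mul_sub, mul_sub, mul_one, gb, sub_zero]
    nth_rewrite 2 [hg]
    rw [sub_mul, sub_mul, one_mul, aa, ba, sub_self, sub_zero, sub_zero]
  obtain ⟨c, hc⟩ := prime_mat hb g0
  obtain ⟨d, hd⟩ := prime_mat hc hab.1
  refine ⟨b * c * g, g * d * a, ?_, ?_, fun e => hd ?_, ?_, ?_, ?_, ?_, ?_⟩
  · rw [mul_assoc _ g, ← mul_assoc g, ← mul_assoc g, gb, zero_mul, zero_mul, mul_zero]
  · rw [mul_assoc _ a, ← mul_assoc a, ← mul_assoc a, ag, zero_mul, zero_mul, mul_zero]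
  · rw [mul_assoc _ a, ← mul_assoc a, ← mul_assoc a, ab, zero_mul, zero_mul, mul_zero, ← mul_assoc, ← mul_assoc,
      mul_assoc _ g g, gg] at e
    exact e
  · rw [← mul_assoc, ← mul_assoc, ab, zero_mul, zero_mul]
  · rw [mul_assoc, gb, mul_zero]
  · rw [← mul_assoc, ← mul_assoc, h4, zero_mul, zero_mul, zero_mul]
  · rw [← mul_assoc, ← mul_assoc, ag, zero_mul, zero_mul, zero_mul]
  · rw [mul_assoc, mul_assoc, ab, mul_zero, mul_zero]

theorem L_eq_LR (F : FR (LR (Fin n) K)) : F.L = Lmax _ := by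
  refine F.L_eq (c := LR.mk 1 0) (Subring.mem_center_iff.2 fun g => ?_) LR.half
  obtain ⟨a, b, rfl⟩ := LR.exists_mk g
  rw [LR.mk_mul, LR.mk_mul, mul_one, one_mul, mul_zero, zero_mul]

theorem mk_eq_zero {a b : Matrix (Fin n) (Fin n) K} : (LR.mk a b : LR (Fin n) K) = 0 ↔ a = 0 ∧ b = 0 :=
  ⟨fun h => ⟨congrArg Prod.fst h, congrArg Prod.snd h⟩, fun h => by rw [h.1, h.2, LR.zero_eq]⟩

theorem par_LR (h3 : 3 ≤ n) {F : FR (LR (Fin n) K)} {e : LR (Fin n) K} (he : Hyp F e) (h0 : e ≠ 0)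
    (h1 : ¬ ∀ a, e * a * (1 - e) = 0) (h : PC F e) : False := by
  obtain ⟨a, b, rfl⟩ := LR.exists_mk e
  obtain ⟨b, rfl⟩ : ∃ b', b = b'ᵀ := ⟨bᵀ, rfl⟩
  have i1 : a * a = a := congrArg Prod.fst he.idem
  have i2 : b * b = b := congrArg Prod.fst he.sidem
  have i3 : a * b = 0 := congrArg Prod.fst he.ms
  have i4 : b * a = 0 := congrArg Prod.fst he.sm
  have hnil : ∀ x : Matrix (Fin n) (Fin n) K, x * x = 0 → Nil F (LR.mk x 0) := fun x hx =>
    Nil.of_max (L_eq_LR F) (by rw [LR.mk_mul, hx, mul_zero, LR.zero_eq])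
      (by rw [LR.star_mk, LR.mk_mul, Matrix.transpose_zero, mul_zero, zero_mul, LR.zero_eq])
      (by rw [LR.star_mk, LR.mk_mul, Matrix.transpose_zero, mul_zero, zero_mul, LR.zero_eq])
  have hval : ∀ x hx, ((hnil x hx).unit : LR (Fin n) K) = LR.mk (1 + x) (1 - xᵀ) := fun x hx => by
    rw [Nil.unit_val, LR.star_mk, LR.mk_sub, LR.one_eq, LR.mk_add, Matrix.transpose_zero, sub_zero, zero_sub,
      sub_eq_add_neg]
  obtain ⟨x, y, x1, y1, xy, c1, c2, c3, c4, c5⟩ := flag_mat h3 i1 i2 i3 i4 (by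
    by_contra hcon
    simp only [not_or, not_and_or, not_not] at hcon
    refine h1 fun z => ?_
    obtain ⟨z, z', rfl⟩ := LR.exists_mk z
    rw [LR.one_eq, LR.mk_sub, LR.mk_mul, LR.mk_mul, mk_eq_zero]
    constructor
    · rcases hcon.1 with h2 | h2 <;> simp [h2]
    · rcases hcon.2 with h2 | h2 <;> simp [h2])
  have h2 := h _ (hnil y y1).unit_mem _ (hnil x x1).unit_mem (by
      rw [hval y y1, LR.one_eq, LR.mk_sub, LR.mk_mul, LR.mk_mul, mk_eq_zero]
      constructor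
      · rw [mul_add, add_mul, c4, mul_one, mul_sub, mul_one, i1, sub_self, add_zero]
      · apply Matrix.transpose_injective
        simp only [Matrix.transpose_mul, Matrix.transpose_sub, Matrix.transpose_one, Matrix.transpose_transpose,
          Matrix.transpose_zero]
        rw [sub_mul 1 y, mul_sub (1 - b), ← mul_assoc _ y, c5, one_mul, sub_mul, one_mul, i2, sub_self, sub_zero])
    (by
      rw [hval x x1, LR.one_eq, LR.mk_sub, LR.mk_mul, mk_eq_zero, add_sub_cancel_left, sub_sub_cancel_left, mul_neg,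
        ← Matrix.transpose_mul, c2, Matrix.transpose_zero, neg_zero]
      exact ⟨c1, rfl⟩)
    (by
      rw [hval x x1, LR.star_mk, LR.one_eq, LR.mk_sub, LR.mk_sub, LR.mk_sub, LR.mk_mul, LR.mk_mul, mk_eq_zero,
        add_sub_cancel_left, sub_sub_cancel_left, Matrix.transpose_transpose]
      refine ⟨c3, Matrix.transpose_injective ?_⟩
      simp only [Matrix.transpose_mul, Matrix.transpose_sub, Matrix.transpose_one, Matrix.transpose_transpose,
        Matrix.transpose_zero, Matrix.transpose_neg]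
      rw [neg_mul, mul_neg, ← mul_assoc, c3, neg_zero])
  rw [hval x x1, hval y y1, LR.mk_mul, LR.mk_mul] at h2
  have h4 : (1 + y) * (1 + x) = (1 + x) * (1 + y) := congrArg Prod.fst h2
  refine xy ?_
  calc x * y = (1 + x) * (1 + y) - (1 + x + y) := by noncomm_ring
    _ = y * x := by rw [← h4]; noncomm_ring

end lin

/-! ### Forms -/

section hf

variable {K V : Type} [Field K] [Finite K] [AddCommGroup V] [Module K V] [Finite V] {h : HF K V} {F : FR h.EB}
  {e : h.EB}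

theorem prime_hf {a b : h.EB} (ha : a ≠ 0) (hb : b ≠ 0) : ∃ c, a * c * b ≠ 0 := by
  obtain ⟨u, hu⟩ : ∃ u, h.ap a u ≠ 0 := by
    by_contra hcon
    push Not at hcon
    exact ha (h.ap_ext hcon)
  obtain ⟨x, hx⟩ : ∃ x, h.ap b x ≠ 0 := by
    by_contra hcon
    push Not at hcon
    exact hb (h.ap_ext hcon)
  obtain ⟨w, hw⟩ := h.exists_ne hx
  refine ⟨h.eb (h.ro u w), fun h0 => ?_⟩
  have h1 : h.ap (a * h.eb (h.ro u w) * b) x = 0 := by rw [h0]; rfl
  rw [h.ap_mul, h.ap_mul, h.ap_eb, h.ro_apply, map_smul, smul_eq_zero] at h1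
  exact h1.elim (h.ne_swap hw) hu

/-- no isometry is supported on the non-degenerate part -/
theorem PC.qr (hp : PC F e) (he : Hyp F e) (h0 : e ≠ 0) {g : h.EBˣ} (hg : g ∈ F.Iso) {κ : K} {v : V}
    (hv : (g : h.EB) = qr h κ v) (h1 : h.ap e v = 0) (h2 : h.ap (star e) v = 0) : κ = 0 ∨ v = 0 := by
  have h3 : ∀ x, h.ap ((g : h.EB) - 1) x = -(κ * h.b x v) • v := fun x => by
    rw [h.ap_sub, hv, ap_qr, h.ap_one, sub_sub_cancel_left, neg_smul]
  by_contra hcon
  push Not at hcon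
  have h4 : (g : h.EB) - 1 ≠ 0 := fun h5 => by
    obtain ⟨x, hx⟩ := h.exists_ne hcon.2
    have h6 := h3 x
    rw [h5, ap_zero, eq_comm, smul_eq_zero, neg_eq_zero] at h6
    exact h6.elim (mul_ne_zero hcon.1 hx) hcon.2
  obtain ⟨c, hc⟩ := prime_hf h4 h0
  refine hc (hp.levi he hg (h.ap_ext fun x => ?_) (h.ap_ext fun x => ?_) (h.ap_ext fun x => ?_) c)
  · rw [h.ap_mul, h3, map_smul, h1, smul_zero, ap_zero]
  · rw [h.ap_mul, h3, ← h.b_star, h2, h.zero_right, mul_zero, neg_zero, zero_smul, ap_zero]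
  · rw [h.ap_mul, h3, h.star_b, h1, h.zero_right, mul_zero, neg_zero, zero_smul, ap_zero]

/-- the centre of the radical -/
theorem PC.vec (hp : PC F e) (he : Hyp F e) {u : h.EBˣ} (hu : u ∈ F.Iso) (h1 : star e * ((u : h.EB) - 1) = u - 1)
    (h2 : ((u : h.EB) - 1) * e = u - 1) {w y : V} (hw : h.ap (star e) w = w) (h0 : w ≠ 0) (hy : h.b y w = 0) :
    h.ap ((u : h.EB) - 1) y ∈ Submodule.span K {w} := by
  have h3 : h.b (h.ap e y) w = 0 := by rw [← h.b_star, hw, hy]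
  have h4 := hp.cen he hu h1 h2 (n := h.eb (h.ro (h.ap e y) w)) (h.ap_ext fun x => by
      rw [h.ap_mul, h.ap_eb, h.ro_apply, map_smul, ← h.ap_mul, he.idem])
    (h.ap_ext fun x => by rw [h.ap_mul, h.ap_eb, h.ro_apply, h.ro_apply, ← h.b_star, hw])
    (h.ap_ext fun x => by
      rw [h.ap_mul, h.ap_eb, h.ro_apply, h.ro_apply, h.smul_left, h3, mul_zero, zero_smul, ap_zero])
  obtain ⟨z, hz⟩ := h.exists_ne h0
  have h5 := congrArg (fun a => h.ap a z) h4
  simp only [← neg_mul, h.ap_mul, h.ap_eb, h.ro_apply, map_smul] at h5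
  rw [← h.ap_mul, h2, ← star_neg] at h5
  have h6 : -h.eb (h.ro (h.ap e y) w) = h.eb (h.ro (-h.ap e y) w) := h.ap_ext fun x => by
    rw [h.ap_eb, h.ro_apply, smul_neg]; rfl
  rw [h6, ap_star_ro] at h5
  rw [← Submodule.smul_mem_iff _ hz, h5]
  exact Submodule.smul_mem _ _ (Submodule.mem_span_singleton_self w)

theorem exists_perp {X : Submodule K V} {v : V} (hv : v ∉ X) : ∃ y, (∀ x ∈ X, h.b y x = 0) ∧ h.b y v ≠ 0 := by
  obtain ⟨φ, h1, h2⟩ := Submodule.exists_le_ker_of_notMem hv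
  obtain ⟨y, hy⟩ := h.exists_rep φ
  exact ⟨y, fun x hx => by rw [h.swap, hy, h2 hx, map_zero, mul_zero], h.ne_swap (by rw [hy]; exact h1)⟩

/-- a maximal totally isotropic subspace has half the dimension -/
theorem dim_le (h1 : 1 - e - star e = 0) : finrank K V ≤ 2 * finrank K (LinearMap.range (h.ap (star e))) := by
  have : Module.Finite K V := Module.Finite.of_finite
  let W := LinearMap.range (h.ap (star e))
  let c := Module.finBasis K W
  let f : V →ₗ[K] (Fin (finrank K W) → K) := LinearMap.pi fun i => h.lin (c i)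
  have h2 : LinearMap.ker f ≤ W := fun y hy => by
    have h3 : ∀ w : W, h.b w y = 0 := fun w => LinearMap.congr_fun
      (c.ext (f₁ := (h.lin y).comp W.subtype) (f₂ := 0) fun i => by
        have h4 : h.b y (c i) = 0 := congrFun hy i
        change h.b (c i) y = 0
        rw [h.swap, h4, map_zero, mul_zero]) w
    have h4 : h.ap e y = 0 := h.nondeg _ fun x => by rw [← h.star_b]; exact h3 ⟨_, x, rfl⟩
    refine ⟨y, ?_⟩
    rw [← sub_eq_zero.1 h1, h.ap_sub, h.ap_one, h4, sub_zero]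
  have h3 := LinearMap.finrank_range_add_finrank_ker f
  have h4 := Submodule.finrank_mono h2
  have h5 := Submodule.finrank_le (LinearMap.range f)
  rw [Module.finrank_fin_fun] at h5
  change finrank K V ≤ 2 * finrank K W
  omega

theorem exists_notMem (he : Hyp F e) {s : Finset V} (hs : s.card < finrank K (LinearMap.range (h.ap (star e)))) :
    ∃ w, h.ap (star e) w = w ∧ w ∉ Submodule.span K (s : Set V) := by
  have : Module.Finite K V := Module.Finite.of_finite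
  by_contra hcon
  push Not at hcon
  have h1 : LinearMap.range (h.ap (star e)) ≤ Submodule.span K (s : Set V) := by
    rintro _ ⟨x, rfl⟩
    exact hcon _ (by rw [← h.ap_mul, he.sidem])
  have h2 := (Submodule.finrank_mono h1).trans (finrank_span_finset_le_card s)
  omega

theorem b_W (he : Hyp F e) {w w' : V} (hw : h.ap (star e) w = w) (hw' : h.ap (star e) w' = w') : h.b w w' = 0 := by
  rw [← hw, h.star_b, ← hw', ← h.ap_mul, he.ms, ap_zero, h.zero_right]

/-- a vector of the non-degenerate part -/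
theorem exists_mid (he : Hyp F e) (h1 : 1 - e - star e ≠ 0) :
    ∃ u v, h.b u v ≠ 0 ∧ (h.ap e u = 0 ∧ h.ap (star e) u = 0) ∧ h.ap e v = 0 ∧ h.ap (star e) v = 0 := by
  obtain ⟨v, hv, hv0⟩ := exists_fix he.e0_idem h1
  obtain ⟨u, hu⟩ := h.exists_ne hv0
  have h2 : ∀ x, h.ap e (h.ap (1 - e - star e) x) = 0 ∧ h.ap (star e) (h.ap (1 - e - star e) x) = 0 := fun x => by
    rw [← h.ap_mul, ← h.ap_mul]
    constructor
    · rw [show e * (1 - e - star e) = 0 by simp [mul_sub, he.idem, he.ms], ap_zero]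
    · rw [show star e * (1 - e - star e) = 0 by simp [mul_sub, he.sidem, he.sm], ap_zero]
  refine ⟨h.ap (1 - e - star e) u, v, ?_, h2 u, hv ▸ h2 v⟩
  rwa [← h.b_star, Hyp.e0_star, hv]

/-- transvections in the centre of the radical -/
theorem false_of_tv (hp : PC F e) (he : Hyp F e) (h1 : 1 - e - star e = 0) (h3 : 3 ≤ finrank K V) {κ : K}
    (hκ : κ ≠ 0) (hq : ∀ w, h.b w w = 0 → ∃ u ∈ F.Iso, (u : h.EB) = qr h κ w) : False := by
  classical
  have h2 := dim_le h1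
  obtain ⟨w, hw, hw0⟩ := exists_notMem he (s := ∅) (by rw [Finset.card_empty]; omega)
  obtain ⟨w', hw', hww⟩ := exists_notMem he (s := {w}) (by rw [Finset.card_singleton]; omega)
  rw [Finset.coe_singleton] at hww
  obtain ⟨y, hy, hy'⟩ := exists_perp (h := h) hww
  obtain ⟨u, hu, huw⟩ := hq w' (b_W he hw' hw')
  have h4 : ∀ x, h.ap ((u : h.EB) - 1) x = -(κ * h.b x w') • w' := fun x => by
    rw [h.ap_sub, huw, ap_qr, h.ap_one, sub_sub_cancel_left, neg_smul]
  have h5 := hp.vec he hu (h.ap_ext fun x => by rw [h.ap_mul, h4, map_smul, hw'])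
    (h.ap_ext fun x => by rw [h.ap_mul, h4, h4, ← h.b_star, hw']) hw
    (fun h0 => hw0 (by rw [h0]; exact Submodule.zero_mem _)) (hy w (Submodule.mem_span_singleton_self w))
  rw [h4, Submodule.smul_mem_iff _ (neg_ne_zero.2 (mul_ne_zero hκ hy'))] at h5
  exact hww h5

theorem tv_U (hU : IsU h) (hL : F.L = Lmax _) {κ : K} {v : V} (hκ : κ + h.τ κ = κ * h.τ κ * h.b v v) :
    ∃ u ∈ F.Iso, (u : h.EB) = qr h κ v :=
  ⟨isoU h _ (qr_form h hU.1 hκ), mem_Iso_max hL (isoU_ms h _ _), rfl⟩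

theorem alt_Sp (hb : ∀ v, h.b v v = 0) (u v : V) : h.b u v = -h.b v u := by
  have h1 := hb (u + v)
  rw [h.add_left, h.add_right, h.add_right, hb, hb] at h1
  linear_combination h1

theorem tv_Sp (hS : IsSp h F) (κ : K) (v : V) : ∃ u ∈ F.Iso, (u : h.EB) = qr h κ v := by
  refine ⟨isoU h (qr h κ v) fun x y => ?_, mem_Iso_max hS.2.2 (isoU_ms h _ _), rfl⟩
  rw [ap_qr, ap_qr, h.sub_left, h.sub_right, h.sub_right, h.smul_left, h.smul_left, h.smul_right, h.smul_right,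
    hS.1, hS.2.1, alt_Sp hS.2.1 v y]
  ring

theorem par_U (hU : IsU h) (hL : F.L = Lmax _) (h3 : 3 ≤ finrank K V) (he : Hyp F e) (h0 : e ≠ 0) (hp : PC F e) :
    False := by
  obtain ⟨d, hd⟩ := hU.2
  have hd0 : d ≠ 0 := fun h1 => hd (by rw [h1, map_zero])
  have hd1 : h.τ d ≠ 0 := (map_ne_zero h.τ).2 hd0
  by_cases h1 : 1 - e - star e = 0
  · refine false_of_tv hp he h1 h3 (κ := d - h.τ d) (sub_ne_zero.2 hd.symm) fun w hw => tv_U hU hL ?_
    rw [hw, map_sub, h.τ_τ]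
    ring
  obtain ⟨u, v, huv, hu, hv⟩ := exists_mid he h1
  have hv0 : v ≠ 0 := fun h2 => huv (by rw [h2, h.zero_right])
  by_cases hvv : h.b v v = 0
  · obtain ⟨g, hg, hgv⟩ := tv_U hU hL (κ := d - h.τ d) (v := v) (by rw [hvv, map_sub, h.τ_τ]; ring)
    exact (hp.qr he h0 hg hgv hv.1 hv.2).elim (sub_ne_zero.2 hd.symm) hv0
  · have h2 : h.τ (h.b v v) = h.b v v := by
      have h4 := h.swap v v
      rw [hU.1, one_mul] at h4
      exact h4.symm
    obtain ⟨g, hg, hgv⟩ := tv_U hU hL (κ := (1 - d / h.τ d) / h.b v v) (v := v) (by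
      rw [map_div₀, map_sub, map_div₀, map_one, h.τ_τ, h2]
      field_simp
      ring)
    refine (hp.qr he h0 hg hgv hv.1 hv.2).elim (div_ne_zero (sub_ne_zero.2 fun h4 => hd ?_) hvv) hv0
    rw [eq_div_iff hd1, one_mul] at h4
    exact h4

theorem par_Sp (hS : IsSp h F) (h3 : 3 ≤ finrank K V) (he : Hyp F e) (h0 : e ≠ 0) (hp : PC F e) : False := by
  by_cases h1 : 1 - e - star e = 0
  · exact false_of_tv hp he h1 h3 one_ne_zero fun w _ => tv_Sp hS 1 w
  obtain ⟨u, v, huv, hu, hv⟩ := exists_mid he h1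
  obtain ⟨g, hg, hgv⟩ := tv_Sp hS 1 v
  exact (hp.qr he h0 hg hgv hv.1 hv.2).elim one_ne_zero fun h2 => huv (by rw [h2, h.zero_right])

theorem par_O {Q : QuadraticForm K V} (hO : IsO h F Q) (h5 : 5 ≤ finrank K V) (he : Hyp F e) (h0 : e ≠ 0)
    (hp : PC F e) : False := by
  classical
  by_cases h1 : 1 - e - star e = 0
  · have h2 := dim_le h1
    obtain ⟨w, hw, hw0⟩ := exists_notMem he (s := ∅) (by rw [Finset.card_empty]; omega)
    obtain ⟨w₁, hw₁, h3⟩ := exists_notMem he (s := {w}) (by rw [Finset.card_singleton]; omega)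
    obtain ⟨w₂, hw₂, h4⟩ := exists_notMem he (s := {w, w₁}) (lt_of_le_of_lt Finset.card_le_two (by omega))
    rw [Finset.coe_singleton] at h3
    obtain ⟨y, hy, hy'⟩ := exists_perp (h := h) h4
    have hQ : ∀ x, h.ap (star e) x = x → h.b x (h.ap F.l x) = 0 := fun x hx => by
      have h6 := (mem_L_O hO _).1 he.q1
      have h7 : ∀ z, h.b (h.ap (star e) z) (h.ap F.l (h.ap (star e) z)) = 0 := fun z => by
        rw [h.star_b, ← h.ap_mul, ← h.ap_mul]
        exact h6 z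
      rw [← hx]
      exact h7 x
    have hn := nil_ro h F (b_W he hw₁ hw₁) (b_W he hw₂ hw₂) (b_W he hw₁ hw₂) (Or.inr ⟨hQ _ hw₁, hQ _ hw₂⟩)
    have h6 : ∀ x, h.ap ((hn.unit : h.EB) - 1) x = h.b x w₂ • w₁ - h.b x w₁ • w₂ := fun x => by
      rw [hn.unit_val, add_sub_cancel_left, h.ap_sub, ap_star_ro, h.ap_eb, h.ro_apply, hO.1, O_symm hO w₁]
    have h7 := hp.vec he hn.unit_mem (h.ap_ext fun x => by rw [h.ap_mul, h6, map_sub, map_smul, map_smul, hw₁, hw₂])
      (h.ap_ext fun x => by rw [h.ap_mul, h6, h6, ← h.b_star, ← h.b_star, hw₁, hw₂]) hw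
      (fun h0 => hw0 (by rw [h0]; exact Submodule.zero_mem _)) (hy w (Submodule.subset_span (by simp)))
    rw [h6, hy w₁ (Submodule.subset_span (by simp)), zero_smul, sub_zero, Submodule.smul_mem_iff _ hy'] at h7
    exact h3 h7
  obtain ⟨u, v, huv, hu, hv⟩ := exists_mid he h1
  have key : ∀ x, h.ap e x = 0 → h.ap (star e) x = 0 → Q x = 0 := fun x a1 a2 => by
    by_contra hx
    obtain ⟨g, hg, hgv⟩ := exists_reflU hO hx
    exact (hp.qr he h0 hg hgv a1 a2).elim (inv_ne_zero hx) fun h2 => hx (by rw [h2, map_zero])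
  have h2 := O_add hO u v
  rw [key u hu.1 hu.2, key v hv.1 hv.2, key _ (by rw [map_add, hu.1, hv.1, add_zero])
    (by rw [map_add, hu.2, hv.2, add_zero]), zero_add, zero_add] at h2
  exact huv h2.symm

end hf

end Cases

open Cases in
/-- **[C-Par]** -/
theorem boxPar : BoxPar := by
  refine ⟨fun K _ _ n F G H m p k c h => ?_, fun K V _ _ _ _ _ f F q G H m p k c h => ?_,
    fun K V _ _ _ _ _ f F q G H m p k c h => ?_, fun K V _ _ _ _ _ f F q G H m p k c h => ?_⟩ <;>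
    obtain ⟨e, he, h0, h1, hp⟩ := exists_pc c h
  · exact par_LR k.dim he h0 h1 hp
  · exact par_U k.u k.L k.dim he h0 hp
  · exact par_Sp k.sp (by have := k.dim; have := k.two; omega) he h0 hp
  · exact par_O k.o (by have := k.dim; omega) he h0 hp

end Cfsg.Agent.TH.Cl
end
end

-- part: TH/Cl/Cases/NS
section
prune_inst 0x10000000000000
set_option linter.all false
open scoped Cfsg.Agent.FastGrp

/-!
# S3541, classical socles: the box `BoxNS` (helper23)

Only orthogonal groups in characteristic two, `H` fixes a non-singular vector `w`.  The involution `r_w r_z` (`z ⊥ w`)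
of `H ⊓ F.S` fixes only vectors orthogonal to `w`; UNI gives `b (g w) w = 0` for all `g`, false for `g = r_a r_w`.
-/

set_option autoImplicit false
set_option linter.unusedSectionVars false

namespace Cfsg.Agent.TH.Cl

open Cfsg.Agent.DS.Cl Cfsg.Agent.DS.Cl.Fwd Cfsg.Agent.SB.Cl Cfsg.Agent.SB.Tor Module

namespace Cases

theorem ns_max {A : Type} [Ring A] [StarRing A] {F : FR A} {H : Subgroup (RingAut A)} (hL : F.L = Lmax A)
    (h : NSD F H) : False := by
  obtain ⟨R, h0, -, h1, h2⟩ := h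
  refine h0 (eq_bot_iff.2 fun x hx => h2 x hx ?_)
  rw [hL]
  change star (x * F.l * star x) = -(x * F.l * star x)
  rw [star_mul, star_mul, star_star, ← mul_assoc, eq_neg_iff_add_eq_zero, ← add_mul, ← mul_add, add_comm, F.l_add,
    mul_one, h1 x hx x hx]

variable {K V : Type} [Field K] [Finite K] [AddCommGroup V] [Module K V] [Finite V] {h : HF K V} {F : FR h.EB}
  {Q : QuadraticForm K V} (hO : IsO h F Q)
include hO

theorem Q_star (x : h.EB) (v : V) : h.b v (h.ap (x * F.l * star x) v) = Q (h.ap (star x) v) := by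
  rw [h.ap_mul, h.ap_mul, ← h.star_b, hO.2.2.2]

theorem qr_smul {t : K} (ht : t ≠ 0) (v : V) : qr h (Q (t • v))⁻¹ (t • v) = qr h (Q v)⁻¹ v := h.ap_ext fun x => by
  rw [ap_qr, ap_qr, QuadraticMap.map_smul, h.smul_right, hO.1, smul_smul, smul_eq_mul]
  congr 2
  by_cases h0 : Q v = 0
  · simp [h0]
  · field_simp

variable (h2 : (2 : K) = 0)
include h2

theorem b_self_two (v : V) : h.b v v = 0 := by rw [O_self hO, h2, zero_mul]

theorem refl_sq {v : V} {r : h.EBˣ} (hr : (r : h.EB) = qr h (Q v)⁻¹ v) : r * r = 1 := Units.ext (h.ap_ext fun x => by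
  rw [Units.val_mul, h.ap_mul, hr, ap_qr, ap_qr, h.sub_left, h.smul_left, b_self_two hO h2, mul_zero, sub_zero,
    sub_sub, ← add_smul, ← two_mul, h2, zero_mul, zero_smul, sub_zero, Units.val_one, h.ap_one])

/-- in characteristic two the product of two reflections is a commutator -/
theorem refl_mul_mem {a c : V} (ha : Q a ≠ 0) (hc : Q c ≠ 0) {r s : h.EBˣ} (hs' : s ∈ F.Iso)
    (hr : (r : h.EB) = qr h (Q a)⁻¹ a) (hs : (s : h.EB) = qr h (Q c)⁻¹ c) : DS.Cl.cj h.EB (r * s) ∈ F.S := by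
  have : CharP K 2 := (CharP.charP_iff_prime_eq_zero Nat.prime_two).2 h2
  obtain ⟨t, ht⟩ := FiniteField.isSquare_of_char_two (ringChar.eq K 2) (Q c / Q a)
  have ht0 : t ≠ 0 := fun h0 => div_ne_zero hc ha (by rw [ht, h0, mul_zero])
  have h1 : Q c = Q (t • a) := by rw [QuadraticMap.map_smul, ← ht, smul_eq_mul, div_mul_cancel₀ _ ha]
  obtain ⟨k, hk, hkc⟩ := witt_O hO (x := c) (y := t • a) (fun h0 => hc (by rw [h0, map_zero]))
    (fun h0 => hc (by rw [h1, h0, map_zero])) h1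
  have h3 : r = k * s * k⁻¹ := Units.ext (by
    rw [Units.val_mul, Units.val_mul, hs, qr_conj h hk.1, hkc, h1, qr_smul hO ht0, hr])
  refine ⟨_, Subgroup.commutator_mem_commutator hk hs', ?_⟩
  rw [commutatorElement_def, ← h3, inv_eq_of_mul_eq_one_right (refl_sq hO h2 hs)]

omit h2 in
theorem exists_perp_ns (h3 : 3 ≤ finrank K V) (hb : ∀ v, h.b v v = 0) {a w : V} (haw : h.b a w ≠ 0) :
    ∃ z, Q z ≠ 0 ∧ h.b z a = 0 ∧ h.b z w = 0 := by
  classical
  by_contra hcon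
  push Not at hcon
  have hwa : h.b w a = h.b a w := O_symm hO w a
  obtain ⟨π, hπ⟩ : ∃ π : V → V, ∀ x, π x = x - (h.b x w / h.b a w) • a - (h.b x a / h.b a w) • w := ⟨_, fun _ => rfl⟩
  have p1 : ∀ x, h.b (π x) a = 0 := fun x => by
    rw [hπ, h.sub_left, h.sub_left, h.smul_left, h.smul_left, hb, hwa, div_mul_cancel₀ _ haw]
    ring
  have p2 : ∀ x, h.b (π x) w = 0 := fun x => by
    rw [hπ, h.sub_left, h.sub_left, h.smul_left, h.smul_left, hb, div_mul_cancel₀ _ haw]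
    ring
  have q0 : ∀ z, h.b z a = 0 → h.b z w = 0 → Q z = 0 := fun z a1 a2 => by
    by_contra h0
    exact hcon z h0 a1 a2
  have p3 : ∀ x, π x = 0 := fun x => h.nondeg _ fun y => by
    have h1 := O_add hO (π x) (π y)
    rw [q0 _ (p1 x) (p2 x), q0 _ (p1 y) (p2 y), q0 _ (by rw [h.add_left, p1, p1, add_zero])
      (by rw [h.add_left, p2, p2, add_zero]), zero_add, zero_add, hπ y, h.sub_right, h.sub_right, h.smul_right,
      h.smul_right, p1, p2, mul_zero, mul_zero, sub_zero, sub_zero] at h1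
    rw [O_symm hO, ← h1]
  have h1 : (⊤ : Submodule K V) ≤ Submodule.span K (({a, w} : Finset V) : Set V) := fun x _ => by
    have h4 := p3 x
    rw [hπ, sub_sub, sub_eq_zero] at h4
    rw [h4]
    exact Submodule.add_mem _ (Submodule.smul_mem _ _ (Submodule.subset_span (by simp)))
      (Submodule.smul_mem _ _ (Submodule.subset_span (by simp)))
  have : Module.Finite K V := Module.Finite.of_finite
  have h4 := ((Submodule.finrank_mono h1).trans (finrank_span_finset_le_card _)).trans Finset.card_le_two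
  rw [finrank_top] at h4
  omega

/-- the subspace is spanned by a non-singular vector -/
theorem line_of_ns {R : Ideal h.EB} (h1 : ∀ x ∈ R, ∀ y ∈ R, x * star y = 0)
    (hns : ∀ x ∈ R, x * F.l * star x ∈ F.L → x = 0) {x₀ : h.EB} (hx₀ : x₀ ∈ R) {v₀ : V}
    (hw : Q (h.ap (star x₀) v₀) ≠ 0) {x : h.EB} (hx : x ∈ R) (v : V) :
    ∃ t : K, h.ap (star x) v = t • h.ap (star x₀) v₀ := by
  have : CharP K 2 := (CharP.charP_iff_prime_eq_zero Nat.prime_two).2 h2
  obtain ⟨w, hw0⟩ : ∃ w, w = h.ap (star x₀) v₀ := ⟨_, rfl⟩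
  rw [← hw0] at hw ⊢
  obtain ⟨t, ht⟩ := FiniteField.isSquare_of_char_two (ringChar.eq K 2) (Q (h.ap (star x) v) / Q w)
  have h3 : h.b (h.ap (star x) v) w = 0 := by
    rw [h.star_b, hw0, ← h.ap_mul, h1 x hx x₀ hx₀, ap_zero, h.zero_right]
  have h4 : Q (h.ap (star x) v - t • w) = 0 := by
    rw [sub_eq_add_neg, ← neg_smul, O_add hO, QuadraticMap.map_smul, h.smul_right, h3, mul_zero, add_zero,
      neg_mul_neg, ← ht, smul_eq_mul, div_mul_cancel₀ _ hw, ← two_mul, h2, zero_mul]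
  have h5 : ∀ z, h.ap (star (star (h.eb (h.ro v w)) * x - star (h.eb (h.ro (t • v₀) w)) * x₀)) z =
      h.b z w • (h.ap (star x) v - t • w) := fun z => by
    rw [star_sub, star_mul, star_mul, star_star, star_star, h.ap_sub, h.ap_mul, h.ap_mul, h.ap_eb, h.ap_eb,
      h.ro_apply, h.ro_apply, map_smul, map_smul, map_smul, ← hw0, smul_sub]
  have h6 := hns _ (R.sub_mem (R.mul_mem_left (star (h.eb (h.ro v w))) hx)
    (R.mul_mem_left (star (h.eb (h.ro (t • v₀) w))) hx₀)) ((mem_L_O hO _).2 fun z => by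
      rw [Q_star hO, h5, QuadraticMap.map_smul, h4, smul_zero])
  obtain ⟨z, hz⟩ := h.exists_ne (v := w) fun h0 => hw (by rw [h0, map_zero])
  have h7 := h5 z
  rw [h6, star_zero, ap_zero, eq_comm, smul_eq_zero, sub_eq_zero] at h7
  exact ⟨t, h7.resolve_left hz⟩

omit h2 in
theorem ns_O (h3 : 3 ≤ finrank K V) {G H : Subgroup (RingAut h.EB)} {m p : ℕ} (c : Ctx F G H m p) (hp : (p : K) = 0)
    (hN : NSD F H) : False := by
  obtain ⟨R, h0, hinv, h1, hns⟩ := hN
  obtain ⟨x₀, hx₀, hx₀'⟩ := Submodule.exists_mem_ne_zero_of_ne_bot h0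
  obtain ⟨v₀, hw⟩ : ∃ v₀, Q (h.ap (star x₀) v₀) ≠ 0 := by
    by_contra hcon
    push Not at hcon
    exact hx₀' (hns x₀ hx₀ ((mem_L_O hO _).2 fun v => by rw [Q_star hO, hcon]))
  have h2 : (2 : K) = 0 := by
    have h4 := O_self hO (h.ap (star x₀) v₀)
    rw [h.star_b, ← h.ap_mul, h1 x₀ hx₀ x₀ hx₀, ap_zero, h.zero_right] at h4
    exact (mul_eq_zero.1 h4.symm).resolve_right hw
  have hp2 : p = 2 := by
    have : CharP K 2 := (CharP.charP_iff_prime_eq_zero Nat.prime_two).2 h2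
    exact ((Nat.prime_dvd_prime_iff_eq Nat.prime_two c.prime).1 ((CharP.cast_eq_zero_iff K 2 p).1 hp)).symm
  have hline := fun x hx v => line_of_ns hO h2 h1 hns hx₀ hw (x := x) hx v
  obtain ⟨w, hw0⟩ : ∃ w, w = h.ap (star x₀) v₀ := ⟨_, rfl⟩
  rw [← hw0] at hw hline
  have hb := b_self_two hO h2
  have hfix : ∀ u ∈ F.Iso, DS.Cl.cj h.EB u x₀ ∈ R → h.ap u w = w := fun u hu hx => by
    obtain ⟨t, ht⟩ := hline _ hx (h.ap u v₀)
    rw [FR.Iso.cj_apply hu, star_mul, star_mul, star_star, h.ap_mul, h.ap_mul, ← FR.Iso.inv_eq hu, ap_inv_ap,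
      ← hw0] at ht
    have h4 := (mem_Iso_O hO u).1 hu w
    rw [ht, QuadraticMap.map_smul, smul_eq_mul, mul_eq_right₀ hw] at h4
    have h5 : (t - 1) ^ 2 = 0 := by linear_combination h4 + (1 - t) * h2
    rw [ht, sub_eq_zero.1 (pow_eq_zero_iff two_ne_zero |>.1 h5), one_smul]
  obtain ⟨a₀, ha₀⟩ := h.exists_ne (v := w) fun h0 => hw (by rw [h0, map_zero])
  obtain ⟨z, hz, hza, hzw⟩ := exists_perp_ns hO h3 hb ha₀
  obtain ⟨a, ha, haw⟩ : ∃ a, Q a ≠ 0 ∧ h.b a w ≠ 0 := by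
    by_cases h4 : Q a₀ = 0
    · exact ⟨z + a₀, by rwa [O_add hO, h4, hza, add_zero, add_zero], by rwa [h.add_left, hzw, zero_add]⟩
    · exact ⟨a₀, h4, ha₀⟩
  obtain ⟨rw', i1, e1⟩ := exists_reflU hO hw
  obtain ⟨rz, i2, e2⟩ := exists_reflU hO hz
  obtain ⟨ra, i3, e3⟩ := exists_reflU hO ha
  have hwz : h.b w z = 0 := by rw [O_symm hO, hzw]
  have hy : ∀ x, h.ap (rw' * rz : h.EBˣ) x = x - ((Q z)⁻¹ * h.b x z) • z - ((Q w)⁻¹ * h.b x w) • w := fun x => by
    rw [Units.val_mul, h.ap_mul, e1, e2, ap_qr, ap_qr, h.sub_left, h.smul_left, hzw, mul_zero, sub_zero]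
  have hg : h.b (h.ap (ra * rw' : h.EBˣ) w) w ≠ 0 := by
    rw [Units.val_mul, h.ap_mul, e1, e3, ap_qr, ap_qr, hb, mul_zero, zero_smul, sub_zero, h.sub_left, h.smul_left,
      hb, zero_sub, O_symm hO w a]
    exact neg_ne_zero.2 (mul_ne_zero (mul_ne_zero (inv_ne_zero ha) haw) haw)
  have hyS := refl_mul_mem hO h2 hw hz i2 e1 e2
  have hgS := refl_mul_mem hO h2 ha hw i1 e3 e1
  have hS : ¬ Inv F.S R := fun h4 => hg (by rw [hfix _ (mul_mem i3 i1) (h4 _ hgS x₀ hx₀), hb])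
  have hyH : DS.Cl.cj h.EB (rw' * rz) ∈ H := by
    refine c.mem_of_inv hinv hS (c.S_le hyS) fun x hx => ?_
    have h4 : ((rw' * rz : h.EBˣ) : h.EB) * star x = star x := h.ap_ext fun v => by
      obtain ⟨t, ht⟩ := hline x hx v
      rw [h.ap_mul, ht, map_smul, hy, hwz, hb, mul_zero, mul_zero, zero_smul, zero_smul, sub_zero, sub_zero]
    have h5 := congrArg star h4
    rw [star_mul, star_star] at h5
    rw [FR.Iso.cj_apply (mul_mem i1 i2), mul_assoc, h5]
    exact R.mul_mem_left _ hx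
  have hyy : (rw' * rz) ^ 2 = 1 := Units.ext (h.ap_ext fun x => by
    rw [pow_two, Units.val_mul, h.ap_mul, hy, hy, h.sub_left, h.sub_left, h.sub_left, h.sub_left, h.smul_left,
      h.smul_left, h.smul_left, h.smul_left, hb, hb, hwz, hzw, Units.val_one, h.ap_one]
    simp only [mul_zero, sub_zero]
    linear_combination (norm := module) (-((Q z)⁻¹ * h.b x z) * h2) • z + (-((Q w)⁻¹ * h.b x w) * h2) • w)
  have hY : IsPGroup p (Subgroup.zpowers (DS.Cl.cj h.EB (rw' * rz))) := by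
    rintro ⟨_, k, rfl⟩
    refine ⟨1, Subtype.ext ?_⟩
    change (DS.Cl.cj h.EB (rw' * rz) ^ k) ^ p ^ 1 = 1
    rw [hp2, pow_one, ← zpow_natCast, ← zpow_mul, mul_comm, zpow_mul, zpow_natCast, ← map_pow, hyy, map_one, one_zpow]
  obtain ⟨β, hβ, h4⟩ := c.uni (M := H ⊓ F.S) (B := H ⊓ F.S) inf_le_left (fun _ ha _ hx => c.conj_inf ha hx) le_rfl
    (fun _ ha _ hx => c.conj_inf ha.1 hx) hY ((Subgroup.zpowers_le).2 ⟨hyH, hyS⟩) (c.S_le hgS)
  obtain ⟨β, hβ', rfl⟩ := F.S_le_PI hβ.2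
  have h5 := TH.mem_cj.1 (h4 ⟨_, Subgroup.mem_zpowers _, rfl⟩)
  change _ * (DS.Cl.cj h.EB β * _ * (DS.Cl.cj h.EB β)⁻¹) * _ ∈ H at h5
  rw [← map_inv, ← map_inv, ← map_mul, ← map_mul, ← map_mul, ← map_mul] at h5
  have h6 := hfix _ (mul_mem (mul_mem (inv_mem (mul_mem i3 i1)) (mul_mem (mul_mem hβ' (mul_mem i1 i2)) (inv_mem hβ')))
    (mul_mem i3 i1)) (hinv _ h5 x₀ hx₀)
  have h7 := hfix β hβ' (hinv _ hβ.1 x₀ hx₀)
  obtain ⟨g, hg'⟩ : ∃ g, g = ra * rw' := ⟨_, rfl⟩
  obtain ⟨y, hy'⟩ : ∃ y, y = rw' * rz := ⟨_, rfl⟩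
  rw [← hg'] at hg h6
  rw [← hy'] at hy h6
  obtain ⟨v, hv⟩ : ∃ v, v = h.ap (β⁻¹ : h.EBˣ) (h.ap g w) := ⟨_, rfl⟩
  have h8 : h.ap y v = v := by
    have h9 := congrArg (fun x => h.ap (β⁻¹ : h.EBˣ) (h.ap g x)) h6
    simp only [Units.val_mul, h.ap_mul, ap_ap_inv, ap_inv_ap] at h9
    rwa [← hv] at h9
  rw [hy, sub_sub, sub_eq_self] at h8
  have h9 := congrArg (fun x => h.b x a₀) h8
  simp only [h.add_left, h.smul_left, h.zero_left, hza, mul_zero, zero_add] at h9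
  have h10 : h.b v w = 0 := by
    rcases mul_eq_zero.1 h9 with h10 | h10
    · exact (mul_eq_zero.1 h10).resolve_left (inv_ne_zero hw)
    · exact absurd (by rw [O_symm hO, h10]) ha₀
  refine hg ?_
  rw [← (h.unit_iff β).1 hβ'.1, hv, ap_ap_inv, h7] at h10
  exact h10

end Cases

open Cases in
/-- **[C-NS]** -/
theorem boxNS : BoxNS :=
  ⟨fun _ _ _ _ F _ _ _ _ _ _ h => ns_max (L_eq_LR F) h,
    fun _ _ _ _ _ _ _ _ _ _ _ _ _ _ k _ h => ns_max k.L h,
    fun _ _ _ _ _ _ _ _ _ _ _ _ _ _ k _ h => ns_max k.sp.2.2 h,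
    fun K V _ _ _ _ _ f _ _ _ _ _ p k c h => by
      have h7 := k.dim
      have : Nontrivial V := Module.nontrivial_of_finrank_pos (R := K) (by omega)
      obtain ⟨v, hv⟩ := exists_ne (0 : V)
      have h1 : (p : Module.End K V) = 0 := c.char
      have h2 := LinearMap.congr_fun h1 v
      rw [Module.End.natCast_apply, ← Nat.cast_smul_eq_nsmul K, LinearMap.zero_apply, smul_eq_zero] at h2
      exact ns_O k.o (by omega) c (h2.resolve_right hv) h⟩

end Cfsg.Agent.TH.Cl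
end

-- part: TH/Cl/FldLU/Core
section
prune_inst 0xb5302144516212000018050040201d46d6000592006b000008c20f40068a7f0028c30f61b5f0191612ba034540300048111000200000000000000000011d00a0880800049008ac0816000f002804000000000000000000000000000000051004000000000
set_option linter.all false
open scoped Cfsg.Agent.FastGrp

-- part: TH/Cl/FldLU/Min
section
/-!
# S3541, invariant commutative subrings: symmetric subfields of prime degree (helper9)

For all four kinds of classical groups.  `SymF W r` : `W` is a field of symmetric elements of prime degree `r` over the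
field `C0 A` of the symmetric central elements.
-/

set_option autoImplicit false

namespace Cfsg.Agent.TH.Cl.Fld

open Cfsg.Agent.DS.Cl Cfsg.Agent.DS.Cl.Fwd Cfsg.Agent.SB.Cl Cfsg.Agent.SB.C2 Module

section nostar

variable {A : Type} [Ring A]

theorem card_le_of_le [Finite A] {X Y : Subring A} (h : X ≤ Y) : Nat.card X ≤ Nat.card Y :=
  AddSubgroup.card_le_of_le (H := X.toAddSubgroup) (K := Y.toAddSubgroup) h

theorem eq_of_le_of_card [Finite A] {X Y : Subring A} (h : X ≤ Y) (hc : Nat.card Y ≤ Nat.card X) : X = Y :=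
  Subring.toAddSubgroup_injective (AddSubgroup.eq_of_le_of_card_ge (H := X.toAddSubgroup) (K := Y.toAddSubgroup) h hc)

/-- a subring of a finite field is a field -/
theorem isF_of_le [Finite A] {X Y : Subring A} (hY : IsF Y) (h : X ≤ Y) : IsF X :=
  ⟨fun x hx y hy => hY.comm x (h hx) y (h hy), fun x hx h0 => by
    obtain ⟨y, hy⟩ := Finite.surjective_of_injective (f := fun y : X => (⟨x * y, X.mul_mem hx y.2⟩ : X))
      (fun a b e => Subtype.ext ((hY.isUnit (h hx) h0).mul_left_cancel (congrArg Subtype.val e))) 1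
    exact ⟨y, y.2, congrArg Subtype.val hy⟩⟩

theorem exists_card_pow [Finite A] [Nontrivial A] {X Y : Subring A} (hY : IsF Y) (h : X ≤ Y) :
    ∃ i, Nat.card Y = Nat.card X ^ i := by
  let := (isF_of_le hY h).isField.toField
  let := hY.isField.toField
  let : Algebra X Y := (Subring.inclusion h).toAlgebra
  exact ⟨finrank X Y, Module.natCard_eq_pow_finrank⟩

theorem two_le_card [Finite A] [Nontrivial A] (X : Subring A) : 2 ≤ Nat.card X := Finite.one_lt_card

/-- the restriction to an invariant subring -/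
def resW (W : Subring A) {M : Subgroup (RingAut A)} (hM : _root_.Cfsg.Agent.DS.Cl.Inv M W) : M →* RingAut W where
  toFun γ :=
    { toFun := fun x => ⟨γ.1 x, hM _ γ.2 _ x.2⟩
      invFun := fun x => ⟨γ.1⁻¹ x, hM _ (inv_mem γ.2) _ x.2⟩
      left_inv := fun _ => Subtype.ext (ra_inv_apply _ _)
      right_inv := fun _ => Subtype.ext (ra_apply_inv _ _)
      map_mul' := fun _ _ => Subtype.ext (map_mul γ.1 _ _)
      map_add' := fun _ _ => Subtype.ext (map_add γ.1 _ _) }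
  map_one' := rfl
  map_mul' _ _ := rfl

theorem resW_eq_one {W : Subring A} {M : Subgroup (RingAut A)} (hM : _root_.Cfsg.Agent.DS.Cl.Inv M W) {γ : M} :
    resW W hM γ = 1 ↔ γ.1 ∈ DS.Cl.Fix (W : Set A) :=
  ⟨fun h x hx => congrArg Subtype.val (RingEquiv.congr_fun h ⟨x, hx⟩),
    fun h => RingEquiv.ext fun x => Subtype.ext (h x x.2)⟩

theorem resW_ker {W : Subring A} {M : Subgroup (RingAut A)} (hM : _root_.Cfsg.Agent.DS.Cl.Inv M W) :
    (resW W hM).ker = (DS.Cl.Fix (W : Set A)).subgroupOf M := Subgroup.ext fun _ => resW_eq_one hM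

theorem aut_cyclic [Finite A] [Nontrivial A] {W : Subring A} (h : IsF W) {p k : ℕ} (hp : p.Prime)
    (hc : Nat.card W = p ^ k) : Nat.card (RingAut W) = k ∧ IsCyclic (RingAut W) := by
  let := h.isField.toField
  have : Fact p.Prime := ⟨hp⟩
  exact H382.FieldAction.card_ringAut_dvd W hc

theorem exists_card_prime [Finite A] [Nontrivial A] {W : Subring A} (h : IsF W) {p : ℕ} (hp : p.Prime) (h0 : (p : A) = 0) :
    ∃ k, k ≠ 0 ∧ Nat.card W = p ^ k := by
  let := h.isField.toField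
  have := Fintype.ofFinite W
  have : Fact p.Prime := ⟨hp⟩
  have : CharP W p := (CharP.charP_iff_prime_eq_zero hp).2 (Subtype.ext (by simpa only [_root_.SubringClass.coe_natCast, _root_.ZeroMemClass.coe_zero] using h0))
  obtain ⟨k, -, hk⟩ := FiniteField.card W p
  exact ⟨k, k.ne_zero, by rw [Nat.card_eq_fintype_card, hk]⟩

theorem pow_card [Finite A] [Nontrivial A] {W : Subring A} (h : IsF W) {x : A} (hx : x ∈ W) : x ^ Nat.card W = x := by
  let := h.isField.toField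
  have := Fintype.ofFinite W
  rw [Nat.card_eq_fintype_card]
  exact congrArg Subtype.val (FiniteField.pow_card (⟨x, hx⟩ : W))

/-- a subfield is the set of the roots of `X ^ Q - X` -/
theorem mem_of_pow [Finite A] [Nontrivial A] {X Y : Subring A} (hY : IsF Y) (h : X ≤ Y) {y : A} (hy : y ∈ Y)
    (e : y ^ Nat.card X = y) : y ∈ X := by
  obtain ⟨i, hi⟩ := exists_card_pow hY h
  have h0 : i ≠ 0 := by
    rintro rfl
    have := two_le_card Y
    rw [pow_zero] at hi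
    omega
  obtain ⟨W, h1, -, h3⟩ := hY.sub h0 (two_le_card X) hi
  rw [eq_of_le_of_card (X := X) (Y := W) (fun x hx => (h1 x).2 ⟨h hx, pow_card (isF_of_le hY h) hx⟩) h3.le]
  exact (h1 y).2 ⟨hy, e⟩

/-- a `p`-group of automorphisms fixes a non-zero element in every non-zero invariant subgroup -/
theorem exists_fix [Finite A] {p : ℕ} (hp : p.Prime) (h0 : (p : A) = 0) {P : Subgroup (RingAut A)} (hP : IsPGroup p P)
    (M : AddSubgroup A) (hM : ∀ γ ∈ P, ∀ x ∈ M, γ x ∈ M) (hne : M ≠ ⊥) : ∃ x ∈ M, x ≠ 0 ∧ ∀ γ ∈ P, γ x = x := by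
  have : Fact p.Prime := ⟨hp⟩
  let : MulAction P M :=
    { smul := fun γ x => ⟨γ.1 x, hM _ γ.2 _ x.2⟩
      one_smul := fun _ => rfl
      mul_smul := fun _ _ _ => rfl }
  obtain ⟨y, hy, hy0⟩ := (AddSubgroup.bot_or_exists_ne_zero M).resolve_left hne
  have h1 : addOrderOf (⟨y, hy⟩ : M) = p := addOrderOf_eq_prime
    (Subtype.ext (by rw [AddSubgroup.coe_nsmul, nsmul_eq_mul, h0, zero_mul]; rfl)) fun e => hy0 (congrArg Subtype.val e)
  obtain ⟨x, hx, hx0⟩ := hP.exists_fixed_point_of_prime_dvd_card_of_fixed_point M (h1 ▸ addOrderOf_dvd_natCard _)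
    (a := 0) fun γ => Subtype.ext (map_zero γ.1)
  exact ⟨x, x.2, fun e => hx0 (Subtype.ext e.symm), fun γ hγ => congrArg Subtype.val (hx ⟨γ, hγ⟩)⟩

end nostar

variable {A : Type} [Ring A] [StarRing A]

theorem isF_C0 (h : SS A) : IsF (C0 A) := ⟨fun x _ _ hy => cen_comm hy.1 x, fun x hx h0 => by
  obtain ⟨u, rfl⟩ := h.isUnit_of_cen hx.1 hx.2 h0
  refine ⟨_, ⟨inv_cen hx.1, ?_⟩, u.mul_inv⟩
  have h3 : star ((u⁻¹ : Aˣ) : A) * u = 1 := by rw [← hx.2, ← star_mul, Units.mul_inv, star_one]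
  rw [← mul_one (star _), ← u.mul_inv, ← mul_assoc, h3, one_mul]⟩

theorem inv_C0 {M : Subgroup (RingAut A)} (hM : M ≤ SAut A) : _root_.Cfsg.Agent.DS.Cl.Inv M (C0 A) := fun γ hγ _ hz =>
  ⟨map_cen _ hz.1, by rw [← hM hγ, hz.2]⟩

/-- the symmetric elements of a commutative subring -/
def symS (Z : Subring A) (hZ : ∀ x ∈ Z, ∀ y ∈ Z, x * y = y * x) : Subring A where
  carrier := {x | x ∈ Z ∧ star x = x}
  mul_mem' := fun {a b} ha hb => ⟨Z.mul_mem ha.1 hb.1, by rw [star_mul, ha.2, hb.2, hZ _ hb.1 _ ha.1]⟩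
  one_mem' := ⟨Z.one_mem, star_one A⟩
  add_mem' := fun {a b} ha hb => ⟨Z.add_mem ha.1 hb.1, by rw [star_add, ha.2, hb.2]⟩
  zero_mem' := ⟨Z.zero_mem, star_zero A⟩
  neg_mem' := fun {a} ha => ⟨Z.neg_mem ha.1, by rw [star_neg, ha.2]⟩

/-- a field of symmetric elements of prime degree -/
structure SymF (W : Subring A) (r : ℕ) : Prop where
  isF : IsF W
  sym : ∀ x ∈ W, star x = x
  le : C0 A ≤ W
  prime : r.Prime
  card : Nat.card W = Nat.card (C0 A) ^ r

variable [Finite A]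

/-- the symmetric elements of an invariant commutative subring form a field -/
theorem isF_symS (h : SS A) {M : Subgroup (RingAut A)} (hM : M ≤ SAut A) (hI : Irr1 M) {Z : Subring A} (hZ : ComSub Z)
    (hi : _root_.Cfsg.Agent.DS.Cl.Inv M Z) : IsF (symS Z hZ.2.2) := by
  have hs := ss_of_inv h hM hI.1 hI.2 hZ.2.1 hi
  refine ⟨fun x hx y hy => hZ.2.2 x hx.1 y hy.1, fun x hx h0 => ?_⟩
  set B := Blk.ofSubring Z hZ.2.1
  obtain ⟨y, hy, h1, h2⟩ := Blk.isUnit_val (hs.isUnit_of_cen (c := B.mk' x hx.1)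
    (B.mem_center_iff.2 fun y hy => hZ.2.2 y hy x hx.1) (B.val_inj hx.2) fun e => h0 (congrArg B.val e))
  have h3 : x * y = 1 := h1
  have h4 : star y * x = 1 := by rw [← hx.2, ← star_mul, h3, star_one]
  exact ⟨y, ⟨hy, by rw [← mul_one (star y), ← h3, ← mul_assoc, h4, one_mul]⟩, h3⟩

/-- **the reduction** : either all symmetric elements of `Z` are central, or there is an invariant field of symmetric
elements of prime degree -/
theorem exists_symF (h : SS A) {M : Subgroup (RingAut A)} (hM : M ≤ SAut A) (hI : Irr1 M) {Z : Subring A}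
    (hZ : ComSub Z) (hi : _root_.Cfsg.Agent.DS.Cl.Inv M Z) :
    (∀ x ∈ Z, star x = x → x ∈ Subring.center A) ∨ ∃ (W : Subring A) (r : ℕ), SymF W r ∧ W ≤ Z ∧ _root_.Cfsg.Agent.DS.Cl.Inv M W := by
  have := h.nontrivial
  have h1 := isF_symS h hM hI hZ hi
  have h2 : C0 A ≤ symS Z hZ.2.2 := fun x hx => ⟨hZ.1 hx.1, hx.2⟩
  obtain ⟨i, hi'⟩ := exists_card_pow h1 h2
  by_cases h3 : i = 1
  · rw [h3, pow_one] at hi'
    have h4 := eq_of_le_of_card h2 hi'.le
    exact Or.inl fun x hx hs => (h4.ge (show x ∈ symS Z hZ.2.2 from ⟨hx, hs⟩)).1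
  obtain ⟨t, ht⟩ := Nat.minFac_dvd i
  have hq := two_le_card (C0 A)
  have h4 : t ≠ 0 := by
    rintro rfl
    rw [ht, mul_zero, pow_zero] at hi'
    have := two_le_card (symS Z hZ.2.2)
    omega
  obtain ⟨W, a1, a2, a3⟩ := h1.sub (Q := Nat.card (C0 A) ^ i.minFac) h4
    (hq.trans (Nat.le_self_pow (Nat.minFac_pos i).ne' _)) (by rw [← pow_mul, ← ht, hi'])
  refine Or.inr ⟨W, i.minFac, ⟨a2, fun x hx => ((a1 x).1 hx).1.2, fun x hx => (a1 x).2 ⟨h2 hx, ?_⟩,
    Nat.minFac_prime h3, a3⟩, fun x hx => ((a1 x).1 hx).1.1, fun γ hγ x hx => (a1 _).2 ⟨⟨hi γ hγ x ((a1 x).1 hx).1.1, by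
      rw [← hM hγ, ((a1 x).1 hx).1.2]⟩, by rw [← map_pow, ((a1 x).1 hx).2]⟩⟩
  induction i.minFac with
  | zero => rw [pow_zero, pow_one]
  | succ k ih => rw [pow_succ, pow_mul, ih, pow_card (isF_C0 h) hx]

namespace SymF

variable {W : Subring A} {r : ℕ} [Nontrivial A] (h : SymF W r)
include h

theorem lt_card : r < Nat.card W := by
  rw [h.card]
  exact Nat.lt_pow_self (two_le_card (C0 A))

theorem four_le : 4 ≤ Nat.card W := by
  rw [h.card]
  exact (Nat.pow_le_pow_left (two_le_card (C0 A)) 2).trans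
    (Nat.pow_le_pow_right (by have := two_le_card (C0 A); omega) h.prime.two_le)

theorem not_le : ¬ W ≤ Subring.center A := fun e => by
  have h1 := card_le_of_le (X := W) (Y := C0 A) fun x hx => ⟨e hx, h.sym x hx⟩
  have h2 := two_le_card (C0 A)
  have h3 := Nat.pow_lt_pow_right h2 h.prime.one_lt
  rw [h.card] at h1
  rw [pow_one] at h3
  omega

theorem eq_or {X : Subring A} (h1 : C0 A ≤ X) (h2 : X ≤ W) : X = C0 A ∨ X = W := by
  obtain ⟨i, hi⟩ := exists_card_pow h.isF h2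
  obtain ⟨j, hj⟩ := exists_card_pow (isF_of_le h.isF h2) h1
  have h3 : r = j * i := Nat.pow_right_injective (two_le_card (C0 A)) (by
    change _ ^ _ = _ ^ _
    rw [← h.card, hi, hj, pow_mul])
  rcases (Nat.dvd_prime h.prime).1 (Dvd.intro _ h3.symm) with e | e
  · exact Or.inl (eq_of_le_of_card h1 (by rw [hj, e, pow_one])).symm
  · exact Or.inr (eq_of_le_of_card h2 (by rw [hj, e, h.card]))

theorem pow_fix {γ : RingAut A} (h1 : ∀ x ∈ W, γ x ∈ W) (h2 : ∀ x ∈ C0 A, γ x = x) : γ ^ r ∈ DS.Cl.Fix (W : Set A) := by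
  let := (isF_of_le h.isF h.le).isField.toField
  let := h.isF.isField.toField
  let : Algebra (C0 A) W := (Subring.inclusion h.le).toAlgebra
  have h3 : _root_.Cfsg.Agent.DS.Cl.Inv (Subgroup.zpowers γ) W := by
    rintro _ ⟨k, rfl⟩
    obtain ⟨j, hj⟩ := (mem_powers_iff_mem_zpowers (x := γ) (y := γ ^ k)).2 ⟨k, rfl⟩
    change ∀ x ∈ W, (γ ^ k) x ∈ W
    rw [← hj]
    clear hj
    beta_reduce
    induction j with
    | zero => exact fun x hx => hx
    | succ j ih => exact fun x hx => by rw [pow_succ, ra_mul]; exact ih _ (h1 x hx)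
  let σ : W ≃ₐ[C0 A] W := AlgEquiv.ofRingEquiv (f := resW W h3 ⟨γ, Subgroup.mem_zpowers γ⟩)
    fun c => Subtype.ext (h2 _ c.2)
  have h4 : finrank (C0 A) W = r := Nat.pow_right_injective (two_le_card (C0 A))
    ((Module.natCard_eq_pow_finrank (K := C0 A) (V := W)).symm.trans h.card)
  have h5 : σ ^ r = 1 := by rw [← h4, ← IsGalois.card_aut_eq_finrank, pow_card_eq_one']
  have h6 : ∀ (j : ℕ) (x : W), (((σ ^ j) x : W) : A) = (γ ^ j) x := fun j => by
    induction j with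
    | zero => exact fun _ => rfl
    | succ j ih => exact fun x => by rw [pow_succ, pow_succ, ra_mul, AlgEquiv.mul_apply, ih]; rfl
  intro x hx
  rw [← h6 r ⟨x, hx⟩, h5]
  rfl

theorem cyclic : IsCyclic (RingAut W) := by
  let := h.isF.isField.toField
  have := Fintype.ofFinite W
  obtain ⟨p, _, n, hp, h1⟩ := FiniteField.card' W
  exact (aut_cyclic h.isF hp (by rw [Nat.card_eq_fintype_card, h1])).2

/-- the linear automorphisms act on `W` through a group of order `r` -/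
theorem relIndex_dvd {M : Subgroup (RingAut A)} (h1 : _root_.Cfsg.Agent.DS.Cl.Inv M W) (h2 : M ≤ Lin A) : (DS.Cl.Fix (W : Set A)).relIndex M ∣ r := by
  have := h.cyclic
  rw [Subgroup.relIndex, ← resW_ker h1, Subgroup.index_ker, ← IsCyclic.exponent_eq_card]
  refine Monoid.exponent_dvd_of_forall_pow_eq_one ?_
  rintro ⟨_, γ, rfl⟩
  refine Subtype.ext ?_
  rw [Subgroup.coe_pow, ← map_pow]
  exact (resW_eq_one h1).2 (h.pow_fix (h1 _ γ.2) fun x hx => h2 γ.2 x hx.1)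

theorem not_inv {F : FR A} (hsp : F.Span) (hp : F.S ≤ ⁅F.S, F.S⁆) : ¬ _root_.Cfsg.Agent.DS.Cl.Inv F.S W := fun hS => h.not_le fun z hz => by
  have h1 : ⁅F.S, F.S⁆ ≤ DS.Cl.Fix (W : Set A) := by
    rw [Subgroup.commutator_le]
    intro γ hγ δ hδ x hx
    rw [commutatorElement_def, ra_mul, ra_mul, ra_mul, comm_on_dom W h.isF.comm (fun _ => h.isF.isUnit) (hS γ hγ)
      (hS δ hδ) _ (hS _ (inv_mem hγ) _ (hS _ (inv_mem hδ) x hx)), ra_apply_inv, ra_apply_inv]
  exact FR.cen_of_S hsp fun s hs => h1 (hp hs) z hz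

end SymF

end Cfsg.Agent.TH.Cl.Fld
end

-- part: TH/Cl/FldLU/Core
section
/-!
# S3541, invariant commutative subrings: the Sylow argument, averaging, long root elements (helper9)

For all four kinds of classical groups.
-/

set_option autoImplicit false

namespace Cfsg.Agent.TH.Cl.Fld

open Cfsg.Agent.DS.Cl Cfsg.Agent.DS.Cl.Fwd Cfsg.Agent.SB.Cl Cfsg.Agent.SB.C2 Module
open scoped commutatorElement

/-- `P` is a Sylow subgroup of `B₂ ≤ B₁ ≤ B`, and `p ∤ [B : B₁]` -/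
theorem exists_syl {Γ : Type*} [Group Γ] [Finite Γ] {p : ℕ} (hp : p.Prime) {B B₁ B₂ : Subgroup Γ} (h1 : B₁ ≤ B)
    (h2 : B₂ ≤ B₁) (h : ¬ p ∣ B₁.relIndex B) : ∃ P : Subgroup Γ, IsPGroup p P ∧ P ≤ B₂ ∧
      ∀ R : Subgroup Γ, R ≤ B → IsPGroup p R → (∀ y ∈ P, ∀ x ∈ R, y * x * y⁻¹ ∈ R) → P.relIndex R ≤ B₂.relIndex B₁ := by
  have : Fact p.Prime := ⟨hp⟩
  obtain ⟨Q⟩ : Nonempty (Sylow p B₂) := inferInstance
  have hP : (Q : Subgroup B₂).map B₂.subtype ≤ B₂ := Subgroup.map_subtype_le _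
  have hQ : ¬ p ∣ ((Q : Subgroup B₂).map B₂.subtype).relIndex B₂ := by
    rw [Subgroup.relIndex, Subgroup.subgroupOf, Subgroup.comap_map_eq_self_of_injective B₂.subtype_injective]
    exact Q.not_dvd_index
  have hP' : IsPGroup p ((Q : Subgroup B₂).map B₂.subtype) := Q.isPGroup'.map _
  generalize (Q : Subgroup B₂).map B₂.subtype = P at hP hQ hP'
  refine ⟨P, hP', hP, fun R hR hR' hn => ?_⟩
  have a1 : IsPGroup p ↥(P ⊔ R) := IsPGroup.to_sup_of_normal_right' hP' hR' (le_normalizer_of_conj hn)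
  have a2 : P ⊔ R ≤ B := sup_le (hP.trans (h2.trans h1)) hR
  obtain ⟨k, hk⟩ := a1.index (P.subgroupOf (P ⊔ R))
  have a3 : P.relIndex (P ⊔ R) ∣ P.relIndex B₂ * B₂.relIndex B₁ * B₁.relIndex B := by
    rw [Subgroup.relIndex_mul_relIndex _ _ _ hP h2, Subgroup.relIndex_mul_relIndex _ _ _ (hP.trans h2) h1,
      ← Subgroup.relIndex_mul_relIndex _ _ _ le_sup_left a2]
    exact Dvd.intro _ rfl
  rw [Subgroup.relIndex, hk] at a3
  have a4 := (((hp.coprime_iff_not_dvd.2 hQ).pow_left k).dvd_mul_left).1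
    ((((hp.coprime_iff_not_dvd.2 h).pow_left k).dvd_mul_right).1 a3)
  refine (Subgroup.relIndex_le_of_le_right (L := P ⊔ R) le_sup_right Subgroup.index_ne_zero_of_finite).trans ?_
  rw [Subgroup.relIndex, hk]
  exact Nat.le_of_dvd (Nat.pos_of_ne_zero Subgroup.index_ne_zero_of_finite) a4

section nostar

variable {A : Type} [Ring A]

/-- the units `1 + j`, `j ∈ J` -/
def oneAdd [Finite A] (J : NonUnitalSubring A) : Subgroup Aˣ where
  carrier := {u | (u : A) - 1 ∈ J}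
  one_mem' := by simp
  mul_mem' := fun {a b} (ha : (a : A) - 1 ∈ J) (hb : (b : A) - 1 ∈ J) => by
    have h := J.add_mem (J.mul_mem ha hb) (J.add_mem ha hb)
    change (a : A) * b - 1 ∈ J
    convert h using 1
    noncomm_ring
  inv_mem' := fun {a} (ha : (a : A) - 1 ∈ J) => by
    have h : ∀ k : ℕ, ((a ^ k : Aˣ) : A) - 1 ∈ J := fun k => by
      induction k with
      | zero => simp
      | succ k ih =>
        have h := J.add_mem (J.mul_mem ih ha) (J.add_mem ih ha)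
        rw [pow_succ, Units.val_mul]
        convert h using 1
        noncomm_ring
    have h1 : a⁻¹ = a ^ (orderOf a - 1) := by
      rw [inv_eq_iff_mul_eq_one, ← pow_succ', Nat.sub_add_cancel (orderOf_pos a), pow_orderOf_eq_one]
    rw [h1]
    exact h _

theorem isPGroup_oneAdd [Finite A] [Nontrivial A] {p : ℕ} (hp : p.Prime) (h0 : (p : A) = 0) {J : NonUnitalSubring A}
    (hJ : ∀ j ∈ J, IsNilpotent j) : IsPGroup p (oneAdd J) := fun u => by
  have : Fact p.Prime := ⟨hp⟩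
  have : CharP A p := (CharP.charP_iff_prime_eq_zero hp).2 h0
  obtain ⟨k, hk⟩ := hJ _ u.2
  refine ⟨k, Subtype.ext (Units.ext ?_)⟩
  have h1 := add_pow_char_pow_of_commute p k (Commute.one_left ((u.1 : A) - 1))
  rw [add_sub_cancel, one_pow, pow_eq_zero_of_le (Nat.lt_pow_self hp.one_lt).le hk, add_zero] at h1
  exact h1

theorem fix_conj {X : Set A} {γ δ : RingAut A} (hγ : ∀ x ∈ X, γ⁻¹ x ∈ X) (hδ : δ ∈ DS.Cl.Fix X) :
    γ * δ * γ⁻¹ ∈ DS.Cl.Fix X := fun x hx => by rw [ra_mul, ra_mul, hδ _ (hγ x hx), ra_apply_inv]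

theorem cj_fix {g : RingAut A} {X : Set A} : TH.cj g (DS.Cl.Fix X) = DS.Cl.Fix (g '' X) := by
  ext γ
  rw [mem_cj]
  constructor
  · rintro h _ ⟨x, hx, rfl⟩
    have h1 := congrArg g (h x hx)
    rwa [ra_mul, ra_mul, ra_apply_inv] at h1
  · intro h x hx
    rw [ra_mul, ra_mul, h _ ⟨x, hx, rfl⟩, ra_inv_apply]

variable [Finite A] (W : Subring A)

/-- the units in `W` -/
noncomputable def un : Finset Aˣ := (Set.toFinite {u : Aˣ | (u : A) ∈ W}).toFinset

/-- the projection onto the centraliser of the field `W` -/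
noncomputable def avg : A →+ A where
  toFun a := -∑ u ∈ un W, DS.Cl.cj A u a
  map_zero' := by simp
  map_add' a b := by simp only [map_add, Finset.sum_add_distrib, neg_add]

variable {W}

theorem mem_un {u : Aˣ} : u ∈ un W ↔ (u : A) ∈ W := Set.Finite.mem_toFinset _

theorem avg_apply (a : A) : avg W a = -∑ u ∈ un W, (u : A) * a * (u⁻¹ : Aˣ) := rfl

omit [Finite A] in
theorem inv_mem_of_isF (h : IsF W) {u : Aˣ} (hu : (u : A) ∈ W) : ((u⁻¹ : Aˣ) : A) ∈ W := by
  rcases subsingleton_or_nontrivial A with _ | _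
  · rw [Subsingleton.elim ((u⁻¹ : Aˣ) : A) 0]
    exact W.zero_mem
  obtain ⟨y, hy, h1⟩ := h.inv _ hu u.ne_zero
  rw [Units.inv_eq_of_mul_eq_one_right h1]
  exact hy

theorem card_un [Nontrivial A] (h : IsF W) : ((un W).card : A) = -1 := by
  classical
  have := Fintype.ofFinite A
  let T' : Finset A := Finset.univ.filter fun x => x ∈ W
  have h1 : (un W).card = (T'.erase 0).card := by
    refine Finset.card_bij (fun u _ => (u : A)) (fun u hu' => ?_) (fun u _ v _ huv => Units.ext huv) fun x hx => ?_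
    · simp only [T', Finset.mem_erase, Finset.mem_filter, Finset.mem_univ, true_and]
      exact ⟨u.ne_zero, mem_un.1 hu'⟩
    · simp only [T', Finset.mem_erase, Finset.mem_filter, Finset.mem_univ, true_and] at hx
      obtain ⟨u, rfl⟩ := h.isUnit hx.2 hx.1
      exact ⟨u, mem_un.2 hx.2, rfl⟩
  have h2 : (T'.erase 0).card + 1 = T'.card := Finset.card_erase_add_one (by simp [T'])
  have h3 : T'.card = Nat.card W := by rw [Nat.card_eq_fintype_card, Fintype.card_subtype]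
  have h4 : (Nat.card W : W) = 0 := by
    rw [← nsmul_one]
    exact card_nsmul_eq_zero'
  have h5 : (Nat.card W : A) = 0 := by
    have h6 := congrArg W.subtype h4
    rwa [map_natCast, map_zero] at h6
  rw [← h3, ← h2, ← h1, Nat.cast_add, Nat.cast_one] at h5
  exact eq_neg_of_add_eq_zero_left h5

theorem avg_mem (h : IsF W) (a : A) : avg W a ∈ Subring.centralizer (W : Set A) := by
  intro z hz
  by_cases h0 : z = 0
  · simp [h0]
  obtain ⟨v, rfl⟩ := h.isUnit hz h0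
  have h4 : DS.Cl.cj A v (avg W a) = avg W a := by
    change DS.Cl.cj A v (-∑ u ∈ un W, DS.Cl.cj A u a) = -∑ u ∈ un W, DS.Cl.cj A u a
    rw [map_neg, map_sum]
    congr 1
    refine Finset.sum_equiv (Equiv.mulLeft v) (fun u => ?_) fun u _ => ?_
    · rw [mem_un, mem_un]
      refine ⟨fun h5 => W.mul_mem hz h5, fun h5 => ?_⟩
      simpa using W.mul_mem (inv_mem_of_isF h hz) h5
    · rw [Equiv.coe_mulLeft, map_mul, ra_mul]
  have h5 := cj_mul_eq v (avg W a)
  rw [h4] at h5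
  exact h5.symm

theorem avg_mul_left {b : A} (hb : b ∈ Subring.centralizer (W : Set A)) (a : A) : avg W (b * a) = b * avg W a := by
  rw [avg_apply, avg_apply, mul_neg, Finset.mul_sum]
  refine congrArg _ (Finset.sum_congr rfl fun u hu => ?_)
  rw [← mul_assoc, hb _ (mem_un.1 hu)]
  simp only [mul_assoc]

theorem avg_mul_right (h : IsF W) {b : A} (hb : b ∈ Subring.centralizer (W : Set A)) (a : A) :
    avg W (a * b) = avg W a * b := by
  rw [avg_apply, avg_apply, neg_mul, Finset.sum_mul]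
  refine congrArg _ (Finset.sum_congr rfl fun u hu => ?_)
  rw [mul_assoc _ _ b, hb _ (inv_mem_of_isF h (mem_un.1 hu))]
  simp only [mul_assoc]

theorem map_avg {γ : RingAut A} (hγ : γ ∈ DS.Cl.Fix (W : Set A)) (h : IsF W) (a : A) : γ (avg W a) = avg W (γ a) := by
  rw [avg_apply, avg_apply, map_neg, map_sum]
  refine congrArg _ (Finset.sum_congr rfl fun u hu => ?_)
  rw [map_mul, map_mul, hγ _ (mem_un.1 hu), hγ _ (inv_mem_of_isF h (mem_un.1 hu))]

/-- averaging preserves traces -/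
theorem tr_avg [Nontrivial A] (h : IsF W) {M : Type*} [AddCommGroup M] (tr : A →+ M) (ht : ∀ a b, tr (a * b) = tr (b * a))
    (a : A) : tr (avg W a) = tr a := by
  rw [avg_apply, map_neg, map_sum, Finset.sum_congr rfl fun u _ => (ht _ _).trans (by rw [Units.inv_mul_cancel_left]),
    Finset.sum_const, ← map_nsmul, nsmul_eq_mul, card_un h, neg_one_mul, map_neg, neg_neg]

theorem avg_of_mem [Nontrivial A] (h : IsF W) {b : A} (hb : b ∈ Subring.centralizer (W : Set A)) : avg W b = b := by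
  rw [avg_apply, Finset.sum_congr rfl fun (u : Aˣ) hu => (by rw [hb _ (mem_un.1 hu), Units.mul_inv_cancel_right] :
    (u : A) * b * (u⁻¹ : Aˣ) = b), Finset.sum_const, nsmul_eq_mul, card_un h, neg_one_mul, neg_neg]

end nostar

variable {A : Type} [Ring A] [StarRing A] [Finite A]

theorem avg_star {W : Subring A} (h : IsF W) (hs : ∀ x ∈ W, star x = x) (a : A) : avg W (star a) = star (avg W a) := by
  rw [avg_apply, avg_apply, star_neg, star_sum]
  congr 1
  refine Finset.sum_equiv (Equiv.inv Aˣ) (fun u => ?_) fun u hu' => ?_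
  · rw [mem_un, mem_un]
    exact ⟨inv_mem_of_isF h, fun h5 => by simpa using inv_mem_of_isF h h5⟩
  · have h5 := mem_un.1 hu'
    rw [Equiv.inv_apply, star_mul, star_mul, inv_inv, hs _ h5, hs _ (inv_mem_of_isF h h5), mul_assoc]

variable {F : FR A} {G H : Subgroup (RingAut A)} {m p : ℕ}

/-- **the Sylow argument** : `Z` is invariant under `H`, the linear automorphisms act on `Z` through a group of order at
most `r`.  For each `g` there is a `p`-subgroup `P` of `S` fixing `Z` and `g Z` which has index at most `r` in all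
`p`-subgroups of `S ⊓ Fix Z` containing it. -/
theorem core (c : Ctx F G H m p) {Z : Set A} (hZ : _root_.Cfsg.Agent.DS.Cl.Inv H Z) (hS : ¬ _root_.Cfsg.Agent.DS.Cl.Inv F.S Z) {r : ℕ}
    (hr : ∀ M : Subgroup (RingAut A), M ≤ H ⊓ F.S → (DS.Cl.Fix Z).relIndex M ≤ r) {g : RingAut A} (hg : g ∈ G) :
    ∃ P : Subgroup (RingAut A), IsPGroup p P ∧ P ≤ F.S ∧ P ≤ DS.Cl.Fix Z ∧ P ≤ DS.Cl.Fix (g '' Z) ∧
      ∀ R : Subgroup (RingAut A), R ≤ F.S ⊓ DS.Cl.Fix Z → IsPGroup p R → (∀ y ∈ P, ∀ x ∈ R, y * x * y⁻¹ ∈ R) →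
        P.relIndex R ≤ r := by
  have hB : F.S ⊓ DS.Cl.Fix Z ≤ H := fun γ hγ =>
    c.mem_of_inv hZ hS (c.S_le hγ.1) fun x hx => by rw [hγ.2 x hx]; exact hx
  have h1 := c.in.relIndex_dvd_d₂ hB (fun a ha x hx => ⟨FR.conj_mem_S (c.H_le_Aut ha) hx.1,
    fix_conj (hZ _ (inv_mem ha)) hx.2⟩) le_rfl (fun a ha x hx => mul_mem (mul_mem ha hx) (inv_mem ha)) hg
  obtain ⟨P, a1, a2, a3⟩ := exists_syl c.prime (B := F.S ⊓ DS.Cl.Fix Z) (B₁ := TH.cj g H ⊓ (F.S ⊓ DS.Cl.Fix Z))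
    (B₂ := DS.Cl.Fix (g '' Z) ⊓ (TH.cj g H ⊓ (F.S ⊓ DS.Cl.Fix Z))) inf_le_right inf_le_right
    (by rw [Subgroup.inf_relIndex_right]; exact fun h => c.not_dvd_d (h.trans h1))
  refine ⟨P, a1, fun γ hγ => (a2 hγ).2.2.1, fun γ hγ => (a2 hγ).2.2.2, fun γ hγ => (a2 hγ).1,
    fun R h2 h3 h4 => (a3 R h2 h3 h4).trans ?_⟩
  rw [Subgroup.inf_relIndex_right, ← cj_fix, ← cj_cj_inv g (TH.cj g H ⊓ _),
    Subgroup.relIndex_map_map_of_injective _ _ (MulAut.conj g).injective]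
  refine hr _ fun γ hγ => ?_
  rw [mem_cj, inv_inv] at hγ
  refine ⟨by simpa only [mul_assoc, _root_.Subgroup.coe_toSubmonoid, _root_.SetLike.mem_coe, _root_.inv_mul_cancel_left, _root_.inv_mul_cancel, _root_.mul_one] using mem_cj.1 hγ.1, ?_⟩
  simpa [mul_assoc] using FR.conj_mem_S (inv_mem (c.le hg)) hγ.2.1

/-- **the Sylow argument**, for families of unipotent elements -/
theorem core' (c : Ctx F G H m p) {Z : Set A} (hZ : _root_.Cfsg.Agent.DS.Cl.Inv H Z) (hS : ¬ _root_.Cfsg.Agent.DS.Cl.Inv F.S Z) {r : ℕ}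
    (hr : ∀ M : Subgroup (RingAut A), M ≤ H ⊓ F.S → (DS.Cl.Fix Z).relIndex M ≤ r) {g : RingAut A} (hg : g ∈ G) :
    ∃ P : Subgroup (RingAut A), IsPGroup p P ∧ P ≤ F.S ∧ P ≤ DS.Cl.Fix Z ∧ P ≤ DS.Cl.Fix (g '' Z) ∧
      ∀ J : NonUnitalSubring A, (∀ j ∈ J, IsNilpotent j) → (∀ j ∈ J, ∀ z ∈ Z, z * j = j * z) →
        (∀ γ ∈ P, ∀ j ∈ J, γ j ∈ J) → ∀ e : A, (∀ γ ∈ P, γ e = e) → ∀ (X : Type) (u : X → Aˣ),
          (∀ a, DS.Cl.cj A (u a) ∈ F.S) → (∀ a, (u a : A) - 1 ∈ J) → (∀ a b, DS.Cl.cj A (u a) e = DS.Cl.cj A (u b) e → a = b) →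
            Nat.card X ≤ r := by
  have := c.ss.nontrivial
  obtain ⟨P, a1, a2, a3, a4, a5⟩ := core c hZ hS hr hg
  refine ⟨P, a1, a2, a3, a4, fun J h1 h2 h3 e he X u h4 h5 h6 => le_trans ?_
    (a5 (F.S ⊓ (oneAdd J).map (DS.Cl.cj A)) (inf_le_inf_left _ ?_) (((isPGroup_oneAdd c.prime c.char h1).map _).to_inf_right)
      fun y hy x hx => ⟨FR.conj_mem_S (F.S_le_Aut (a2 hy)) hx.1, ?_⟩)⟩
  · let φ : X → ↥(F.S ⊓ (oneAdd J).map (DS.Cl.cj A)) := fun a => ⟨DS.Cl.cj A (u a), h4 a, u a, h5 a, rfl⟩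
    refine Nat.card_le_card_of_injective (fun a => (QuotientGroup.mk (φ a) : _ ⧸ P.subgroupOf _))
      fun a b hab => h6 a b ?_
    have b1 := he _ (Subgroup.mem_subgroupOf.1 (QuotientGroup.eq.1 hab))
    have b2 := congrArg (DS.Cl.cj A (u a)) b1
    change DS.Cl.cj A (u a) ((DS.Cl.cj A (u a))⁻¹ (DS.Cl.cj A (u b) e)) = _ at b2
    rw [ra_apply_inv] at b2
    exact b2.symm
  · rintro _ ⟨v, hv, rfl⟩ z hz
    refine cj_eq_of_mul ?_
    have b1 := h2 _ hv z hz
    rw [mul_sub, sub_mul, mul_one, one_mul, sub_left_inj] at b1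
    exact b1.symm
  · obtain ⟨v, hv, rfl⟩ := hx.2
    rw [conj_cj]
    refine ⟨_, ?_, rfl⟩
    change y v - 1 ∈ J
    rw [← map_one y, ← map_sub]
    exact h3 y hy _ hv

omit [Finite A] in
/-- a skew element of square zero lies in an `SL₂` -/
theorem exists_opp {B : Subring A} (hB : ∀ x ∈ B, star x ∈ B) {s y₀ l : A} (h1 : s ∈ B) (h2 : y₀ ∈ B) (h3 : l ∈ B)
    (hl : l + star l = 1) (hs : star s = -s) (hss : s * s = 0) (hy : s * y₀ * s = s) :
    ∃ y ∈ B, star y = -y ∧ y * y = 0 ∧ s * y * s = s ∧ y * s * y = y := by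
  obtain ⟨y₁, a0, a1, a2⟩ : ∃ y₁ ∈ B, star y₁ = -y₁ ∧ s * y₁ * s = s := by
    refine ⟨-(y₀ * s * star y₀), B.neg_mem (B.mul_mem (B.mul_mem h2 h1) (hB _ h2)), ?_, ?_⟩
    · rw [star_neg, star_mul, star_mul, star_star, hs]; noncomm_ring
    · have b1 := congrArg star hy
      rw [star_mul, star_mul, hs] at b1
      have b2 : s * -(y₀ * s * star y₀) * s = -(s * y₀ * s * (star y₀ * s)) := by noncomm_ring
      have b3 : -s * (star y₀ * -s) = s * (star y₀ * s) := by noncomm_ring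
      rw [b2, hy, ← b3, b1, neg_neg]
  obtain ⟨y₂, b0, b1, b2, b3⟩ : ∃ y₂ ∈ B, star y₂ = -y₂ ∧ s * y₂ * s = s ∧ y₂ * s * y₂ = y₂ := by
    refine ⟨y₁ * s * y₁, B.mul_mem (B.mul_mem a0 h1) a0, ?_, ?_, ?_⟩
    · rw [star_mul, star_mul, hs, a1]; noncomm_ring
    · calc s * (y₁ * s * y₁) * s = s * y₁ * s * y₁ * s := by noncomm_ring
        _ = s := by rw [a2, a2]
    · calc y₁ * s * y₁ * s * (y₁ * s * y₁) = y₁ * (s * y₁ * s) * y₁ * s * y₁ := by noncomm_ring
        _ = y₁ * (s * y₁ * s) * y₁ := by rw [a2, mul_assoc, mul_assoc, mul_assoc, ← mul_assoc s, ← mul_assoc (s * y₁), a2,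
          mul_assoc]
        _ = _ := by rw [a2]
  set g := 1 - s * y₂ * l with hg
  have c1 : star g = 1 - star l * y₂ * s := by rw [hg, star_sub, star_one, star_mul, star_mul, hs, b1]; noncomm_ring
  have c2 : s * g = s := by rw [hg, mul_sub, ← mul_assoc, ← mul_assoc, hss]; simp
  have c3 : star g * s = s := by rw [c1, sub_mul, mul_assoc, hss]; simp only [_root_.one_mul, _root_.MulZeroClass.mul_zero, _root_.sub_zero]
  have c4 : y₂ * (star g * g) * y₂ = 0 := by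
    have d1 : star g * g = 1 - s * y₂ * l - star l * y₂ * s := by
      rw [c1, sub_mul, one_mul, mul_assoc (star l * y₂), c2]
    have d2 : y₂ * (1 - s * y₂ * l - star l * y₂ * s) * y₂ =
      y₂ * y₂ - y₂ * s * y₂ * l * y₂ - y₂ * star l * (y₂ * s * y₂) := by noncomm_ring
    rw [d1, d2, b3, sub_sub, ← add_mul, ← mul_add, hl, mul_one, sub_self]
  have c5 : g ∈ B := B.sub_mem B.one_mem (B.mul_mem (B.mul_mem h1 b0) h3)
  refine ⟨g * y₂ * star g, B.mul_mem (B.mul_mem c5 b0) (hB _ c5), ?_, ?_, ?_, ?_⟩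
  · rw [star_mul, star_mul, star_star, b1]; noncomm_ring
  · calc g * y₂ * star g * (g * y₂ * star g) = g * (y₂ * (star g * g) * y₂) * star g := by noncomm_ring
      _ = 0 := by rw [c4, mul_zero, zero_mul]
  · calc s * (g * y₂ * star g) * s = s * g * y₂ * (star g * s) := by noncomm_ring
      _ = s := by rw [c2, c3, b2]
  · calc g * y₂ * star g * s * (g * y₂ * star g) = g * y₂ * (star g * s * g) * y₂ * star g := by noncomm_ring
      _ = g * (y₂ * s * y₂) * star g := by rw [c3, c2]; noncomm_ring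
      _ = _ := by rw [b3]

omit [Finite A] in
theorem uni_one_add {s : A} (hs : star s = -s) (hss : s * s = 0) : (1 + s) * star (1 + s) = 1 := by
  rw [star_add, star_one, hs, add_mul, mul_add, mul_add, mul_neg, mul_neg, hss]; simp

omit [StarRing A] in
theorem exists_sq_ne [Nontrivial A] {W : Subring A} (h : IsF W) (h4 : 4 ≤ Nat.card W) :
    ∃ a ∈ W, a ≠ 0 ∧ a * a - 1 ≠ 0 := by
  let := h.isField.toField
  have := Fintype.ofFinite W
  obtain ⟨a, h1, h2⟩ := DS.Cl.Vec.exists_sq_ne (K := W) (by rwa [← Nat.card_eq_fintype_card])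
  exact ⟨a, a.2, fun e => h1 (Subtype.ext e), fun e => h2 (Subtype.ext (by rw [pow_two]; exact sub_eq_zero.1 e))⟩

/-- **long root elements** over a symmetric field with at least four elements are commutators -/
theorem one_add_mem [Nontrivial A] (hL : F.L = Lmax A) {W : Subring A} (h : IsF W) (hW : ∀ x ∈ W, star x = x)
    (h4 : 4 ≤ Nat.card W) {s y₀ l : A} (h1 : s ∈ Subring.centralizer (W : Set A))
    (h2 : y₀ ∈ Subring.centralizer (W : Set A)) (h3 : l ∈ Subring.centralizer (W : Set A)) (hl : l + star l = 1)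
    (hs : star s = -s) (hss : s * s = 0) (hy : s * y₀ * s = s) :
    mkU (1 + s) (uni_one_add hs hss) ∈ (⁅F.Iso, F.Iso⁆ : Subgroup Aˣ) := by
  obtain ⟨y, a0, a1, a2, a3, a4⟩ := exists_opp (star_centralizer fun x hx => by rw [hW x hx]; exact hx) h1 h2 h3 hl hs
    hss hy
  obtain ⟨a, ha, ha0, ha1⟩ := exists_sq_ne h h4
  obtain ⟨b, hb, hab⟩ := h.inv a ha ha0
  have hba : b * a = 1 := by rw [h.comm b hb a ha, hab]
  obtain ⟨k, hk, hk'⟩ := h.inv _ (W.sub_mem (W.mul_mem ha ha) W.one_mem) ha1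
  have e1 : ∀ x ∈ W, s * x = x * s := fun x hx => (h1 x hx).symm
  have e2 : ∀ x ∈ W, y * x = x * y := fun x hx => (a0 x hx).symm
  have e3 : ∀ x ∈ W, s * y * x = x * (s * y) := fun x hx => by rw [mul_assoc, e2 x hx, ← mul_assoc, e1 x hx, mul_assoc]
  have e4 : ∀ x ∈ W, y * s * x = x * (y * s) := fun x hx => by rw [mul_assoc, e1 x hx, ← mul_assoc, e2 x hx, mul_assoc]
  have f1 : s * y * (s * y) = s * y := by rw [← mul_assoc, a3]
  have f2 : y * s * (y * s) = y * s := by rw [← mul_assoc, a4]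
  have f3 : s * y * (y * s) = 0 := by rw [mul_assoc, ← mul_assoc y, a2, zero_mul, mul_zero]
  have f4 : y * s * (s * y) = 0 := by rw [mul_assoc, ← mul_assoc s, hss, zero_mul, mul_zero]
  have f5 : star (s * y) = y * s := by rw [star_mul, hs, a1, neg_mul_neg]
  have f6 : star (y * s) = s * y := by rw [star_mul, hs, a1, neg_mul_neg]
  have f7 : s * y * s = s := a3
  have f8 : y * s * s = 0 := by rw [mul_assoc, hss, mul_zero]
  have f9 : s * (s * y) = 0 := by rw [← mul_assoc, hss, zero_mul]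
  have f10 : s * (y * s) = s := by rw [← mul_assoc, a3]
  generalize s * y = e at e3 f1 f3 f4 f5 f6 f7 f9
  generalize y * s = e' at e4 f2 f3 f4 f5 f6 f8 f10
  have g1 : star (1 + (a - 1) * e + (b - 1) * e') = 1 + (b - 1) * e + (a - 1) * e' := by
    rw [star_add, star_add, star_one, star_mul, star_mul, f5, f6, hW _ (W.sub_mem ha W.one_mem),
      hW _ (W.sub_mem hb W.one_mem), e3 _ (W.sub_mem hb W.one_mem), e4 _ (W.sub_mem ha W.one_mem)]
    abel
  have g2 : (1 + (a - 1) * e + (b - 1) * e') * star (1 + (a - 1) * e + (b - 1) * e') = 1 := by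
    have g3 : (1 + (a - 1) * e + (b - 1) * e') * (1 + (b - 1) * e + (a - 1) * e') =
        1 + (a - 1) * e + (b - 1) * e' + (b - 1) * e + (a - 1) * e' + (a - 1) * (e * (b - 1)) * e +
          (a - 1) * (e * (a - 1)) * e' + (b - 1) * (e' * (b - 1)) * e + (b - 1) * (e' * (a - 1)) * e' := by noncomm_ring
    rw [g1, g3, e3 _ (W.sub_mem hb W.one_mem), e3 _ (W.sub_mem ha W.one_mem), e4 _ (W.sub_mem hb W.one_mem),
      e4 _ (W.sub_mem ha W.one_mem)]
    simp only [mul_assoc, f1, f2, f3, f4, mul_zero, add_zero]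
    have g4 : (a - 1) * ((b - 1) * e) = (a * b - a - b + 1) * e := by noncomm_ring
    have g5 : (b - 1) * ((a - 1) * e') = (b * a - a - b + 1) * e' := by noncomm_ring
    rw [g4, g5, hab, hba]
    noncomm_ring
  have g3 : star (k * s) = -(k * s) := by rw [star_mul, hs, hW k hk, neg_mul, e1 k hk]
  have g4 : k * s * (k * s) = 0 := by rw [mul_assoc, ← mul_assoc s, e1 k hk, mul_assoc, hss, mul_zero, mul_zero]
  have g5 : mkU (1 + s) (uni_one_add hs hss) = ⁅mkU _ g2, mkU _ (uni_one_add g3 g4)⁆ := by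
    apply Units.ext
    rw [commutatorElement_def, Units.val_mul, Units.val_mul, Units.val_mul, star_eq_inv (u := mkU _ g2) g2,
      star_eq_inv (u := mkU _ (uni_one_add g3 g4)) (uni_one_add g3 g4), mkU_val, mkU_val, mkU_val, star_add 1 (k * s),
      star_one, g3]
    have g6 : (1 + (a - 1) * e + (b - 1) * e') * s = a * s := by
      rw [add_mul, add_mul, mul_assoc, mul_assoc, f7, f8]; noncomm_ring
    have g7 : s * star (1 + (a - 1) * e + (b - 1) * e') = a * s := by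
      rw [g1, mul_add, mul_add, ← mul_assoc, ← mul_assoc, e1 _ (W.sub_mem hb W.one_mem),
        e1 _ (W.sub_mem ha W.one_mem), mul_assoc, mul_assoc, f9, f10]; noncomm_ring
    have g8 : (1 + (a - 1) * e + (b - 1) * e') * (1 + k * s) * star (1 + (a - 1) * e + (b - 1) * e') =
        1 + a * a * k * s := by
      rw [mul_add, mul_one, add_mul, g2, ← e1 k hk, ← mul_assoc, g6, mul_assoc a, e1 k hk, mul_assoc, mul_assoc, g7,
        ← mul_assoc, ← mul_assoc, mul_assoc a k, h.comm k hk a ha, ← mul_assoc]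
    have g9 : (1 + a * a * k * s) * (1 + -(k * s)) = 1 + (a * a - 1) * k * s - a * a * (k * s * (k * s)) := by
      noncomm_ring
    rw [g8, g9, g4, hk', one_mul, mul_zero, sub_zero]
  rw [g5]
  exact Subgroup.commutator_mem_commutator (mem_Iso_max hL g2) (mem_Iso_max hL (uni_one_add g3 g4))

end Cfsg.Agent.TH.Cl.Fld
end

private theorem dce_f0ffab774e08 : _root_.True := by
  try have : _root_.True := by simp only [_root_.Cfsg.Agent.TH.Cl.Fld.un.congr_simp]
  try have : _root_.True := by simp only [_root_.Cfsg.Agent.TH.Cl.Fld.avg.congr_simp]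
  exact _root_.True.intro
end

-- part: TH/Cl/FldLU/Main
section
prune_inst 0x840004004022120000000000000000004000000000000000008009000008200000000000000000040000010000000400000000000000000000000000000000000000000400000008000008000000000000000000000000000000000000010000000000000
set_option linter.all false
open scoped Cfsg.Agent.FastGrp

-- part: TH/Cl/FldLU/Zt
section
/-!
# S3541, linear and unitary groups: the ring `W + W θ` and Eichler transformations over `W` (helper9)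
-/

set_option autoImplicit false

namespace Cfsg.Agent.TH.Cl.Fld

open Cfsg.Agent.DS.Cl Cfsg.Agent.DS.Cl.Fwd Cfsg.Agent.SB.Cl Cfsg.Agent.SB.C2 Cfsg.Agent.SB.Fld Module
open scoped commutatorElement

variable {A : Type} [Ring A] [StarRing A]

omit [StarRing A] in
/-- the ring `W + W θ` -/
def Zt (W : Subring A) (θ : A) : Subring A := Subring.closure ((W : Set A) ∪ {θ})

/-- `W` is a field of symmetric elements, `θ` commutes with `W`, has trace and norm in `W`, `θ - star θ` is a unit -/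
structure Qd (W : Subring A) (θ : A) : Prop where
  isF : IsF W
  sym : ∀ x ∈ W, star x = x
  comm : ∀ x ∈ W, x * θ = θ * x
  tr : θ + star θ ∈ W
  nm : θ * star θ ∈ W
  unit : IsUnit (θ - star θ)

omit [StarRing A] in
theorem le_Zt {W : Subring A} {θ : A} : W ≤ Zt W θ := fun _ hx => Subring.subset_closure (Or.inl hx)

omit [StarRing A] in
theorem self_mem_Zt {W : Subring A} {θ : A} : θ ∈ Zt W θ := Subring.subset_closure (Or.inr rfl)

omit [StarRing A] in
theorem Zt_le {W X : Subring A} {θ : A} (h1 : W ≤ X) (h2 : θ ∈ X) : Zt W θ ≤ X :=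
  Subring.closure_le.2 (Set.union_subset h1 (Set.singleton_subset_iff.2 h2))

namespace Qd

variable {W : Subring A} {θ : A} (h : Qd W θ)
include h

theorem mem_iff {z : A} : z ∈ Zt W θ ↔ ∃ a ∈ W, ∃ b ∈ W, z = a + b * θ := by
  refine ⟨fun hz => ?_, fun ⟨a, ha, b, hb, e⟩ => e ▸ add_mem (le_Zt ha) (mul_mem (le_Zt hb) self_mem_Zt)⟩
  have h1 : θ * θ = (θ + star θ) * θ - θ * star θ := by rw [h.comm _ h.tr]; noncomm_ring
  let X : Subring A :=
    { carrier := {z | ∃ a ∈ W, ∃ b ∈ W, z = a + b * θ}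
      mul_mem' := by
        rintro _ _ ⟨a, ha, b, hb, rfl⟩ ⟨a', ha', b', hb', rfl⟩
        refine ⟨a * a' - b * b' * (θ * star θ), sub_mem (mul_mem ha ha') (mul_mem (mul_mem hb hb') h.nm),
          a * b' + b * a' + b * b' * (θ + star θ),
          add_mem (add_mem (mul_mem ha hb') (mul_mem hb ha')) (mul_mem (mul_mem hb hb') h.tr), ?_⟩
        have h2 : (a + b * θ) * (a' + b' * θ) = a * a' + a * b' * θ + b * (θ * a') + b * (θ * b') * θ := by noncomm_ring
        rw [h2, ← h.comm _ ha', ← h.comm _ hb', mul_assoc b, mul_assoc b', h1]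
        noncomm_ring
      one_mem' := ⟨1, one_mem _, 0, zero_mem _, by simp⟩
      add_mem' := by
        rintro _ _ ⟨a, ha, b, hb, rfl⟩ ⟨a', ha', b', hb', rfl⟩
        exact ⟨a + a', add_mem ha ha', b + b', add_mem hb hb', by noncomm_ring⟩
      zero_mem' := ⟨0, zero_mem _, 0, zero_mem _, by simp⟩
      neg_mem' := by
        rintro _ ⟨a, ha, b, hb, rfl⟩
        exact ⟨-a, neg_mem ha, -b, neg_mem hb, by noncomm_ring⟩ }
  exact Zt_le (X := X) (fun x hx => ⟨x, hx, 0, zero_mem _, by simp⟩) ⟨0, zero_mem _, 1, one_mem _, by simp⟩ hz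

theorem star_self : star θ ∈ Zt W θ := by
  simpa only [_root_.add_sub_cancel_left] using sub_mem (le_Zt (θ := θ) h.tr) (self_mem_Zt (W := W))

theorem star_eq {a b : A} (ha : a ∈ W) (hb : b ∈ W) : star (a + b * θ) = a + b * star θ := by
  rw [star_add, h.sym a ha, h.comm b hb, star_mul, h.sym b hb]

theorem star_mem : ∀ z ∈ Zt W θ, star z ∈ Zt W θ := fun z hz => by
  obtain ⟨a, ha, b, hb, rfl⟩ := h.mem_iff.1 hz
  rw [h.star_eq ha hb]
  exact add_mem (le_Zt ha) (mul_mem (le_Zt hb) h.star_self)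

omit h [StarRing A] in
theorem comm_of {x : A} (h1 : ∀ w ∈ W, w * x = x * w) (h2 : θ * x = x * θ) : ∀ z ∈ Zt W θ, z * x = x * z :=
  fun _ hz => (Zt_le (X := Subring.centralizer {x}) (fun w hw _ hy => by rw [Set.mem_singleton_iff.1 hy, h1 w hw])
    (fun _ hy => by rw [Set.mem_singleton_iff.1 hy, h2]) hz x rfl).symm

theorem mul_comm : ∀ x ∈ Zt W θ, ∀ y ∈ Zt W θ, x * y = y * x := fun x hx y hy =>
  comm_of (fun w hw => (comm_of (fun w' hw' => h.isF.comm w' hw' w hw) (h.comm w hw).symm y hy).symm)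
    (comm_of h.comm rfl y hy).symm x hx

theorem sub_star {a b : A} (ha : a ∈ W) (hb : b ∈ W) : a + b * θ - star (a + b * θ) = b * (θ - star θ) := by
  rw [h.star_eq ha hb]; noncomm_ring

theorem mem_of_sym {z : A} (hz : z ∈ Zt W θ) (hs : star z = z) : z ∈ W := by
  obtain ⟨a, ha, b, hb, rfl⟩ := h.mem_iff.1 hz
  have h1 := h.sub_star ha hb
  rw [hs, sub_self] at h1
  rw [h.unit.mul_left_eq_zero.1 h1.symm, zero_mul, add_zero]
  exact ha

theorem norm_mem {z : A} (hz : z ∈ Zt W θ) : star z * z ∈ W :=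
  h.mem_of_sym (mul_mem (h.star_mem z hz) hz) (by rw [star_mul, star_star])

theorem trace_mem {z : A} (hz : z ∈ Zt W θ) : z + star z ∈ W :=
  h.mem_of_sym (add_mem hz (h.star_mem z hz)) (by rw [star_add, star_star, add_comm])

theorem card_eq : Nat.card (Zt W θ) = Nat.card W ^ 2 := by
  rw [pow_two, ← Nat.card_prod]
  refine (Nat.card_congr (Equiv.ofBijective (fun x : W × W => (⟨x.1 + x.2 * θ, h.mem_iff.2 ⟨_, x.1.2, _, x.2.2, rfl⟩⟩ :
    Zt W θ)) ⟨fun x y e => ?_, fun z => ?_⟩)).symm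
  · have h1 : (x.1 : A) + x.2 * θ = y.1 + y.2 * θ := congrArg Subtype.val e
    have h2 := h.sub_star x.1.2 x.2.2
    rw [h1, h.sub_star y.1.2 y.2.2] at h2
    have h3 := h.unit.mul_right_cancel h2
    rw [h3, add_left_inj] at h1
    exact Prod.ext (Subtype.ext h1) (Subtype.ext h3.symm)
  · obtain ⟨a, ha, b, hb, e⟩ := h.mem_iff.1 z.2
    exact ⟨(⟨a, ha⟩, ⟨b, hb⟩), Subtype.ext e.symm⟩

/-- elements of non-zero norm are units -/
theorem exists_inv {z : A} (hz : z ∈ Zt W θ) (h0 : star z * z ≠ 0) : ∃ y ∈ Zt W θ, y * z = 1 ∧ z * y = 1 := by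
  obtain ⟨w, hw, e⟩ := h.isF.inv _ (h.norm_mem hz) h0
  have h1 := mul_mem (le_Zt (θ := θ) hw) (h.star_mem z hz)
  have h2 : w * star z * z = 1 := by rw [mul_assoc, h.isF.comm w hw _ (h.norm_mem hz), e]
  exact ⟨_, h1, h2, by rw [h.mul_comm z hz _ h1, h2]⟩

theorem inv_mem [Nontrivial A] {u : Aˣ} (hu : (u : A) ∈ Zt W θ) : ((u⁻¹ : Aˣ) : A) ∈ Zt W θ := by
  obtain ⟨y, hy, -, e⟩ := h.exists_inv hu (u.isUnit.star.mul u.isUnit).ne_zero
  rw [Units.inv_eq_of_mul_eq_one_right e]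
  exact hy

variable [Finite A] [Nontrivial A]

/-- the norm is onto -/
theorem norm_surj {w : A} (hw : w ∈ W) : ∃ z ∈ Zt W θ, star z * z = w := by
  let := h.isF.isField.toField
  have := Fintype.ofFinite W
  rcases Nat.mod_two_eq_zero_or_one (Fintype.card W) with h2 | h2
  · obtain ⟨a, ha⟩ := FiniteField.isSquare_of_char_two (FiniteField.even_card_iff_char_two.2 h2) (⟨w, hw⟩ : W)
    exact ⟨a, le_Zt a.2, by rw [h.sym _ a.2]; exact (congrArg Subtype.val ha).symm⟩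
  · have h3 : θ - star θ ∈ Zt W θ := sub_mem self_mem_Zt h.star_self
    have h4 : star (θ - star θ) = -(θ - star θ) := by rw [star_sub, star_star, neg_sub]
    have h5 := h.norm_mem h3
    have h6 : (⟨_, h5⟩ : W) ≠ 0 := fun e => (h.unit.star.mul h.unit).ne_zero (congrArg Subtype.val e)
    obtain ⟨a, b, hab⟩ := FiniteField.exists_root_sum_quadratic (R := W)
      (f := Polynomial.X ^ 2 - Polynomial.C ⟨w, hw⟩) (g := Polynomial.C ⟨_, h5⟩ * Polynomial.X ^ 2)
      (Polynomial.degree_X_pow_sub_C (by norm_num) _) (Polynomial.degree_C_mul_X_pow 2 h6) h2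
    simp only [Polynomial.eval_sub, Polynomial.eval_pow, Polynomial.eval_X, Polynomial.eval_C,
      Polynomial.eval_mul] at hab
    have h7 : (a : A) ^ 2 - w + star (θ - star θ) * (θ - star θ) * (b : A) ^ 2 = 0 := congrArg Subtype.val hab
    refine ⟨a + (θ - star θ) * b, add_mem (le_Zt a.2) (mul_mem h3 (le_Zt b.2)), ?_⟩
    rw [star_add, star_mul, h.sym _ a.2, h.sym _ b.2, h4] at *
    have h8 := h.mul_comm _ h3 _ (le_Zt a.2)
    have h9 := h.mul_comm _ h3 _ (le_Zt b.2)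
    have h10 := h.isF.comm _ a.2 _ b.2
    generalize θ - star θ = t at h7 h8 h9
    have h11 : ((a : A) + b * -t) * (a + t * b) = a * a + a * t * b - b * (t * a) - b * t * t * b := by noncomm_ring
    have h12 : (b : A) * t * t * b = t * t * b ^ 2 := by rw [← h9, mul_assoc t, ← h9]; noncomm_ring
    rw [h11, h12, h8, ← mul_assoc, ← h10, mul_assoc (a : A) b, ← h9, ← mul_assoc, ← sub_eq_zero, ← h7]
    noncomm_ring

omit [Finite A] in
/-- a unitary element `l` such that `l - 1` is a unit -/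
theorem exists_uni (h4 : 4 ≤ Nat.card W) : ∃ l ∈ Zt W θ, ∃ k ∈ Zt W θ, star l * l = 1 ∧ (l - 1) * k = 1 := by
  obtain ⟨w, hw, h0⟩ : ∃ w ∈ W, star (w + 1 * θ) * (w + 1 * θ) ≠ 0 := by
    by_contra hc
    push Not at hc
    have h1 : ∀ w ∈ W, w * w + w * (θ + star θ) + star θ * θ = 0 := fun w hw => by
      rw [← hc w hw, h.star_eq hw (one_mem _), one_mul, one_mul, add_mul, mul_add, mul_add, mul_add,
        h.mul_comm _ h.star_self _ (le_Zt hw)]
      abel
    have h2 := h1 0 (zero_mem _)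
    have h3 := h1 1 (one_mem _)
    rw [zero_mul, zero_mul, zero_add, zero_add] at h2
    rw [h2, add_zero, one_mul, one_mul] at h3
    have h5 : ∀ w : W, w = 0 ∨ w = 1 := fun w => by
      by_cases e : (w : A) = 0
      · exact Or.inl (Subtype.ext e)
      · have h5 := h1 w w.2
        rw [h2, add_zero, ← mul_add, eq_neg_of_add_eq_zero_right h3] at h5
        exact Or.inr (Subtype.ext (add_neg_eq_zero.1 ((h.isF.isUnit w.2 e).mul_right_eq_zero.1 h5)))
    have h6 : Nat.card W ≤ Nat.card (Fin 2) := Nat.card_le_card_of_surjective (![0, 1] : Fin 2 → W) fun w => by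
      rcases h5 w with rfl | rfl
      exacts [⟨0, rfl⟩, ⟨1, rfl⟩]
    rw [Nat.card_fin] at h6
    omega
  have hz : w + 1 * θ ∈ Zt W θ := h.mem_iff.2 ⟨w, hw, 1, one_mem _, rfl⟩
  have h1 := h.sub_star hw (one_mem _)
  rw [one_mul (θ - _)] at h1
  generalize w + 1 * θ = z at h0 hz h1
  obtain ⟨y, hy, a1, a2⟩ := h.exists_inv hz h0
  obtain ⟨t, ht, a3, a4⟩ := h.exists_inv (sub_mem self_mem_Zt h.star_self) (h.unit.star.mul h.unit).ne_zero
  have a5 : star y * star z = 1 := by rw [← star_mul, a2, star_one]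
  have a6 := h.star_mem _ hy
  have a7 := h.star_mem _ hz
  refine ⟨z * star y, mul_mem hz a6, t * star z, mul_mem ht a7, ?_, ?_⟩
  · rw [star_mul, star_star, mul_assoc, ← mul_assoc (star z), h.mul_comm _ a7 _ hz, mul_assoc, ← mul_assoc, a1, one_mul,
      h.mul_comm _ a7 _ a6, a5]
  · rw [h.mul_comm _ ht _ a7, ← mul_assoc, sub_mul, mul_assoc z, a5, mul_one, one_mul, h1, a4]

end Qd

/-! ### Heisenberg groups -/

/-- `a x + b x* + k x* x` -/
def hs (x a b k : A) : A := a * x + b * star x + k * (star x * x)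

/-- `x` is nilpotent and commutes with the commutative star-closed subring `Z` -/
structure Hs (Z : Subring A) (x : A) : Prop where
  st : ∀ z ∈ Z, star z ∈ Z
  cc : ∀ a ∈ Z, ∀ b ∈ Z, a * b = b * a
  comm : ∀ z ∈ Z, z * x = x * z
  xx : x * x = 0
  xs : x * star x = 0

namespace Hs

variable {Z : Subring A} {x : A} (h : Hs Z x)
include h

theorem comm' {z : A} (hz : z ∈ Z) : z * star x = star x * z := by
  have h1 := congrArg star (h.comm _ (h.st z hz))
  rw [star_mul, star_mul, star_star] at h1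
  exact h1.symm

theorem mul {a' b' k' : A} (a b k : A) (ha : a' ∈ Z) (hb : b' ∈ Z) (hk : k' ∈ Z) :
    hs x a b k * hs x a' b' k' = b * a' * (star x * x) := by
  have h1 : star x * star x = 0 := by rw [← star_mul, h.xx, star_zero]
  have h2 : x * hs x a' b' k' = 0 := by
    rw [hs, mul_add, mul_add, ← mul_assoc, ← mul_assoc, ← mul_assoc, ← h.comm _ ha, ← h.comm _ hb, ← h.comm _ hk,
      mul_assoc, mul_assoc, mul_assoc, ← mul_assoc x, h.xx, h.xs]
    simp
  have h3 : star x * hs x a' b' k' = a' * (star x * x) := by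
    rw [hs, mul_add, mul_add, ← mul_assoc, ← mul_assoc, ← mul_assoc, ← h.comm' ha, ← h.comm' hb, ← h.comm' hk,
      mul_assoc, mul_assoc, mul_assoc, ← mul_assoc (star x) (star x), h1]
    simp only [_root_.MulZeroClass.mul_zero, _root_.add_zero, _root_.MulZeroClass.zero_mul]
  conv_lhs => rw [hs, add_mul, add_mul, mul_assoc, mul_assoc, mul_assoc, mul_assoc, h2, h3]
  simp only [mul_assoc, _root_.MulZeroClass.mul_zero, _root_.zero_add, _root_.add_zero, _root_.mul_assoc]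

theorem one_mul {a' b' k' : A} (a b k : A) (ha : a' ∈ Z) (hb : b' ∈ Z) (hk : k' ∈ Z) :
    (1 + hs x a b k) * (1 + hs x a' b' k') = 1 + hs x (a + a') (b + b') (k + k' + b * a') := by
  rw [add_mul, mul_add, mul_add, h.mul a b k ha hb hk, hs, hs, hs]
  noncomm_ring

theorem star_hs {a b k : A} (ha : a ∈ Z) (hb : b ∈ Z) (hk : k ∈ Z) :
    star (hs x a b k) = hs x (star b) (star a) (star k) := by
  rw [hs, hs, star_add, star_add, star_mul, star_mul, star_mul, star_mul, star_star, ← h.comm' (h.st _ ha),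
    ← h.comm _ (h.st _ hb), mul_assoc, ← h.comm _ (h.st _ hk), ← mul_assoc, ← h.comm' (h.st _ hk), mul_assoc]
  abel

theorem comm_hs {a b k z : A} (ha : a ∈ Z) (hb : b ∈ Z) (hk : k ∈ Z) (hz : z ∈ Z) : z * hs x a b k = hs x a b k * z := by
  rw [hs, mul_add, mul_add, add_mul, add_mul, ← mul_assoc, ← mul_assoc, ← mul_assoc, h.cc _ hz _ ha, h.cc _ hz _ hb,
    h.cc _ hz _ hk, mul_assoc a, mul_assoc b, mul_assoc k, h.comm _ hz, h.comm' hz, ← mul_assoc z, h.comm' hz,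
    mul_assoc (star x), h.comm _ hz]
  simp only [mul_assoc]

/-- the nilpotent ring -/
def J : NonUnitalSubring A where
  carrier := {j | ∃ a ∈ Z, ∃ b ∈ Z, ∃ k ∈ Z, j = hs x a b k}
  add_mem' := by
    rintro _ _ ⟨a, ha, b, hb, k, hk, rfl⟩ ⟨a', ha', b', hb', k', hk', rfl⟩
    exact ⟨_, add_mem ha ha', _, add_mem hb hb', _, add_mem hk hk', by simp only [hs]; noncomm_ring⟩
  zero_mem' := ⟨0, zero_mem _, 0, zero_mem _, 0, zero_mem _, by simp only [hs, _root_.Cfsg.Agent.TH.Cl.Fld.hs, _root_.MulZeroClass.zero_mul, _root_.add_zero]⟩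
  mul_mem' := by
    rintro _ _ ⟨a, -, b, hb, k, -, rfl⟩ ⟨a', ha', b', hb', k', hk', rfl⟩
    exact ⟨0, zero_mem _, 0, zero_mem _, _, mul_mem hb ha', by rw [h.mul a b k ha' hb' hk']; simp only [hs, _root_.Cfsg.Agent.TH.Cl.Fld.hs, _root_.MulZeroClass.zero_mul, _root_.add_zero, _root_.zero_add]⟩
  neg_mem' := by
    rintro _ ⟨a, ha, b, hb, k, hk, rfl⟩
    exact ⟨_, neg_mem ha, _, neg_mem hb, _, neg_mem hk, by simp only [hs]; noncomm_ring⟩

theorem nil : ∀ j ∈ h.J, IsNilpotent j := by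
  rintro _ ⟨a, ha, b, hb, k, hk, rfl⟩
  refine ⟨3, ?_⟩
  have h1 := h.mul 0 0 (b * a) ha hb hk
  rw [pow_succ, pow_two, h.mul a b k ha hb hk]
  simpa only [hs, _root_.MulZeroClass.zero_mul, _root_.add_zero, _root_.zero_add] using h1

theorem uni {c a : A} (hc : c ∈ Z) (h1 : c + star c = 1) (ha : a ∈ Z) :
    (1 + hs x a (-star a) (-(c * (star a * a)))) * star (1 + hs x a (-star a) (-(c * (star a * a)))) = 1 := by
  have h2 := mul_mem (h.st a ha) ha
  rw [star_add, star_one, h.star_hs ha (neg_mem (h.st a ha)) (neg_mem (mul_mem hc h2)),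
    h.one_mul _ _ _ (h.st _ (neg_mem (h.st a ha))) (h.st a ha) (h.st _ (neg_mem (mul_mem hc h2))), star_neg, star_neg,
    star_star, star_mul, star_mul, star_star, h.cc _ h2 _ (h.st c hc), neg_mul_neg, ← neg_add, ← add_mul, h1]
  simp only [hs, _root_.Cfsg.Agent.TH.Cl.Fld.hs, _root_.add_neg_cancel, _root_.MulZeroClass.zero_mul, _root_.neg_add_cancel, _root_.add_zero, _root_.one_mul]

/-- the Eichler transformation of `a x` -/
noncomputable def ei [Finite A] {c a : A} (hc : c ∈ Z) (h1 : c + star c = 1) (ha : a ∈ Z) : Aˣ := mkU _ (h.uni hc h1 ha)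

theorem ei_val [Finite A] {c a : A} (hc : c ∈ Z) (h1 : c + star c = 1) (ha : a ∈ Z) :
    (h.ei hc h1 ha : A) = 1 + hs x a (-star a) (-(c * (star a * a))) := rfl

theorem ei_inv [Finite A] {c a : A} (hc : c ∈ Z) (h1 : c + star c = 1) (ha : a ∈ Z) :
    (((h.ei hc h1 ha)⁻¹ : Aˣ) : A) = 1 + hs x (-a) (star a) (-(star c * (star a * a))) := by
  have h2 := mul_mem (h.st a ha) ha
  rw [star_eq_inv (h.uni hc h1 ha), ei_val, star_add, star_one,
    h.star_hs ha (neg_mem (h.st a ha)) (neg_mem (mul_mem hc h2)), star_neg, star_neg, star_star, star_mul, star_mul,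
    star_star, h.cc _ h2 _ (h.st c hc)]

end Hs

variable [Finite A] [Nontrivial A] {F : FR A} {W : Subring A} {θ : A}

theorem skew_mem (ss : SS A) (hL : F.L = Lmax A) (h : IsF W) (hW : ∀ x ∈ W, star x = x) (h4 : 4 ≤ Nat.card W) {l : A}
    (h3 : l ∈ Subring.centralizer (W : Set A)) (hl : l + star l = 1) {u : Aˣ}
    (hu : (u : A) ∈ Subring.centralizer (W : Set A)) (h1 : (u : A) * star (u : A) = 1)
    (h2 : ((u : A) - 1) * (u - 1) = 0) : u ∈ (⁅F.Iso, F.Iso⁆ : Subgroup Aˣ) := by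
  obtain ⟨s, hs⟩ : ∃ s, (u : A) = 1 + s := ⟨u - 1, by abel⟩
  rw [hs, add_sub_cancel_left] at h2
  have a1 : s ∈ Subring.centralizer (W : Set A) := by simpa [hs] using sub_mem hu (one_mem _)
  have a2 : star s = -s := by
    have b1 : (u : A) * (1 - s) = 1 := by rw [hs, add_mul, mul_sub, mul_sub, h2]; simp
    have b2 := u.isUnit.mul_left_cancel (h1.trans b1.symm)
    rw [hs, star_add, star_one, sub_eq_add_neg, add_right_inj] at b2
    exact b2
  obtain ⟨y, hy⟩ := ss.regular s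
  have a3 := one_add_mem hL h hW h4 a1 (avg_mem h y) h3 hl a2 h2
    (by rw [← avg_mul_left a1, ← avg_mul_right h a1, hy, avg_of_mem h a1])
  rwa [show mkU _ (uni_one_add a2 h2) = u from Units.ext hs.symm] at a3

/-- Eichler transformations over `W + W θ` are products of commutators -/
theorem ei_mem (ss : SS A) (hL : F.L = Lmax A) (hq : Qd W θ) (h4 : 4 ≤ Nat.card W) {x e c a : A} (h : Hs (Zt W θ) x)
    (hc : c ∈ Zt W θ) (h1 : c + star c = 1) (ha : a ∈ Zt W θ) (e1 : ∀ z ∈ Zt W θ, z * e = e * z) (e2 : star e = e)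
    (e3 : e * e = e) (e4 : e * x = x) (e5 : x * e = 0) : h.ei hc h1 ha ∈ (⁅F.Iso, F.Iso⁆ : Subgroup Aˣ) := by
  obtain ⟨l, hl, k, hk, l1, l2⟩ := hq.exists_uni h4
  have hl' := hq.star_mem l hl
  have a1 : star (1 + (l - 1) * e) = 1 + (star l - 1) * e := by
    rw [star_add, star_one, star_mul, e2, star_sub, star_one, e1 _ (sub_mem hl' (one_mem _))]
  have a2 : (1 + (l - 1) * e) * star (1 + (l - 1) * e) = 1 := by
    have b1 : (1 + (l - 1) * e) * (1 + (star l - 1) * e) =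
      1 + (l - 1) * e + (star l - 1) * e + (l - 1) * (e * (star l - 1)) * e := by noncomm_ring
    have b2 : (l - 1) * ((star l - 1) * e) * e = (l * star l - l - star l + 1) * (e * e) := by noncomm_ring
    rw [a1, b1, ← e1 _ (sub_mem hl' (one_mem _)), b2, e3, hq.mul_comm _ hl _ hl', l1]
    noncomm_ring
  have e6 : star x * e = star x := by rw [← e2, ← star_mul, e4]
  have e7 : e * star x = 0 := by rw [← e2, ← star_mul, e5, star_zero]
  have a3 : ∀ a ∈ Zt W θ, ∀ b ∈ Zt W θ, ∀ k ∈ Zt W θ,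
      (1 + (l - 1) * e) * hs x a b k * star (1 + (l - 1) * e) = hs x (l * a) (star l * b) k := by
    intro a ha b hb k hk
    have b1 : e * hs x a b k = a * x := by
      rw [hs, mul_add, mul_add, ← mul_assoc, ← mul_assoc, ← mul_assoc, ← e1 _ ha, ← e1 _ hb, ← e1 _ hk, mul_assoc,
        mul_assoc, mul_assoc, ← mul_assoc e, e4, e7]
      simp
    have b2 : ∀ a, hs x a b k * e = b * star x := fun a => by
      rw [hs, add_mul, add_mul, mul_assoc, mul_assoc, mul_assoc, mul_assoc, e5, e6]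
      simp only [_root_.MulZeroClass.mul_zero, _root_.zero_add, _root_.add_zero]
    have b3 : (1 + (l - 1) * e) * hs x a b k = hs x (l * a) b k := by
      rw [add_mul, mul_assoc, b1, hs, hs]; noncomm_ring
    rw [b3, a1, mul_add, ← mul_assoc, ← h.comm_hs (mul_mem hl ha) hb hk (sub_mem hl' (one_mem _)), mul_assoc, b2, hs, hs]
    noncomm_ring
  have hka := mul_mem hk ha
  have a4 := Subgroup.commutator_mem_commutator (mem_Iso_max hL (u := mkU _ a2) a2)
    (mem_Iso_max hL (u := h.ei hc h1 hka) (h.uni hc h1 hka))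
  have a5 : l * (k * a) + -(k * a) = a := by rw [← sub_eq_add_neg, ← sub_one_mul, ← mul_assoc, l2, one_mul]
  have a6 : star l * -star (k * a) + star (k * a) = -star a := by
    rw [mul_neg, hq.mul_comm _ hl' _ (hq.star_mem _ hka), ← star_mul, ← star_neg, ← star_add, ← star_neg]
    congr 1
    conv_rhs => rw [← a5]
    abel
  have n1 := mul_mem (hq.star_mem _ hka) hka
  obtain ⟨k₁, hk₁, a7⟩ : ∃ k₁ ∈ Zt W θ, ((⁅mkU _ a2, h.ei hc h1 hka⁆ : Aˣ) : A) = 1 + hs x a (-star a) k₁ := by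
    refine ⟨_, add_mem (add_mem (neg_mem (mul_mem hc n1)) (neg_mem (mul_mem (hq.star_mem _ hc) n1)))
      (mul_mem (mul_mem hl' (neg_mem (hq.star_mem _ hka))) (neg_mem hka)), ?_⟩
    rw [commutatorElement_def, Units.val_mul, Units.val_mul, Units.val_mul, star_eq_inv (u := mkU _ a2) a2, mkU_val,
      h.ei_val, h.ei_inv, mul_add (1 + (l - 1) * e), mul_one, add_mul (1 + (l - 1) * e), a2, a3 _ hka _ (neg_mem (hq.star_mem _ hka)) _
        (neg_mem (mul_mem hc n1)), h.one_mul _ _ _ (neg_mem hka) (hq.star_mem _ hka)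
        (neg_mem (mul_mem (hq.star_mem _ hc) n1)), a5, a6]
  have n2 := neg_mem (mul_mem hc (mul_mem (hq.star_mem _ ha) ha))
  have a8 : ((⁅mkU _ a2, h.ei hc h1 hka⁆⁻¹ * h.ei hc h1 ha : Aˣ) : A) =
      1 + hs x 0 0 (-(c * (star a * a)) - k₁) := by
    rw [Units.val_mul, Units.inv_mul_eq_iff_eq_mul, a7, h.one_mul _ _ _ (zero_mem _) (zero_mem _) (sub_mem n2 hk₁),
      h.ei_val]
    simp only [_root_.add_zero, _root_.add_sub_cancel, _root_.MulZeroClass.mul_zero]
  have a9 := skew_mem ss hL hq.isF hq.sym h4 (fun w hw => hq.mul_comm _ (le_Zt hw) _ hc) h1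
    (u := ⁅mkU _ a2, h.ei hc h1 hka⁆⁻¹ * h.ei hc h1 ha)
    (fun w hw => by rw [a8, mul_add, add_mul, h.comm_hs (zero_mem _) (zero_mem _) (sub_mem n2 hk₁) (le_Zt hw)]; simp only [_root_.mul_one, _root_.one_mul])
    (FR.Iso.ms (mul_mem (inv_mem (F.comm_le_Iso a4)) (mem_Iso_max hL (h.uni hc h1 ha))))
    (by rw [a8, add_sub_cancel_left, h.mul _ _ _ (zero_mem _) (zero_mem _) (sub_mem n2 hk₁)]; simp only [_root_.MulZeroClass.mul_zero, _root_.MulZeroClass.zero_mul])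
  have a10 := mul_mem a4 a9
  rwa [mul_inv_cancel_left] at a10

end Cfsg.Agent.TH.Cl.Fld
end

-- part: TH/Cl/FldLU/Big
section
/-!
# S3541, linear and unitary groups: an invariant field of symmetric elements belongs to a Singer cycle (helper9)
-/

set_option autoImplicit false

namespace Cfsg.Agent.TH.Cl.Fld

open Cfsg.Agent.DS.Cl Cfsg.Agent.DS.Cl.Fwd Cfsg.Agent.SB.Cl Cfsg.Agent.SB.C2 Cfsg.Agent.SB.Fld Module

variable {A : Type} [Ring A] [StarRing A] [Finite A] [Nontrivial A] {W : Subring A} {θ : A}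

/-- a `p`-group which fixes a non-singular point over `W + W θ` centralises a root group which moves the point -/
theorem exists_hs (hq : Qd W θ) {p : ℕ} (hp : p.Prime) (h0 : (p : A) = 0) {P : Subgroup (RingAut A)} (hP : IsPGroup p P)
    (hPS : P ≤ SAut A) (hPZ : P ≤ DS.Cl.Fix (Zt W θ : Set A)) {e : A} (e1 : e ∈ Subring.centralizer (Zt W θ : Set A))
    (e2 : star e = e) (e3 : e * e = e) (e4 : ∀ γ ∈ P, γ e = e)
    (e5 : ∀ a ∈ Subring.centralizer (Zt W θ : Set A), star a = a → ∃ w ∈ W, e * a * e = w * e)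
    (e6 : ∃ a ∈ Subring.centralizer (Zt W θ : Set A), (1 - e) * a * e ≠ 0) :
    ∃ x, Hs (Zt W θ) x ∧ (∀ γ ∈ P, γ x = x) ∧ (star x * x = 0 ∨ (e * x = x ∧ x * e = 0)) ∧
      star x * x * e = e * (star x * x) ∧ (x - star x) * e ≠ e * (x - star x) := by
  let M : AddSubgroup A :=
    { carrier := {x | x ∈ Subring.centralizer (Zt W θ : Set A) ∧ x * e = x ∧ e * x = 0}
      add_mem' := fun ha hb => ⟨add_mem ha.1 hb.1, by rw [add_mul, ha.2.1, hb.2.1], by
        rw [mul_add, ha.2.2, hb.2.2, add_zero]⟩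
      zero_mem' := ⟨zero_mem _, zero_mul e, mul_zero e⟩
      neg_mem' := fun ha => ⟨neg_mem ha.1, by rw [neg_mul, ha.2.1], by rw [mul_neg, ha.2.2, neg_zero]⟩ }
  obtain ⟨x, ⟨x1, x2, x3⟩, x4, x5⟩ := exists_fix hp h0 hP M (fun γ hγ x hx => ⟨fun z hz => by
      rw [← hPZ hγ z hz, ← map_mul, ← map_mul, hx.1 z hz], by rw [← e4 γ hγ, ← map_mul, hx.2.1], by
      rw [← e4 γ hγ, ← map_mul, hx.2.2, map_zero]⟩) fun hM => by
    obtain ⟨a, ha, h1⟩ := e6
    have h2 : (1 - e) * a * e ∈ M := ⟨mul_mem (mul_mem (sub_mem (one_mem _) e1) ha) e1, by rw [mul_assoc _ e, e3], by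
      rw [← mul_assoc, ← mul_assoc, mul_sub, e3, mul_one, sub_self, zero_mul, zero_mul]⟩
    rw [hM] at h2
    exact h1 h2
  have y1 := star_centralizer hq.star_mem x x1
  have y2 : e * star x = star x := by rw [← e2, ← star_mul, x2]
  have y3 : star x * e = 0 := by rw [← e2, ← star_mul, x3, star_zero]
  have xx : x * x = 0 := by rw [← x2, mul_assoc, ← mul_assoc e, x3, zero_mul, mul_zero]
  obtain ⟨w, hw, h1⟩ := e5 _ (mul_mem y1 x1) (by rw [star_mul, star_star])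
  rw [← mul_assoc, y2, mul_assoc, x2] at h1
  by_cases h2 : w = 0
  · rw [h2, zero_mul] at h1
    refine ⟨star x, ⟨hq.star_mem, hq.mul_comm, y1, by rw [← star_mul, xx, star_zero], by rw [star_star, h1]⟩,
      fun γ hγ => by rw [hPS hγ, x5 γ hγ], Or.inr ⟨y2, y3⟩, ?_, fun h3 => x4 ?_⟩
    · rw [star_star, mul_assoc, y3, ← mul_assoc, x3, mul_zero, zero_mul]
    · rw [star_star, sub_mul, mul_sub, y2, y3, x2, x3, zero_sub, sub_zero] at h3
      have h4 := congrArg (· * e) h3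
      simpa only [neg_mul, x2, y3, neg_eq_zero] using h4
  obtain ⟨w', hw', h3⟩ := hq.isF.inv w hw h2
  obtain ⟨a, ha, h4⟩ := hq.norm_surj (neg_mem hw')
  have a1 := hq.star_mem a ha
  have a2 : star (e + a * x) = e + star a * star x := by rw [star_add, e2, star_mul, y1 _ a1]
  have a3 : e * (e + a * x) = e := by rw [mul_add, e3, ← mul_assoc, ← e1 _ ha, mul_assoc, x3, mul_zero, add_zero]
  have a4 : (e + a * x) * e = e + a * x := by rw [add_mul, e3, mul_assoc, x2]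
  have a5 : star (e + a * x) * (e + a * x) = 0 := by
    rw [a2, add_mul, a3, mul_add, mul_assoc, y3, mul_assoc, ← mul_assoc (star x), ← y1 _ ha, mul_assoc, h1, ← mul_assoc,
      ← mul_assoc, h4, neg_mul, hq.isF.comm _ hw' _ hw, h3]
    simp only [_root_.MulZeroClass.mul_zero, _root_.neg_mul, _root_.one_mul, _root_.zero_add, _root_.add_neg_cancel]
  have a6 : e + a * x ∈ Subring.centralizer (Zt W θ : Set A) :=
    add_mem e1 (mul_mem (fun z hz => hq.mul_comm z hz a ha) x1)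
  have a7 : ∀ γ ∈ P, γ (e + a * x) = e + a * x := fun γ hγ => by rw [map_add, map_mul, e4 γ hγ, x5 γ hγ, hPZ hγ a ha]
  have a8 : (e + a * x) - star (e + a * x) ≠ 0 := fun h5 => by
    have h6 := congrArg (· * e) h5
    simp only [a2, sub_mul, add_mul, e3, mul_assoc, x2, y3, mul_zero, add_zero, zero_mul, add_sub_cancel_left] at h6
    have h7 := congrArg (fun y => -w * (star a * y)) h6
    simp only [← mul_assoc, mul_zero] at h7
    rw [mul_assoc (-w), h4, neg_mul_neg, h3, one_mul] at h7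
    exact x4 h7
  generalize e + a * x = t at a3 a4 a5 a6 a7 a8
  have b1 : t * star t ∈ Subring.centralizer (Zt W θ : Set A) := mul_mem a6 (star_centralizer hq.star_mem t a6)
  have b2 : t * star t * (t * star t) = 0 := by rw [mul_assoc, ← mul_assoc (star t), a5, zero_mul, mul_zero]
  have b3 : star (θ * (t * star t)) = star θ * (t * star t) := by rw [star_mul, star_mul, star_star, b1 _ hq.star_self]
  have b4 : ∀ y ∈ Zt W θ, ∀ z, z * (t * star t) * (y * (t * star t)) = 0 := fun y hy z => by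
    rw [b1 _ hy, mul_assoc, ← mul_assoc (t * star t), b2, zero_mul, mul_zero]
  have b5 : star (θ * (t * star t)) * (θ * (t * star t)) = 0 := by rw [b3, b4 _ self_mem_Zt]
  refine ⟨θ * (t * star t), ⟨hq.star_mem, hq.mul_comm, 
    Subring.mul_mem (Subring.centralizer _) (fun z hz => hq.mul_comm z hz θ self_mem_Zt) b1,
    b4 _ self_mem_Zt _, by rw [b3, b4 _ hq.star_self]⟩, fun γ hγ => by
      rw [map_mul, map_mul, hPS hγ, a7 γ hγ, hPZ hγ θ self_mem_Zt], Or.inl b5, by rw [b5, zero_mul, mul_zero],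
    fun h5 => a8 ?_⟩
  have b6 : star t * e = e := by rw [← e2, ← star_mul, a3]
  have b7 : e * star t = star t := by rw [← e2, ← star_mul, a4]
  rw [b3, ← sub_mul, ← mul_assoc e, ← e1 _ (sub_mem self_mem_Zt hq.star_self), mul_assoc, mul_assoc, mul_assoc, b6, a4,
    ← mul_assoc e, a3, b7] at h5
  exact sub_eq_zero.2 (hq.unit.mul_left_cancel h5)

omit [Nontrivial A] in
/-- the root group moves the point -/
theorem ei_inj (hq : Qd W θ) {x e c : A} (h : Hs (Zt W θ) x) (hc : c ∈ Zt W θ) (h1 : c + star c = 1)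
    (e1 : e ∈ Subring.centralizer (Zt W θ : Set A)) (h2 : star x * x * e = e * (star x * x))
    (h3 : (x - star x) * e ≠ e * (x - star x)) (a b : W)
    (hab : DS.Cl.cj A (h.ei hc h1 (le_Zt a.2)) e = DS.Cl.cj A (h.ei hc h1 (le_Zt b.2)) e) : a = b := by
  have a1 : DS.Cl.cj A ((h.ei hc h1 (le_Zt b.2))⁻¹ * h.ei hc h1 (le_Zt a.2)) e = e := by
    rw [map_mul, ra_mul, hab, map_inv, ra_inv_apply]
  have a2 := cj_mul_eq ((h.ei hc h1 (le_Zt b.2))⁻¹ * h.ei hc h1 (le_Zt a.2)) e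
  have ha := le_Zt (θ := θ) a.2
  have hb := le_Zt (θ := θ) b.2
  rw [a1, Units.val_mul, h.ei_inv, h.ei_val, h.one_mul _ _ _ ha (neg_mem (h.st _ ha))
    (neg_mem (mul_mem hc (mul_mem (h.st _ ha) ha))), hq.sym _ a.2, hq.sym _ b.2] at a2
  have a3 : -(star c * (b * b)) + -(c * (a * a)) + b * a ∈ Zt W θ := add_mem (add_mem
    (neg_mem (mul_mem (h.st _ hc) (mul_mem hb hb))) (neg_mem (mul_mem hc (mul_mem ha ha)))) (mul_mem hb ha)
  generalize -(star c * (b * b)) + -(c * (a * a)) + b * a = k at a2 a3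
  have a4 : hs x (-b + a) (b + -a) k = (a - b) * (x - star x) + k * (star x * x) := by rw [hs]; noncomm_ring
  rw [a4, mul_add, mul_add, add_mul, add_mul, ← mul_assoc, ← mul_assoc e, ← e1 _ (sub_mem ha hb), ← e1 _ a3, mul_assoc k,
    mul_assoc k, h2, mul_one, one_mul, add_right_inj, add_left_inj, mul_assoc, mul_assoc] at a2
  by_contra hne
  exact h3 ((hq.isF.isUnit (sub_mem a.2 b.2) fun e => hne (Subtype.ext (sub_eq_zero.1 e))).mul_left_cancel a2).symm

variable {K V : Type} [Field K] [AddCommGroup V] [Module K V] {π : A →+* End K V} {c η : A} {r : ℕ}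

section

variable (h : LU π c η θ) (hW : SymF W r)
include h hW

omit [Finite A] [Nontrivial A] in
theorem qd : Qd W θ := ⟨hW.isF, hW.sym, fun x _ => cen_comm h.θ_cen x,
  hW.le ⟨add_mem h.θ_cen (star_cen h.θ_cen), by rw [star_add, star_star, add_comm]⟩,
  hW.le ⟨mul_mem h.θ_cen (star_cen h.θ_cen), by rw [star_mul, star_star]⟩, h.θ_unit⟩

omit [Finite A] [Nontrivial A] hW in
theorem cen_rep {x : A} (hx : x ∈ Subring.center A) : ∃ a ∈ C0 A, ∃ b ∈ C0 A, x = a + b * θ := by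
  obtain ⟨u, hu⟩ := h.θ_unit
  have h1 : (u : A) ∈ Subring.center A := hu ▸ sub_mem h.θ_cen (star_cen h.θ_cen)
  have h2 : star (u : A) = -u := by rw [hu, star_sub, star_star, neg_sub]
  have h3 : star ((u⁻¹ : Aˣ) : A) = -(u⁻¹ : Aˣ) := by
    have h3 : star ((u⁻¹ : Aˣ) : A) * (-u) = 1 := by rw [← h2, ← star_mul, Units.mul_inv, star_one]
    rw [← mul_one (star _), ← u.mul_inv, ← mul_assoc, ← neg_mul_neg, ← mul_neg, h3, one_mul]
  have h4 : (x - star x) * (u⁻¹ : Aˣ) ∈ C0 A := ⟨mul_mem (sub_mem hx (star_cen hx)) (inv_cen h1), by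
    rw [star_mul, h3, star_sub, star_star, ← neg_sub x, neg_mul_neg, cen_comm (inv_cen h1)]⟩
  refine ⟨x - (x - star x) * (u⁻¹ : Aˣ) * θ, ⟨sub_mem hx (mul_mem h4.1 h.θ_cen), ?_⟩, _, h4, by abel⟩
  have h5 : (x - star x) * (u⁻¹ : Aˣ) * (θ - star θ) = x - star x := by rw [← hu, Units.inv_mul_cancel_right]
  rw [star_sub, star_mul, h4.2, cen_comm h4.1, sub_eq_sub_iff_sub_eq_sub, ← neg_sub x, ← h5]
  rw [h5]
  nth_rewrite 1 [← h5]
  noncomm_ring

omit [Finite A] [Nontrivial A] in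
theorem comSub : ComSub (Zt W θ) := ⟨fun x hx => by
  obtain ⟨a, ha, b, hb, e⟩ := cen_rep h hx
  exact (qd h hW).mem_iff.2 ⟨a, hW.le ha, b, hW.le hb, e⟩, (qd h hW).star_mem, (qd h hW).mul_comm⟩

omit [Finite A] [Nontrivial A] hW in
theorem cent_Zt {x : A} (hx : x ∈ Subring.centralizer (W : Set A)) : x ∈ Subring.centralizer (Zt W θ : Set A) :=
  Qd.comm_of hx (cen_comm h.θ_cen x).symm

omit [Finite A] [Nontrivial A] hW in
theorem fix_Zt {γ : RingAut A} (h1 : γ ∈ DS.Cl.Fix (W : Set A)) (h2 : γ ∈ Lin A) : γ ∈ DS.Cl.Fix (Zt W θ : Set A) :=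
  fun _ hz => Zt_le (X := RingHom.eqLocus (γ : A →+* A) (RingHom.id A)) h1 (h2 θ h.θ_cen) hz

omit [Finite A] [Nontrivial A] in
theorem inv_Zt {M : Subgroup (RingAut A)} (hM : Inv M W) : Inv M (Zt W θ) := fun γ hγ _ hz =>
  Zt_le (X := (Zt W θ).comap (γ : A →+* A)) (fun x hx => le_Zt (hM γ hγ x hx))
    ((comSub h hW).1 (map_cen γ h.θ_cen)) hz

end

omit [Finite A] [Nontrivial A] in
/-- symmetric elements of rank one -/
theorem rk1 (h : LU π c η θ) {ρ : A} (hs : star ρ = ρ) {v : V} {f : V →ₗ[K] K} (hπ : π ρ = f.smulRight v) (a : A) :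
    ∃ k ∈ Subring.center A, ρ * a * ρ = k * ρ ∧ (star a = a → star k = k) := by
  have key : ∀ a, ∃ d ∈ Subring.center A, c * (ρ * a * ρ) = d * ρ := fun a => by
    obtain ⟨d, hd, hd'⟩ := h.exists_cen (f (π a v))
    have h1 := h.c_ker (ρ * a * ρ - d * ρ) (LinearMap.ext fun w => by
      simp [hd', hπ, smul_smul, mul_comm])
    rw [mul_sub, sub_eq_zero, ← mul_assoc c d] at h1
    exact ⟨_, mul_mem h.c_cen hd, h1⟩
  have key2 : ∀ a d d', d' ∈ Subring.center A → c * (ρ * a * ρ) = d * ρ → c * (ρ * star a * ρ) = d' * ρ →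
      ρ * a * ρ = (d + star d') * ρ := fun a d d' hd' h1 h2 => by
    have h3 := congrArg star h2
    rw [star_mul, star_mul, star_mul, star_mul, star_star, hs, cen_comm (star_cen h.c_cen), cen_comm (star_cen hd'),
      ← mul_assoc ρ] at h3
    rw [add_mul, ← h1, ← h3, ← add_mul, h.c_add, one_mul]
  obtain ⟨d, hd, h1⟩ := key a
  by_cases h2 : star a = a
  · exact ⟨_, add_mem hd (star_cen hd), key2 a d d hd h1 (by rwa [h2]), fun _ => by rw [star_add, star_star, add_comm]⟩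
  · obtain ⟨d', hd', h3⟩ := key (star a)
    exact ⟨_, add_mem hd (star_cen hd'), key2 a d d' hd' h1 h3, fun e => absurd e h2⟩

variable {F : FR A} {G H : Subgroup (RingAut A)} {m p : ℕ}

/-- **the non-Singer case does not occur** -/
theorem span [Module.Finite K V] (cx : Ctx F G H m p) (h : LU π c η θ) (h3 : 3 ≤ finrank K V) (hW : SymF W r)
    (hH : Inv H W) (hI : Irr1 H) {ρ₀ : A} (s0 : star ρ₀ = ρ₀) {v₀ : V} {f₀ : V →ₗ[K] K} (π0 : π ρ₀ = f₀.smulRight v₀)
    (f0 : f₀ v₀ ≠ 0) : ∃ v, ∀ x : V, ∃ z ∈ Zt W θ, π z v = x := by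
  have hq := qd h hW
  have hZ := comSub h hW
  have hL := F.L_eq h.c_cen h.c_add
  let tr : A →+ K := (LinearMap.trace K V).toAddMonoidHom.comp π.toAddMonoidHom
  have tr1 : ∀ a, tr a = LinearMap.trace K V (π a) := fun _ => rfl
  have tr2 : ∀ a b, tr (a * b) = tr (b * a) := fun a b => by
    rw [tr1, tr1, map_mul π, map_mul π, LinearMap.trace_mul_comm]
  have tr3 : ∀ a, a * a = 0 → tr a = 0 := fun a ha => (LinearMap.isNilpotent_trace_of_isNilpotent (f := π a)
    ⟨2, by rw [pow_two, ← map_mul π, ha, map_zero]⟩).eq_zero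
  have tr4 : tr ρ₀ ≠ 0 := by rwa [tr1, π0, LinearMap.trace_smulRight]
  -- a transvection which does not centralise `W`
  obtain ⟨ρ, v, f, ε, hε, s1, π1, sq, tr5⟩ : ∃ (ρ : A) (v : V) (f : V →ₗ[K] K), ∃ ε ∈ W, star ρ = ρ ∧
      π ρ = f.smulRight v ∧ ρ * ρ = 0 ∧ tr (ρ * ε) ≠ 0 := by
    obtain ⟨ε, hε, hε'⟩ := SetLike.not_le_iff_exists.1 hW.not_le
    obtain ⟨k, hk, a1, a2⟩ := rk1 h s0 π0 ε
    obtain ⟨k', hk', a3, a4⟩ := rk1 h s0 π0 1
    have a5 : k' ∈ C0 A := ⟨hk', a4 (star_one A)⟩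
    have a6 : k' * ε - k ∈ W := sub_mem (mul_mem (hW.le a5) hε) (hW.le ⟨hk, a2 (hW.sym ε hε)⟩)
    have a7 : k' * ε - k ≠ 0 := fun e => by
      obtain ⟨y, hy, a7⟩ := (isF_C0 cx.ss).inv k' a5 fun e => tr4 (tr3 _ (by rwa [e, zero_mul, mul_one] at a3))
      refine hε' ?_
      rw [← one_mul ε, ← a7, cen_comm hy.1, mul_assoc, sub_eq_zero.1 e]
      exact mul_mem hy.1 hk
    have a8 : ρ₀ * (k' * ε - k) * ρ₀ = 0 := by
      rw [mul_one] at a3
      rw [mul_sub, sub_mul, ← mul_assoc, cen_comm hk', cen_comm hk, mul_assoc k', mul_assoc k', mul_assoc k, a1, a3,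
        ← mul_assoc, ← mul_assoc, cen_comm hk, sub_self]
    obtain ⟨z, hz, a9⟩ := hq.norm_surj a6
    obtain ⟨y, hy, a10⟩ := hW.isF.inv _ a6 a7
    refine ⟨z * ρ₀ * star z, π z v₀, f₀.comp (π (star z)), y, hy, by rw [star_mul, star_mul, star_star, s0, mul_assoc],
      LinearMap.ext fun x => by simp only [π0, _root_.map_mul, _root_.Module.End.mul_apply, _root_.LinearMap.coe_smulRight, _root_.map_smul, _root_.LinearMap.coe_comp, _root_.Function.comp_apply], ?_, ?_⟩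
    · calc z * ρ₀ * star z * (z * ρ₀ * star z) = z * (ρ₀ * (star z * z) * ρ₀) * star z := by noncomm_ring
        _ = 0 := by rw [a9, a8, mul_zero, zero_mul]
    · rwa [mul_assoc, mul_assoc, tr2, mul_assoc, mul_assoc, hq.mul_comm _ (le_Zt hy) _ hz, ← mul_assoc (star z), a9, a10,
        mul_one]
  have tr6 : f (π ε v) ≠ 0 := by
    rwa [tr2, tr1, map_mul, π1, show π ε * f.smulRight v = f.smulRight (π ε v) from LinearMap.ext fun x => by simp only [_root_.Module.End.mul_apply, _root_.LinearMap.coe_smulRight, _root_.map_smul],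
      LinearMap.trace_smulRight] at tr5
  have hv : v ≠ 0 := fun e => tr6 (by rw [e, map_zero, map_zero])
  have hf : f ≠ 0 := fun e => tr6 (by rw [e, LinearMap.zero_apply])
  have hfv : f v = 0 := by rw [← LinearMap.trace_smulRight, ← π1]; exact tr3 _ sq
  have t1 : θ - star θ ∈ Subring.center A := sub_mem h.θ_cen (star_cen h.θ_cen)
  have t2 : star (θ - star θ) = -(θ - star θ) := by rw [star_sub, star_star, neg_sub]
  have t3 := h.θ_unit
  generalize θ - star θ = t at t1 t2 t3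
  obtain ⟨k₀, hk₀⟩ := h.scal_of t1
  have t4 : k₀ ≠ 0 := fun e => by
    have a1 := t3.map π
    rw [hk₀, e, zero_smul, isUnit_zero_iff] at a1
    exact hv (by simpa using (LinearMap.congr_fun a1 v).symm)
  have t5 : star (t * ρ) = -(t * ρ) := by rw [star_mul, s1, t2, mul_neg, cen_comm t1]
  obtain ⟨t6, g, hg, hg'⟩ := h.transv F h3 t5 hv (f := k₀ • f) (smul_ne_zero t4 hf) (by simp [hfv])
    (LinearMap.ext fun x => by simp [hk₀, π1, smul_smul])
  obtain ⟨P, p1, p2, p3, p4, p5⟩ := core' cx hH (hW.not_inv cx.span (perfect_of_simple cx.simple cx.noncomm)) (r := r)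
    (fun M hM => Nat.le_of_dvd hW.prime.pos (hW.relIndex_dvd (fun γ hγ => hH γ (hM hγ).1)
      fun γ hγ => F.PI_le_Lin (F.S_le_PI (hM hγ).2))) (cx.S_le ⟨g, hg, rfl⟩)
  have p6 : P ≤ Lin A := (p2.trans F.S_le_PI).trans F.PI_le_Lin
  have p7 : P ≤ SAut A := (p2.trans F.S_le_Aut).trans F.Aut_le_SAut
  have b1 : avg W ρ ∈ Subring.centralizer (W : Set A) := avg_mem hW.isF ρ
  have b2 : star (avg W ρ) = avg W ρ := by rw [← avg_star hW.isF hW.sym, s1]
  have wc : ∀ w ∈ W, w ∈ Subring.centralizer (W : Set A) := fun w hw y hy => hW.isF.comm y hy w hw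
  have zc : ∀ z ∈ Zt W θ, z ∈ Subring.centralizer (W : Set A) := fun z hz y hy => hq.mul_comm y (le_Zt hy) z hz
  have b3 : ∀ γ ∈ P, γ (avg W ρ) = avg W ρ := by
    obtain ⟨k, hk, a1, a2⟩ := rk1 h s1 π1 ε
    have a3 : IsUnit k := cx.ss.isUnit_of_cen hk (a2 (hW.sym ε hε)) fun e => tr5 (tr3 _ (by
      rw [← mul_assoc, a1, e, zero_mul, zero_mul]))
    have a4 : DS.Cl.cj A g ε = ε + t * (ρ * ε) - t * (ε * ρ) - t * t * k * ρ := by
      have a5 : (1 + t * ρ) * ε * (1 + -(t * ρ)) = ε + t * (ρ * ε) - ε * t * ρ - t * (ρ * ε * t) * ρ := by noncomm_ring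
      rw [FR.Iso.cj_apply (F.comm_le_Iso hg), hg', star_add, star_one, t5, a5, cen_comm t1 ε, cen_comm t1 (ρ * ε),
        mul_assoc t (t * _), mul_assoc t (ρ * ε), a1]
      simp only [mul_assoc]
    have a5 : avg W (DS.Cl.cj A g ε) = ε - t * t * k * avg W ρ := by
      rw [a4, map_sub, map_sub, map_add, avg_of_mem hW.isF (wc ε hε), avg_mul_left (zc _ (hZ.1 t1)),
        avg_mul_left (zc _ (hZ.1 t1)), avg_mul_left (zc _ (hZ.1 (mul_mem (mul_mem t1 t1) hk))),
        avg_mul_left (wc ε hε), avg_mul_right hW.isF (wc ε hε), b1 ε hε, add_sub_cancel_right]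
    intro γ hγ
    have a6 := map_avg (p3 hγ) hW.isF (DS.Cl.cj A g ε)
    rw [p4 hγ _ ⟨ε, hε, rfl⟩, a5, map_sub, map_mul, p3 hγ ε hε, p6 hγ _ (mul_mem (mul_mem t1 t1) hk), sub_right_inj] at a6
    exact ((t3.mul t3).mul a3).mul_left_cancel a6
  have b4 : ∀ a ∈ Subring.centralizer (W : Set A), star a = a → ∃ w ∈ W, avg W ρ * a * avg W ρ = w * avg W ρ := by
    intro a ha hs
    choose k hk hk' _ using rk1 h s1 π1
    have a1 : -∑ u ∈ un W, k (a * u) * (u⁻¹ : Aˣ) ∈ Zt W θ := neg_mem (sum_mem fun u hu =>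
      mul_mem (hZ.1 (hk _)) (le_Zt (inv_mem_of_isF hW.isF (mem_un.1 hu))))
    have a2 : ρ * (a * avg W ρ) = ρ * -∑ u ∈ un W, k (a * u) * (u⁻¹ : Aˣ) := by
      rw [avg_apply, mul_neg, mul_neg, mul_neg, Finset.mul_sum, Finset.mul_sum, Finset.mul_sum]
      refine congrArg _ (Finset.sum_congr rfl fun u _ => ?_)
      rw [← mul_assoc ρ (k _), cen_comm (hk _), ← hk']
      simp only [mul_assoc]
    generalize -∑ u ∈ un W, k (a * u) * (u⁻¹ : Aˣ) = z at a1 a2
    have a3 : avg W ρ * a * avg W ρ = z * avg W ρ := by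
      rw [mul_assoc, ← avg_mul_right hW.isF (mul_mem ha b1), a2, avg_mul_right hW.isF (zc z a1), cent_Zt h b1 z a1]
    have a4 := congrArg star a3
    rw [star_mul, star_mul, star_mul, b2, hs, ← mul_assoc, ← cent_Zt h b1 _ (hq.star_mem z a1)] at a4
    refine ⟨c * z + star (c * z), hq.trace_mem (mul_mem (hZ.1 h.c_cen) a1), ?_⟩
    rw [star_mul, cen_comm (star_cen h.c_cen), add_mul, mul_assoc c, mul_assoc (star c), ← a3, ← a4, ← add_mul, h.c_add,
      one_mul]
  obtain ⟨w, hw, b5⟩ := b4 1 (one_mem _) (star_one A)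
  rw [mul_one] at b5
  obtain ⟨w', hw', b6⟩ := hW.isF.inv w hw fun e => tr5 (by
    rw [← tr_avg hW.isF tr tr2, avg_mul_right hW.isF (wc ε hε)]
    exact tr3 _ (by rw [mul_assoc, ← mul_assoc ε, b1 ε hε, ← mul_assoc, ← mul_assoc, b5, e]; simp))
  have b7 : w' * w = 1 := by rw [hW.isF.comm _ hw' _ hw, b6]
  by_cases e0 : w' * avg W ρ = 1
  · refine ⟨v, fun x => ?_⟩
    let N : Submodule K V := (h.img _ hZ.1).toSubmodule.map (LinearMap.applyₗ v)
    have a1 : x ∈ N := by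
      have a2 : x = π (w' * avg W ρ) x := by rw [e0, map_one]; rfl
      rw [a2, avg_apply, mul_neg, Finset.mul_sum, map_neg, map_sum, LinearMap.neg_apply, LinearMap.sum_apply]
      refine neg_mem (sum_mem fun u hu => ?_)
      rw [← mul_assoc, ← mul_assoc, map_mul, map_mul, π1, Module.End.mul_apply, Module.End.mul_apply,
        LinearMap.smulRight_apply, map_smul]
      exact N.smul_mem _ ⟨_, ⟨_, le_Zt (mul_mem hw' (mem_un.1 hu)), rfl⟩, rfl⟩
    obtain ⟨_, ⟨z, hz, rfl⟩, a2⟩ := a1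
    exact ⟨z, hz, a2⟩
  exfalso
  have e1 : w' * avg W ρ ∈ Subring.centralizer (W : Set A) := mul_mem (wc _ hw') b1
  have e2 : star (w' * avg W ρ) = w' * avg W ρ := by rw [star_mul, b2, hW.sym _ hw', b1 _ hw']
  have e5 : ∀ a y, avg W ρ * a * avg W ρ = y * avg W ρ →
      w' * avg W ρ * a * (w' * avg W ρ) = w' * y * (w' * avg W ρ) := fun a y hy => by
    calc w' * avg W ρ * a * (w' * avg W ρ) = w' * (avg W ρ * a * avg W ρ) * w' := by
          nth_rewrite 2 [b1 _ hw']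
          simp only [mul_assoc]
      _ = _ := by rw [hy, b1 _ hw']; simp only [mul_assoc]
  have e3 : w' * avg W ρ * (w' * avg W ρ) = w' * avg W ρ := by
    have a1 := e5 1 w (by rw [mul_one, b5])
    rwa [mul_one, b7, one_mul] at a1
  have e4 : ∀ γ ∈ P, γ (w' * avg W ρ) = w' * avg W ρ := fun γ hγ => by rw [map_mul, b3 γ hγ, p3 hγ _ hw']
  have e7 : w' * avg W ρ ≠ 0 := fun e => tr5 (by
    rw [← tr_avg hW.isF tr tr2, avg_mul_right hW.isF (wc ε hε), ← one_mul (avg W ρ), ← b6, mul_assoc w, e]; simp)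
  have e8 : ∀ a ∈ Subring.centralizer (Zt W θ : Set A), star a = a →
      ∃ y ∈ W, w' * avg W ρ * a * (w' * avg W ρ) = y * (w' * avg W ρ) := fun a ha hs => by
    obtain ⟨y, hy, a1⟩ := b4 a (fun z hz => ha z (le_Zt hz)) hs
    exact ⟨w' * y, mul_mem hw' hy, e5 a y a1⟩
  generalize w' * avg W ρ = e at e0 e1 e2 e3 e4 e7 e8
  have e6 : ∃ a ∈ Subring.centralizer (Zt W θ : Set A), (1 - e) * a * e ≠ 0 := by
    by_contra hc
    push Not at hc
    have a1 : ∀ a ∈ Subring.centralizer (Zt W θ : Set A), a * e = e * a * e := fun a ha => by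
      have a2 := hc a ha
      rwa [sub_mul, sub_mul, one_mul, sub_eq_zero] at a2
    have hs := ss_of_inv cx.ss cx.le_SAut hI.1 hI.2 (star_centralizer hq.star_mem) (inv_centralizer (inv_Zt h hW hH))
    set B := Blk.ofSubring _ (star_centralizer hq.star_mem)
    have a3 : ∀ a ∈ Subring.centralizer (Zt W θ : Set A), a * e = e * a := fun a ha => by
      have a2 := congrArg star (a1 _ (star_centralizer hq.star_mem a ha))
      rw [star_mul, star_mul, star_mul, star_star, e2, ← mul_assoc] at a2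
      exact (a1 a ha).trans a2.symm
    rcases hs.idem_symm (e := B.mk' e (cent_Zt h e1)) (B.mem_center_iff.2 a3) (B.val_inj e2) (B.val_inj e3) with a2 | a2
    · exact e7 (congrArg B.val a2)
    · exact e0 (congrArg B.val a2)
  have p8 : P ≤ DS.Cl.Fix (Zt W θ : Set A) := fun γ hγ => fix_Zt h (p3 hγ) (p6 hγ)
  obtain ⟨x, x1, x2, x3, x4, x5⟩ := exists_hs hq cx.prime cx.char p1 p7 p8 (cent_Zt h e1) e2 e3 e4 e8 e6
  have hc := hZ.1 h.c_cen
  refine absurd (p5 x1.J x1.nil ?_ ?_ e e4 W (fun w => x1.ei hc h.c_add (le_Zt w.2)) (fun w => ⟨_, ?_, rfl⟩)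
    (fun w => ?_) (ei_inj hq x1 hc h.c_add (cent_Zt h e1) x4 x5)) (not_le.2 hW.lt_card)
  · rintro _ ⟨a, ha, b, hb, k, hk, rfl⟩ z hz
    exact x1.comm_hs ha hb hk (le_Zt hz)
  · rintro γ hγ _ ⟨a, ha, b, hb, k, hk, rfl⟩
    refine ⟨a, ha, b, hb, k, hk, ?_⟩
    simp only [hs, map_add, map_mul, p7 hγ x, x2 γ hγ, p8 hγ a ha, p8 hγ b hb, p8 hγ k hk]
  · have n1 := neg_mem (x1.st _ (le_Zt w.2))
    have n2 := neg_mem (mul_mem hc (mul_mem (x1.st _ (le_Zt w.2)) (le_Zt w.2)))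
    rcases x3 with x3 | x3
    · refine skew_mem cx.ss hL hW.isF hW.sym hW.four_le (zc c hc) h.c_add (fun y hy => ?_)
        (x1.uni hc h.c_add (le_Zt w.2)) ?_
      · rw [x1.ei_val, mul_add, add_mul, x1.comm_hs (le_Zt w.2) n1 n2 (le_Zt hy), mul_one, one_mul]
      · rw [x1.ei_val, add_sub_cancel_left, x1.mul _ _ _ (le_Zt w.2) n1 n2, x3, mul_zero]
    · exact ei_mem cx.ss hL hq hW.four_le x1 hc h.c_add _ (cent_Zt h e1) e2 e3 x3.1 x3.2
  · rw [x1.ei_val, add_sub_cancel_left]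
    exact ⟨_, le_Zt w.2, _, neg_mem (x1.st _ (le_Zt w.2)), _,
      neg_mem (mul_mem hc (mul_mem (x1.st _ (le_Zt w.2)) (le_Zt w.2))), rfl⟩

end Cfsg.Agent.TH.Cl.Fld
end

-- part: TH/Cl/FldLU/Lines
section
/-!
# S3541: the number of lines when a normal subgroup with nearly cyclic quotient is semiregular (helper9)
-/

set_option autoImplicit false

namespace Cfsg.Agent.TH

variable {G : Type*} [Group G] {H N : Subgroup G} {m : ℕ} {Δ : Type*} [Group Δ]

/-- `N` is semiregular, `H / N` is abelian, an extension of a group of order at most two, acting without fixed points on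
`N`, by a cyclic group -/
structure Dih (H N : Subgroup G) (ρ : H →* Δ) : Prop where
  free : ∀ g, g ∉ H → ∀ x ∈ N, x ∈ cj g H → x = 1
  comm : ∀ a ∈ H, ∀ b ∈ H, a * b * a⁻¹ * b⁻¹ ∈ N
  le : N ≤ H
  two : ∀ a b : H, ρ a = 1 → ρ b = 1 → a.1 ∉ N → b.1 ∉ N → a.1⁻¹ * b ∈ N
  inv : ∀ a : H, ρ a = 1 → a.1 ∉ N → ∀ x ∈ N, a.1 * x = x * a → x = 1

theorem ncard_le_of_coset [Finite G] {S : Set (Subgroup G)} {f : Subgroup G → G} (hf : Set.InjOn f S) {a : G}
    (h : ∀ K ∈ S, a⁻¹ * f K ∈ N) : S.ncard ≤ Nat.card N := by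
  rw [← Nat.card_coe_set_eq]
  exact Nat.card_le_card_of_injective (fun K : S => (⟨a⁻¹ * f K, h K K.2⟩ : N)) fun K K' e =>
    Subtype.ext (hf K.2 K'.2 (mul_left_cancel (congrArg Subtype.val e)))

namespace Dih

variable {ρ : H →* Δ} (d : Dih H N ρ)
include d

theorem eq_one {K : Subgroup G} (hK : K ∈ Ks H) {x : G} (h1 : x ∈ N) (h2 : x ∈ K) : x = 1 := by
  obtain ⟨g, hg, rfl⟩ := hK
  exact d.free g hg x h1 h2.2

theorem mul_comm {K : Subgroup G} (hK : K ∈ Ks H) {a b : G} (ha : a ∈ K) (hb : b ∈ K) : a * b = b * a := by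
  have h := d.eq_one hK (d.comm a (le_of_mem_Ks hK ha) b (le_of_mem_Ks hK hb))
    (mul_mem (mul_mem (mul_mem ha hb) (inv_mem ha)) (inv_mem hb))
  rwa [mul_inv_eq_one, mul_inv_eq_iff_eq_mul] at h

theorem ker_cases {K : Subgroup G} (hK : K ∈ Ks H) {i a : H} (h1 : i.1 ∈ K) (h2 : ρ i = 1) (h3 : i.1 ∉ N) (h4 : ρ a = 1)
    (h5 : i.1 * a = a * i) : a = 1 ∨ a = i := by
  by_cases h : a.1 ∈ N
  · exact Or.inl (Subtype.ext (d.inv i h2 h3 _ h h5))
  · have _ := hK
    have _ := h1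
    have h6 := d.inv i h2 h3 _ (d.two i a h2 h4 h3 h) (by rw [mul_inv_cancel_left, mul_assoc, ← h5, inv_mul_cancel_left])
    exact Or.inr (Subtype.ext (inv_mul_eq_one.1 h6).symm)

variable [Finite G] (hH : Half H m)
include hH

omit d [Finite G] in
theorem card_mul {K : Subgroup G} (hK : K ∈ Ks H) :
    Nat.card ↥(K.subgroupOf H ⊓ ρ.ker) * Nat.card ((K.subgroupOf H).map ρ) = m := by
  rw [← hH.card_of_mem_Ks hK, ← In.card_sub (le_of_mem_Ks hK), ← Subgroup.relIndex_ker,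
    ← (ρ.ker.subgroupOf (K.subgroupOf H)).card_mul_index, ← In.card_sub (inf_le_left (a := K.subgroupOf H)),
    Subgroup.inf_subgroupOf_left, Subgroup.relIndex]

variable [Finite Δ] [IsCyclic Δ]

theorem eq_of_mem {K K' : Subgroup G} (hK : K ∈ Ks H) (hK' : K' ∈ Ks H) {i : H} (h1 : i.1 ∈ K) (h1' : i.1 ∈ K')
    (h2 : ρ i = 1) (h3 : i.1 ∉ N) : K = K' := by
  have a1 : ∀ K ∈ Ks H, i.1 ∈ K → K.subgroupOf H ⊓ ρ.ker = Subgroup.zpowers i := fun K hK h1 =>
    le_antisymm (fun a ha => by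
      rcases d.ker_cases hK h1 h2 h3 ha.2 (d.mul_comm hK h1 ha.1) with rfl | rfl
      exacts [one_mem _, Subgroup.mem_zpowers _]) (Subgroup.zpowers_le.2 ⟨h1, h2⟩)
  have a2 := card_mul (ρ := ρ) hH hK
  have a3 := card_mul (ρ := ρ) hH hK'
  rw [a1 K hK h1] at a2
  rw [a1 K' hK' h1', ← a2] at a3
  have a4 := H384.TwoCyc.eq_of_card (Nat.eq_of_mul_eq_mul_left Nat.card_pos a3)
  refine Subgroup.eq_of_le_of_card_ge (fun k hk => ?_) (by rw [hH.card_of_mem_Ks hK, hH.card_of_mem_Ks hK'])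
  obtain ⟨k', hk', e⟩ := a4.ge (Subgroup.mem_map_of_mem ρ (show (⟨k, le_of_mem_Ks hK hk⟩ : H) ∈ K.subgroupOf H from hk))
  have hk'' : (k' : G) ∈ K' := hk'
  have a5 : i.1 * ((k' : G)⁻¹ * k) = (k' : G)⁻¹ * k * i := by
    rw [← mul_assoc, d.mul_comm hK' h1' (inv_mem hk''), mul_assoc, d.mul_comm hK h1 hk, mul_assoc]
  rcases d.ker_cases hK h1 h2 h3 (a := k'⁻¹ * ⟨k, le_of_mem_Ks hK hk⟩) (by rw [map_mul, map_inv, e, inv_mul_cancel]) a5
    with a6 | a6
  · rw [← show (k' : G) = k from congrArg Subtype.val (inv_mul_eq_one.1 a6)]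
    exact hk'
  · rw [show k = k' * i from congrArg Subtype.val (inv_mul_eq_iff_eq_mul.1 a6)]
    exact mul_mem hk' h1'

theorem ncard_A : {K ∈ Ks H | ∃ i : H, i.1 ∈ K ∧ ρ i = 1 ∧ i.1 ∉ N}.ncard ≤ Nat.card N := by
  classical
  rcases Set.eq_empty_or_nonempty {K ∈ Ks H | ∃ i : H, i.1 ∈ K ∧ ρ i = 1 ∧ i.1 ∉ N} with h | ⟨_, -, i, -, h1, h2⟩
  · rw [h, Set.ncard_empty]
    exact Nat.zero_le _
  refine ncard_le_of_coset (f := fun K => if h : ∃ i : H, i.1 ∈ K ∧ ρ i = 1 ∧ i.1 ∉ N then h.choose.1 else 1) (a := i)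
    (fun K hK K' hK' e => ?_) fun K hK => ?_
  · simp only [dif_pos hK.2, dif_pos hK'.2] at e
    exact d.eq_of_mem hH hK.1 hK'.1 hK.2.choose_spec.1 (e ▸ hK'.2.choose_spec.1) hK.2.choose_spec.2.1
      hK.2.choose_spec.2.2
  · simp only [dif_pos hK.2]
    exact d.two _ _ h1 hK.2.choose_spec.2.1 h2 hK.2.choose_spec.2.2

/-- the lines which meet the kernel of `ρ` trivially are cyclic, with generators in one coset of the kernel -/
theorem exists_gen : ∃ (σ : Δ) (f : Subgroup G → H), ∀ K ∈ Ks H, (¬ ∃ i : H, i.1 ∈ K ∧ ρ i = 1 ∧ i.1 ∉ N) →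
    ρ (f K) = σ ∧ K = Subgroup.zpowers (f K).1 := by
  have a1 : ∀ K ∈ Ks H, (¬ ∃ i : H, i.1 ∈ K ∧ ρ i = 1 ∧ i.1 ∉ N) → Nat.card ((K.subgroupOf H).map ρ) = m := by
    intro K hK h
    have a2 := card_mul (ρ := ρ) hH hK
    rwa [show K.subgroupOf H ⊓ ρ.ker = ⊥ from eq_bot_iff.2 fun a ha => Subtype.ext
      (d.eq_one hK (not_not.1 fun e => h ⟨a, ha.1, ha.2, e⟩) ha.1), Subgroup.card_bot, one_mul] at a2
  by_cases h0 : ∃ K ∈ Ks H, ¬ ∃ i : H, i.1 ∈ K ∧ ρ i = 1 ∧ i.1 ∉ N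
  swap
  · exact ⟨1, fun _ => 1, fun K hK h => absurd ⟨K, hK, h⟩ h0⟩
  obtain ⟨K₀, hK₀, h₀⟩ := h0
  obtain ⟨σ, hσ⟩ := IsCyclic.exists_ofOrder_eq_natCard (α := (K₀.subgroupOf H).map ρ)
  have a2 : ∀ K : Subgroup G, ∃ k : H, K ∈ Ks H → (¬ ∃ i : H, i.1 ∈ K ∧ ρ i = 1 ∧ i.1 ∉ N) →
      ρ k = σ ∧ K = Subgroup.zpowers k.1 := fun K => by
    by_cases h : K ∈ Ks H ∧ ¬ ∃ i : H, i.1 ∈ K ∧ ρ i = 1 ∧ i.1 ∉ N
    swap
    · exact ⟨1, fun h1 h2 => absurd ⟨h1, h2⟩ h⟩
    obtain ⟨k, hk, e⟩ := (H384.TwoCyc.eq_of_card ((a1 K₀ hK₀ h₀).trans (a1 K h.1 h.2).symm)).le σ.2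
    refine ⟨k, fun _ _ => ⟨e, (Subgroup.eq_of_le_of_card_ge (Subgroup.zpowers_le.2 (show (k : G) ∈ K from hk)) ?_).symm⟩⟩
    rw [hH.card_of_mem_Ks h.1, Nat.card_zpowers, ← a1 K₀ hK₀ h₀, ← hσ, ← Subgroup.orderOf_coe, ← e, Subgroup.orderOf_coe]
    exact Nat.le_of_dvd (orderOf_pos k) (orderOf_map_dvd ρ k)
  choose f hf using a2
  exact ⟨σ, f, hf⟩

theorem ncard_B : {K ∈ Ks H | ¬ ∃ i : H, i.1 ∈ K ∧ ρ i = 1 ∧ i.1 ∉ N}.ncard ≤ 2 * Nat.card N ∧
    (Odd m → {K ∈ Ks H | ¬ ∃ i : H, i.1 ∈ K ∧ ρ i = 1 ∧ i.1 ∉ N}.ncard ≤ Nat.card N) := by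
  obtain ⟨σ, f, hf⟩ := d.exists_gen hH
  set B := {K ∈ Ks H | ¬ ∃ i : H, i.1 ∈ K ∧ ρ i = 1 ∧ i.1 ∉ N}
  rcases Set.eq_empty_or_nonempty B with h | ⟨K₀, h₀⟩
  · rw [h, Set.ncard_empty]
    exact ⟨Nat.zero_le _, fun _ => Nat.zero_le _⟩
  have a1 : Set.InjOn (fun K => (f K).1) B := fun K hK K' hK' (e : (f K).1 = (f K').1) => by
    rw [(hf K hK.1 hK.2).2, (hf K' hK'.1 hK'.2).2, ← (hf K hK.1 hK.2).2, ← e, ← (hf K hK.1 hK.2).2]
  have a2 : ∀ K ∈ B, ρ ((f K₀)⁻¹ * f K) = 1 := fun K hK => by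
    rw [map_mul, map_inv, (hf K hK.1 hK.2).1, (hf K₀ h₀.1 h₀.2).1, inv_mul_cancel]
  refine ⟨?_, fun hm => ncard_le_of_coset a1 (a := f K₀) fun K hK => not_not.1 fun e => e ?_⟩
  · rw [← Set.ncard_inter_add_ncard_sdiff_eq_ncard B {K | (f K₀).1⁻¹ * f K ∈ N}, two_mul]
    refine Nat.add_le_add (ncard_le_of_coset (a1.mono Set.inter_subset_left) (a := f K₀) fun K hK => hK.2) ?_
    rcases Set.eq_empty_or_nonempty (B \ {K | (f K₀).1⁻¹ * f K ∈ N}) with h | ⟨K₁, h₁⟩
    · rw [h, Set.ncard_empty]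
      exact Nat.zero_le _
    refine ncard_le_of_coset (a1.mono Set.sdiff_subset) (a := f K₁) fun K hK => ?_
    simpa only [mul_assoc, _root_.Subgroup.coe_mul, _root_.InvMemClass.coe_inv, _root_.mul_inv_rev, _root_.inv_inv, _root_.mul_inv_cancel_left] using d.two _ _ (a2 K₁ h₁.1) (a2 K hK.1) h₁.2 hK.2
  · have b1 : (N.subgroupOf H).Normal := ⟨fun x hx a => Subgroup.mem_subgroupOf.2 (by
      simpa only [_root_.Subgroup.coe_mul, _root_.InvMemClass.coe_inv, _root_.inv_mul_cancel_right] using mul_mem (d.comm a a.2 x x.2) (Subgroup.mem_subgroupOf.1 hx))⟩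
    let q := QuotientGroup.mk' (N.subgroupOf H)
    have b2 : ∀ a : H, q a = 1 ↔ a.1 ∈ N := fun a => QuotientGroup.eq_one_iff a
    have b3 : ∀ a b : H, Commute (q a) (q b) := fun a b => by
      rw [← commutatorElement_eq_one_iff_commute, ← map_commutatorElement]
      exact (b2 _).2 (d.comm a a.2 b b.2)
    have b4 : ∀ K ∈ B, f K ^ m = 1 := fun K hK => Subtype.ext (by
      rw [← hH.card_of_mem_Ks hK.1, Subgroup.coe_pow, (hf K hK.1 hK.2).2, Nat.card_zpowers, ← (hf K hK.1 hK.2).2,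
        pow_orderOf_eq_one]
      rfl)
    have b5 : q ((f K₀)⁻¹ * f K) ^ m = 1 := by
      rw [map_mul, (b3 _ _).mul_pow, ← map_pow, ← map_pow, inv_pow, b4 K hK, b4 K₀ h₀, inv_one, map_one, one_mul]
    have b6 : q ((f K₀)⁻¹ * f K) ^ 2 = 1 := by
      rw [← map_pow, b2, pow_two]
      simpa only [_root_.Subgroup.coe_mul, _root_.InvMemClass.coe_inv, _root_.mul_inv_rev, _root_.inv_inv] using d.two ((f K₀)⁻¹ * f K)⁻¹ _ (by rw [map_inv, a2 K hK, inv_one]) (a2 K hK) (fun e' => e (inv_mem_iff.1 e')) e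
    obtain ⟨j, rfl⟩ := hm
    rw [pow_succ, pow_mul, b6, one_pow, one_mul] at b5
    exact (b2 _).1 b5

/-- **the number of lines** -/
theorem ncard_Ks : (Ks H).ncard ≤ 3 * Nat.card N ∧ (Odd (Nat.card Δ) → (Ks H).ncard ≤ Nat.card N) := by
  have h1 := d.ncard_A hH
  obtain ⟨h2, h3⟩ := d.ncard_B hH
  have h4 : (Ks H).ncard ≤ {K ∈ Ks H | ∃ i : H, i.1 ∈ K ∧ ρ i = 1 ∧ i.1 ∉ N}.ncard +
      {K ∈ Ks H | ¬ ∃ i : H, i.1 ∈ K ∧ ρ i = 1 ∧ i.1 ∉ N}.ncard :=
    (Set.ncard_le_ncard fun K hK => (em _).imp (fun h => ⟨hK, h⟩) fun h => ⟨hK, h⟩).trans (Set.ncard_union_le _ _)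
  refine ⟨by omega, fun hΔ => ?_⟩
  rcases Nat.even_or_odd m with hm | hm
  · refine le_trans (Set.ncard_le_ncard fun K hK => Set.mem_sep hK ?_) h1
    obtain ⟨i, hi⟩ := exists_prime_orderOf_dvd_card' (G := K) 2 (by rw [hH.card_of_mem_Ks hK]; exact hm.two_dvd)
    have a1 : (⟨i, le_of_mem_Ks hK i.2⟩ : H) ^ 2 = 1 :=
      Subtype.ext (show (i : G) ^ 2 = 1 from congrArg Subtype.val (hi ▸ pow_orderOf_eq_one i : i ^ 2 = 1))
    refine ⟨⟨i, le_of_mem_Ks hK i.2⟩, i.2, ?_, fun e => ?_⟩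
    · obtain ⟨j, hj⟩ := hΔ
      have a2 := pow_card_eq_one' (x := ρ ⟨i, le_of_mem_Ks hK i.2⟩)
      rwa [hj, pow_succ, pow_mul, ← map_pow, a1, map_one, one_pow, one_mul] at a2
    · rw [show i = 1 from Subtype.ext (d.eq_one hK e i.2), orderOf_one] at hi
      omega
  · refine le_trans (Set.ncard_le_ncard fun K hK => Set.mem_sep hK ?_) (h3 hm)
    rintro ⟨i, a1, a2, a3⟩
    have a4 : i * i = 1 := by
      rcases d.ker_cases hK a1 a2 a3 (a := i * i) (by rw [map_mul, a2, one_mul]) (mul_assoc _ _ _).symm with e | e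
      · exact e
      · exact absurd (by rw [mul_eq_left.1 e]; exact one_mem _) a3
    obtain ⟨j, hj⟩ := hm
    have a5 : i.1 ^ m = 1 := hH.card_of_mem_Ks hK ▸ congrArg Subtype.val (pow_card_eq_one' (x := (⟨i, a1⟩ : K)))
    rw [hj, pow_succ, pow_mul, pow_two, show i.1 * i.1 = 1 from congrArg Subtype.val a4, one_pow, one_mul] at a5
    exact a3 (a5 ▸ one_mem _)

end Dih

/-- the ambient form -/
theorem In.index_le_dih {Γ : Type*} [Group Γ] [Finite Γ] {G H N : Subgroup Γ} (c : In G H m) [Finite Δ] [IsCyclic Δ]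
    (ρ : H →* Δ) (le : N ≤ H) (free : ∀ g ∈ G, g ∉ H → ∀ x ∈ N, x ∈ cj g H → x = 1)
    (comm : ∀ a ∈ H, ∀ b ∈ H, a * b * a⁻¹ * b⁻¹ ∈ N)
    (two : ∀ a b : H, ρ a = 1 → ρ b = 1 → a.1 ∉ N → b.1 ∉ N → a.1⁻¹ * b ∈ N)
    (inv : ∀ a : H, ρ a = 1 → a.1 ∉ N → ∀ x ∈ N, a.1 * x = x * a → x = 1) :
    H.relIndex G ≤ (3 * Nat.card N) ^ 2 ∧ (Odd (Nat.card Δ) → H.relIndex G ≤ Nat.card N ^ 2) := by
  have d : Dih (H.subgroupOf G) (N.subgroupOf G) (ρ.comp (Subgroup.subgroupOfEquivOfLe c.le).toMonoidHom) :=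
    ⟨fun g hg x h1 h2 => Subtype.ext (free g g.2 hg x h1 (by rwa [In.cj_sub] at h2)),
      fun a ha b hb => comm a ha b hb, fun _ hx => le hx, fun a b h1 h2 h3 h4 => two _ _ h1 h2 h3 h4,
      fun a h1 h2 x h3 h4 => Subtype.ext (inv _ h1 h2 x h3 (congrArg Subtype.val h4))⟩
  obtain ⟨h1, h2⟩ := d.ncard_Ks c.half
  rw [In.card_sub (le.trans c.le)] at h1 h2
  exact ⟨c.half.index_le_sq.trans (Nat.pow_le_pow_left h1 2),
    fun h => c.half.index_le_sq.trans (Nat.pow_le_pow_left (h2 h) 2)⟩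

end Cfsg.Agent.TH
end

-- part: TH/Cl/FldLU/Num
section
/-!
# S3541, Singer cycles: two facts on endomorphisms, and the arithmetic (helper9)
-/

set_option autoImplicit false

namespace Cfsg.Agent.TH.Cl.Fld

open Module Polynomial Cfsg.Agent.SB.Fld

section vec

variable {K V : Type} [Field K] [AddCommGroup V] [Module K V] [Module.Finite K V]

/-- an element of determinant one of a Singer field of odd prime degree `r` whose `r`-th power is scalar is scalar -/
theorem scal_of_pow {E : Subalgebra K (End K V)} (h : MaxF E) {r : ℕ} (hr : r.Prime) (h2 : Odd r) (hn : finrank K V = r)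
    {a : End K V} (ha : a ∈ E) {k : K} (hk : a ^ r = k • 1) (hd : LinearMap.det a = 1) : ∃ k' : K, a = k' • 1 := by
  let _ : Field E := h.field.toField
  have : Nontrivial V := Module.nontrivial_of_finrank_pos (R := K) (hn ▸ hr.pos)
  obtain ⟨v, hv⟩ := exists_ne (0 : V)
  obtain ⟨e, -⟩ := h.exists_equiv hv
  have hi : IsIntegral K (⟨a, ha⟩ : E) := IsIntegral.of_finite K _
  have h1 := minpoly.degree_dvd hi
  rw [e.finrank_eq, hn] at h1
  rcases (Nat.dvd_prime hr).1 h1 with h3 | h3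
  · obtain ⟨k', hk'⟩ := minpoly.natDegree_eq_one_iff.1 h3
    exact ⟨k', by rw [← Algebra.algebraMap_eq_smul_one]; exact (congrArg Subtype.val hk').symm⟩
  exfalso
  have h4 := minpoly.irreducible hi
  have h5 := minpoly.monic hi
  rw [← minpoly.algHom_eq E.val Subtype.val_injective] at h3 h4 h5
  change (minpoly K a).natDegree = r at h3
  change Irreducible (minpoly K a) at h4
  change (minpoly K a).Monic at h5
  have h6 : X ^ r - C k = minpoly K a := eq_of_monic_of_dvd_of_natDegree_le h5 (monic_X_pow_sub_C k hr.ne_zero)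
    (minpoly.dvd _ _ (by simp [hk, Algebra.algebraMap_eq_smul_one])) (by rw [h3, natDegree_X_pow_sub_C])
  have h7 : a.charpoly = minpoly K a := eq_of_monic_of_dvd_of_natDegree_le h5 a.charpoly_monic a.minpoly_dvd_charpoly
    (by rw [h3, a.charpoly_natDegree, hn])
  rw [LinearMap.det_eq_sign_charpoly_coeff, h7, ← h6, hn, h2.neg_one_pow] at hd
  have h8 : k = 1 := by simpa [hr.ne_zero.symm, coeff_X_pow] using hd
  rw [← h6, h8] at h4
  have h9 := degree_eq_one_of_irreducible_of_root h4 (x := 1) (by simp)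
  rw [degree_X_pow_sub_C hr.pos] at h9
  exact hr.one_lt.ne' (by exact_mod_cast h9)

omit [Module.Finite K V] in
/-- a regular nilpotent endomorphism of a space of dimension three has a cyclic vector -/
theorem exists_cyc (hn : finrank K V = 3) {ν : End K V} (h3 : ν * ν * ν = 0) (h2 : ν * ν ≠ 0) :
    ∃ v, v ≠ 0 ∧ ∀ D : End K V, D * ν = ν * D → D v = 0 → D = 0 := by
  obtain ⟨v, hv⟩ : ∃ v, ν (ν v) ≠ 0 := by
    by_contra hc
    push Not at hc
    exact h2 (LinearMap.ext hc)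
  have a1 : ∀ x, ν (ν (ν x)) = 0 := fun x => LinearMap.congr_fun h3 x
  have a2 : LinearIndependent K ![v, ν v, ν (ν v)] := by
    rw [Fintype.linearIndependent_iff]
    intro g hg
    rw [Fin.sum_univ_three] at hg
    change g 0 • v + g 1 • ν v + g 2 • ν (ν v) = 0 at hg
    have b1 := congrArg ν hg
    have b2 := congrArg ν b1
    simp only [map_add, map_smul, a1, map_zero, smul_zero, add_zero, smul_eq_zero, hv, or_false] at b1 b2
    simp only [b2, zero_smul, zero_add, smul_eq_zero, hv, or_false] at b1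
    simp only [b1, b2, zero_smul, zero_add, smul_eq_zero, hv, or_false] at hg
    intro i
    fin_cases i
    exacts [b2, b1, hg]
  refine ⟨v, fun e => hv (by rw [e, map_zero, map_zero]), fun D h1 h0 =>
    LinearMap.ext_on_range (a2.span_eq_top_of_card_eq_finrank (by simp [hn])) fun i => ?_⟩
  have a3 : ∀ x, D (ν x) = ν (D x) := fun x => LinearMap.congr_fun h1 x
  (revert i; simp only [a3, h0, _root_.Fin.forall_fin_succ, _root_.Nat.succ_eq_add_one, Nat.reduceAdd, _root_.LinearMap.zero_apply, Fin.isValue, _root_.Matrix.cons_val_zero, _root_.Matrix.cons_val_succ, _root_.map_zero, _root_.Matrix.cons_val_fin_one, _root_.implies_true, _root_.and_self])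

end vec

/-! ### Arithmetic -/

/-- the data: `Q = ± q`, `M = (Q ^ r - 1) / (Q - 1)` -/
def mm (Q : ℤ) (r : ℕ) : ℕ := (∑ i ∈ Finset.range r, Q ^ i).natAbs

theorem mm_mul (Q : ℤ) (r : ℕ) : mm Q r * (Q - 1).natAbs = (Q ^ r - 1).natAbs := by
  rw [mm, ← Int.natAbs_mul, geom_sum_mul]

theorem odd_mm (Q : ℤ) {r : ℕ} (h : Odd r) : Odd (mm Q r) := by
  obtain ⟨k, rfl⟩ := h
  rw [mm, Int.natAbs_odd]
  induction k with
  | zero => simp
  | succ k ih =>
    rw [show 2 * (k + 1) + 1 = 2 * k + 1 + 1 + 1 by ring, Finset.sum_range_succ, Finset.sum_range_succ, add_assoc]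
    refine ih.add_even ?_
    rw [show Q ^ (2 * k + 1) + Q ^ (2 * k + 1 + 1) = Q ^ (2 * k) * (Q * (Q + 1)) by ring]
    exact (Int.even_mul_succ_self Q).mul_left _

theorem dvd_mm_iff (Q : ℤ) {r : ℕ} (hr : r.Prime) : r ∣ mm Q r ↔ r ∣ (Q - 1).natAbs := by
  have : Fact r.Prime := ⟨hr⟩
  rw [mm, ← Int.natCast_dvd, ← Int.natCast_dvd, ← ZMod.intCast_zmod_eq_zero_iff_dvd, ← ZMod.intCast_zmod_eq_zero_iff_dvd]
  push_cast
  refine ⟨fun h => ?_, fun h => by simp [sub_eq_zero.1 h]⟩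
  have h1 := geom_sum_mul (Q : ZMod r) r
  rw [h, zero_mul, ZMod.pow_card] at h1
  exact h1.symm

theorem mm_le {Q : ℤ} (h : 2 ≤ Q.natAbs) (r : ℕ) : mm Q (r + 1) ≤ 2 * Q.natAbs ^ r := by
  induction r with
  | zero => simp [mm]
  | succ r ih =>
    rw [mm, Finset.sum_range_succ]
    refine (Int.natAbs_add_le _ _).trans ?_
    rw [Int.natAbs_pow, pow_succ]
    change mm Q (r + 1) + _ ≤ _
    nlinarith [Nat.zero_le (Q.natAbs ^ r)]

theorem pow_le_natAbs {Q : ℤ} (h : 2 ≤ Q.natAbs) (i : ℕ) : Q.natAbs ^ i ≤ (Q ^ (i + 1) - 1).natAbs := by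
  have h1 := Int.natAbs_add_le (Q ^ (i + 1) - 1) 1
  rw [sub_add_cancel, Int.natAbs_pow, pow_succ, Int.natAbs_one] at h1
  nlinarith [Nat.one_le_pow i Q.natAbs (by omega)]

/-- the order formula -/
def OrdF (Q : ℤ) (r T : ℕ) : Prop := Nat.gcd r (Q - 1).natAbs * T =
  Q.natAbs ^ (r * (r - 1) / 2) * ∏ i ∈ Finset.range (r - 1), (Q ^ (i + 2) - 1).natAbs

variable {Q : ℤ} {r T : ℕ}

theorem OrdF.sq_dvd (h : OrdF Q r T) (hr : r.Prime) (h3 : 3 ≤ r) (h1 : r ∣ mm Q r) : r ^ 2 ∣ T := by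
  have h2 := (dvd_mm_iff Q hr).1 h1
  rw [OrdF, Nat.gcd_eq_left h2] at h
  refine Nat.dvd_of_mul_dvd_mul_left hr.pos ?_
  obtain ⟨k, rfl⟩ : ∃ k, r = k + 3 := ⟨r - 3, by omega⟩
  rw [h, show k + 3 - 1 = k + 1 + 1 from rfl, Finset.prod_range_succ, Finset.prod_range_succ', ← mm_mul Q (0 + 2),
    ← mm_mul Q (k + 1 + 2), pow_two]
  exact ((mul_dvd_mul ((h2.mul_left _).mul_left _) (mul_dvd_mul h1 h2))).mul_left _

theorem OrdF.eq_three (h : OrdF Q r T) (hq : 2 ≤ Q.natAbs) (hr : r.Prime) (h3 : 3 ≤ r) (hT : T ≤ 9 * r * mm Q r ^ 3) :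
    r = 3 := by
  by_contra h4
  have h5 : 5 ≤ r := hr.five_le_of_ne_two_of_ne_three (by omega) h4
  obtain ⟨k, rfl⟩ : ∃ k, r = k + 2 := ⟨r - 2, by omega⟩
  have a1 : ∀ j, Q.natAbs ^ ((j + 1) ^ 2) ≤
      Q.natAbs ^ ((j + 2) * (j + 1) / 2) * ∏ i ∈ Finset.range j, (Q ^ (i + 2) - 1).natAbs := fun j => by
    induction j with
    | zero => simp
    | succ j ih =>
      rw [Finset.prod_range_succ, show (j + 1 + 2) * (j + 1 + 1) = (j + 2) * (j + 1) + (j + 2) * 2 by ring,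
        Nat.add_mul_div_right _ _ two_pos, show (j + 1 + 1) ^ 2 = (j + 1) ^ 2 + (j + 2) + (j + 1) by ring, pow_add,
        pow_add, pow_add _ (_ / 2)]
      exact (Nat.mul_le_mul (Nat.mul_le_mul_right _ ih) (pow_le_natAbs hq (j + 1))).trans_eq (by ring)
  have a2 := a1 k
  have a3 : 0 < (Q - 1).natAbs := by omega
  have a4 := Nat.gcd_le_right (k + 2) a3
  have a5 := mm_le hq (k + 1)
  have a6 : 0 < mm Q (k + 2) := (odd_mm Q (hr.odd_of_ne_two (by omega))).pos
  rw [OrdF, show k + 2 - 1 = k + 1 from rfl, Finset.prod_range_succ, ← mul_assoc, ← mm_mul] at h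
  generalize Q.natAbs ^ ((k + 2) * (k + 1) / 2) * ∏ i ∈ Finset.range k, (Q ^ (i + 2) - 1).natAbs = P at h a2
  have a7 : P * mm Q (k + 2) ≤ T := Nat.le_of_mul_le_mul_right
    (by rw [mul_assoc, ← h, mul_comm]; exact Nat.mul_le_mul_left _ a4) a3
  have a8 : P ≤ 9 * (k + 2) * mm Q (k + 2) ^ 2 := Nat.le_of_mul_le_mul_right ((a7.trans hT).trans_eq (by ring)) a6
  have a9 : Q.natAbs ^ ((k + 1) * (k - 1)) ≤ 36 * (k + 2) := by
    refine Nat.le_of_mul_le_mul_right ?_ (show 0 < (Q.natAbs ^ (k + 1)) ^ 2 by positivity)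
    rw [← pow_mul, ← pow_add, ← mul_add, show k - 1 + 2 = k + 1 by omega, ← pow_two, pow_mul]
    exact (a2.trans a8).trans ((Nat.mul_le_mul_left _ (Nat.pow_le_pow_left a5 2)).trans_eq (by ring))
  obtain ⟨j, rfl⟩ : ∃ j, k = j + 3 := ⟨k - 3, by omega⟩
  have a10 := (Nat.pow_le_pow_left hq _).trans a9
  rw [show (j + 3 + 1) * (j + 3 - 1) = 8 + (j * j + 6 * j) by rw [show j + 3 - 1 = j + 2 from rfl]; ring, pow_add] at a10
  have a11 : j * j + 6 * j < 2 ^ (j * j + 6 * j) := Nat.lt_two_pow_self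
  linarith only [a10, a11, _root_.mul_self_nonneg (↑j : ℤ), _root_.Nat.cast_nonneg (α := ℤ) (j)]

/-- the numerical output of the Singer case -/
structure Out (M r T q : ℕ) (small : Prop) (N n : ℕ) : Prop where
  dvd : N ∣ M
  not_dvd : ¬ r ∣ N
  inf : ∃ x, x * n = T ∧ x ∣ r * N
  le : n ≤ (3 * N) ^ 2
  le' : q.Prime → n ≤ N ^ 2
  idx : ∃ k, 2 ≤ k ∧ n = k * N + 1
  sig : small → r = 3 → 2 * T ≤ 2 * N * (2 * N) * 13

theorem Out.three {small : Prop} {N n : ℕ} (o : Out (mm Q r) r T Q.natAbs small N n) (h : OrdF Q r T) (hq : 2 ≤ Q.natAbs)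
    (hr : r.Prime) (h3 : 3 ≤ r) : r = 3 ∧ ∀ j, n ≤ j * N ^ 2 → Nat.gcd 3 (Q - 1).natAbs ^ 2 *
      (Q.natAbs ^ 3 * (Q ^ 2 - 1).natAbs * (Q - 1).natAbs) ≤ 3 * j * mm Q 3 ^ 2 := by
  have a1 : 0 < mm Q r := (odd_mm Q (hr.odd_of_ne_two (by omega))).pos
  have a2 := Nat.le_of_dvd a1 o.dvd
  have a3 : 0 < N := Nat.pos_of_dvd_of_pos o.dvd a1
  obtain ⟨x, hx, a4⟩ := o.inf
  have a5 := Nat.le_of_dvd (Nat.mul_pos hr.pos a3) a4
  obtain rfl := h.eq_three hq hr h3 (by
    rw [← hx]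
    exact (Nat.mul_le_mul a5 o.le).trans ((show r * N * (3 * N) ^ 2 = 9 * r * N ^ 3 by ring).trans_le
      (Nat.mul_le_mul_left _ (Nat.pow_le_pow_left a2 3))))
  refine ⟨rfl, fun j hj => ?_⟩
  have a6 : Nat.gcd 3 (Q - 1).natAbs * N ≤ mm Q 3 := by
    rcases (Nat.dvd_prime hr).1 (Nat.gcd_dvd_left 3 (Q - 1).natAbs) with e | e
    · rwa [e, one_mul]
    · rw [e]
      exact Nat.le_of_dvd a1 (((Nat.Prime.coprime_iff_not_dvd hr).2 o.not_dvd).mul_dvd_of_dvd_of_dvd
        ((dvd_mm_iff Q hr).2 (e ▸ Nat.gcd_dvd_right _ _)) o.dvd)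
  have a7 : Nat.gcd 3 (Q - 1).natAbs * T = Q.natAbs ^ 3 * (Q ^ 2 - 1).natAbs * (Q - 1).natAbs * mm Q 3 := by
    rw [h, Finset.prod_range_succ, Finset.prod_range_one, ← mm_mul Q (1 + 2)]
    ring
  generalize Nat.gcd 3 (Q - 1).natAbs = g at a6 a7
  refine Nat.le_of_mul_le_mul_right ?_ a1
  rw [mul_assoc, ← a7, ← hx]
  calc g ^ 2 * (g * (x * n)) ≤ g ^ 2 * (g * (3 * N * (j * N ^ 2))) := by gcongr
    _ = 3 * j * (g * N) ^ 3 := by ring
    _ ≤ 3 * j * mm Q 3 ^ 3 := by gcongr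
    _ = _ := by ring

theorem Out.not_L {q N n : ℕ} (o : Out (mm q r) r T q (q = 3) N n) (h : OrdF q r T) (hq : IsPrimePow q)
    (hr : r.Prime) (h3 : 3 ≤ r) : False := by
  have h2 := hq.two_le
  obtain ⟨rfl, a1⟩ := Out.three (Q := q) o h h2 hr h3
  have a2 := a1 9 (o.le.trans_eq (by ring))
  have a3 := fun e => a1 1 ((o.le' e).trans_eq (one_mul _).symm)
  obtain ⟨x, hx, a4⟩ := o.inf
  obtain ⟨k, hk, a5⟩ := o.idx
  have a6 := o.dvd
  have a7 := o.sig
  have a8 := o.le'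
  by_cases h7 : 7 ≤ q
  · obtain ⟨t, rfl⟩ := Nat.exists_eq_add_of_le h7
    have b1 : mm (7 + t : ℕ) 3 = t ^ 2 + 15 * t + 57 := by
      rw [mm, ← Int.natAbs_natCast (t ^ 2 + 15 * t + 57)]
      simp [Finset.sum_range_succ]
      ring_nf
    have b2 : (((7 + t : ℕ) : ℤ) - 1).natAbs = t + 6 := by omega
    have b3 : (((7 + t : ℕ) : ℤ) ^ 2 - 1).natAbs = t ^ 2 + 14 * t + 48 := by
      rw [← Int.natAbs_natCast (t ^ 2 + 14 * t + 48)]
      push_cast
      ring_nf
    rw [b1, b2, b3, Int.natAbs_natCast] at a2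
    have b4 := (Nat.le_mul_of_pos_left _ (pow_pos (Nat.gcd_pos_of_pos_left (t + 6) three_pos) 2)).trans a2
    ring_nf at b4
    (clear * - b4; omega)
  have b0 : ∀ z : ℤ, mm z 3 = (1 + z + z ^ 2).natAbs := fun z => by simp [mm, Finset.sum_range_succ]
  rw [OrdF, Finset.prod_range_succ, Finset.prod_range_one] at h
  rw [b0] at a2 a3 a6
  push Not at h7
  interval_cases q
  · norm_num at h a6
    have b1 := a8 Nat.prime_two
    rcases (Nat.dvd_prime (by norm_num)).1 a6 with rfl | rfl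
    · omega
    · have b2 := Nat.le_of_dvd (by norm_num) a4
      rw [h, a5] at hx
      interval_cases x <;> (clear * - hx hk; omega)
  · norm_num at h a6
    have b1 := Nat.le_of_dvd (by norm_num) a6
    have b2 := a7 rfl rfl
    nlinarith only [h, b1, b2]
  · norm_num at a2
  · norm_num at a3
  · exact absurd hq (by decide)

theorem Out.not_U {q N n : ℕ} {small : Prop} (o : Out (mm (-q) r) r T q small N n) (h : OrdF (-q) r T) (hq : 3 ≤ q ∨ q = 2 ∧ r ≠ 3)
    (hr : r.Prime) (h3 : 3 ≤ r) : False := by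
  have e : (-q : ℤ).natAbs = q := by simp
  obtain ⟨rfl, a1⟩ := Out.three (Q := -q) (by rwa [e]) h (by omega) hr h3
  have a2 := a1 9 (o.le.trans_eq (by ring))
  have a3 := fun e => a1 1 ((o.le' e).trans_eq (one_mul _).symm)
  have b0 : ∀ z : ℤ, mm z 3 = (1 + z + z ^ 2).natAbs := fun z => by simp [mm, Finset.sum_range_succ]
  rw [b0] at a2 a3
  by_cases h4 : q = 3
  · subst h4
    norm_num at a3
  obtain ⟨t, rfl⟩ := Nat.exists_eq_add_of_le (show 4 ≤ q by omega)
  have b1 : (1 + -((4 + t : ℕ) : ℤ) + (-((4 + t : ℕ) : ℤ)) ^ 2).natAbs = t ^ 2 + 7 * t + 13 := by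
    rw [← Int.natAbs_natCast (t ^ 2 + 7 * t + 13)]
    push_cast
    ring_nf
  have b2 : (-((4 + t : ℕ) : ℤ) - 1).natAbs = t + 5 := by omega
  have b3 : ((-((4 + t : ℕ) : ℤ)) ^ 2 - 1).natAbs = t ^ 2 + 8 * t + 15 := by
    rw [← Int.natAbs_natCast (t ^ 2 + 8 * t + 15)]
    push_cast
    ring_nf
  rw [b1, b2, b3, e] at a2
  have b4 := (Nat.le_mul_of_pos_left _ (pow_pos (Nat.gcd_pos_of_pos_left (t + 5) three_pos) 2)).trans a2
  ring_nf at b4
  omega

end Cfsg.Agent.TH.Cl.Fld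
end

-- part: TH/Cl/FldLU/Sing
section
/-!
# S3541, linear and unitary groups: normalisers of Singer cycles (helper9)
-/

set_option autoImplicit false

namespace Cfsg.Agent.TH.Cl.Fld

open Cfsg.Agent.DS.Cl Cfsg.Agent.DS.Cl.Fwd Cfsg.Agent.SB.Cl Cfsg.Agent.SB.C2 Cfsg.Agent.SB.Fld Module

variable {A : Type} [Ring A] [StarRing A] {K V : Type} [Field K] [AddCommGroup V] [Module K V]
  {π : A →+* End K V} {c η θ : A} {W : Subring A} {r : ℕ}

theorem cen_of_scal [Nontrivial V] (h : LU π c η θ) {u : A} (hu : u * star u = 1) {k : K} (hk : π u = k • 1) :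
    u ∈ Subring.center A := by
  have h1 := congrArg π hu
  rw [map_mul, map_one, hk, smul_mul_assoc, one_mul] at h1
  have h2 : k ≠ 0 := fun e => by
    rw [e, zero_smul] at h1
    exact zero_ne_one h1
  exact h.cen_of hk (k' := k⁻¹) (by rw [← h1, smul_smul, inv_mul_cancel₀ h2, one_smul])

theorem cen_of_tr (h : LU π c η θ) {u : A} (h1 : u + star u ∈ Subring.center A)
    (h2 : star θ * u + star (star θ * u) ∈ Subring.center A) : u ∈ Subring.center A := by
  obtain ⟨t, ht⟩ := h.θ_unit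
  have h3 : (t : A) ∈ Subring.center A := ht ▸ sub_mem h.θ_cen (star_cen h.θ_cen)
  have h4 := mul_mem (inv_cen h3) (sub_mem (mul_mem h.θ_cen h1) h2)
  rwa [star_mul, star_star, cen_comm h.θ_cen, mul_add, add_sub_add_right_eq_sub, ← sub_mul, ← ht,
    Units.inv_mul_cancel_left] at h4

theorem theta_cases (h : LU π c η θ) {γ : RingAut A} (hγ : γ ∈ SAut A) (h0 : ∀ x ∈ C0 A, γ x = x) :
    γ θ = θ ∨ γ θ = star θ := by
  have h1 : γ θ + star (γ θ) = θ + star θ := by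
    rw [← hγ, ← map_add, h0 _ ⟨add_mem h.θ_cen (star_cen h.θ_cen), by rw [star_add, star_star, add_comm]⟩]
  have h2 : γ θ * star (γ θ) = θ * star θ := by
    rw [← hγ, ← map_mul, h0 _ ⟨mul_mem h.θ_cen (star_cen h.θ_cen), by rw [star_mul, star_star]⟩]
  obtain ⟨a, ha⟩ := h.scal_of h.θ_cen
  obtain ⟨a', ha'⟩ := h.scal_of (star_cen h.θ_cen)
  obtain ⟨b, hb⟩ := h.scal_of (map_cen γ h.θ_cen)
  obtain ⟨b', hb'⟩ := h.scal_of (star_cen (map_cen γ h.θ_cen))
  have h3 : ∀ x y : A, γ θ + star (γ θ) = x + star x → π (γ θ) = π x → γ θ = x := fun x _ e1 e2 =>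
    sub_eq_zero.1 (h.sep _ (by rw [map_sub, e2, sub_self]) (by
      have e3 := congrArg π e1
      rw [map_add, map_add, e2, add_right_inj] at e3
      rw [star_sub, map_sub, e3, sub_self]))
  have h4 : ((b - a) * (b - a')) • (1 : End K V) = 0 := by
    have e1 := congrArg π h1
    have e2 := congrArg π h2
    rw [map_add, map_add, ha, ha', hb, hb', ← add_smul, ← add_smul] at e1
    rw [map_mul, map_mul, ha, ha', hb, hb', smul_mul_smul_comm, smul_mul_smul_comm, one_mul] at e2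
    rw [show (b - a) * (b - a') = b * (b + b') - b * (a + a') + (a * a' - b * b') by ring, add_smul, sub_smul, sub_smul,
      mul_smul b, mul_smul b (a + a'), e1, e2, sub_self, sub_self, add_zero]
  rcases smul_eq_zero.1 h4 with e | e
  · rcases mul_eq_zero.1 e with e | e
    · exact Or.inl (h3 θ θ h1 (by rw [ha, hb, sub_eq_zero.1 e]))
    · exact Or.inr (h3 _ θ (by rw [h1, star_star, add_comm]) (by rw [ha', hb, sub_eq_zero.1 e]))
  · exact Or.inl (h3 θ θ h1 (by rw [← mul_one (π _), ← mul_one (π θ), e, mul_zero, mul_zero]))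

omit [StarRing A] in
theorem det_eq_one (π : A →+* End K V) {X : Subgroup Aˣ} {u : Aˣ} (hu : u ∈ (⁅X, X⁆ : Subgroup Aˣ)) :
    LinearMap.det (π u) = 1 := by
  let φ : Aˣ →* Kˣ := (LinearMap.det.comp (π.toMonoidHom.comp (Units.coeHom A))).toHomUnits
  have h1 : (⁅X, X⁆ : Subgroup Aˣ) ≤ φ.ker := Subgroup.commutator_le.2 fun a _ b _ => by
    rw [MonoidHom.mem_ker, map_commutatorElement, commutatorElement_eq_one_iff_mul_comm, mul_comm]
  exact congrArg Units.val (h1 hu)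

/-- the unitary elements of `Z` -/
def UZ (Z : Subring A) (hZ : ∀ x ∈ Z, star x ∈ Z) : Subgroup Aˣ where
  carrier := {u | (u : A) ∈ Z ∧ (u : A) * star (u : A) = 1}
  mul_mem' := fun {a b} ha hb => ⟨mul_mem ha.1 hb.1, by
    rw [Units.val_mul, star_mul, mul_assoc, ← mul_assoc (b : A), hb.2, one_mul, ha.2]⟩
  one_mem' := ⟨one_mem Z, by simp⟩
  inv_mem' := fun {a} ha => by
    refine ⟨star_eq_inv ha.2 ▸ hZ _ ha.1, ?_⟩
    rw [star_eq_inv ha.2, star_star, ← star_eq_inv ha.2, Units.inv_mul]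

/-- the Singer case -/
structure Sg (π : A →+* End K V) (c η θ : A) (W : Subring A) (r : ℕ) : Prop where
  lu : LU π c η θ
  sf : SymF W r
  mx : MaxF (lu.img (Zt W θ) (comSub lu sf).1)
  dim : finrank K V = r
  three : 3 ≤ r

namespace Sg

variable (s : Sg π c η θ W r)
include s

theorem nontrivial : Nontrivial V := Module.nontrivial_of_finrank_pos (R := K) (s.dim ▸ s.sf.prime.pos)

theorem cent {a : A} (ha : ∀ z ∈ Zt W θ, z * a = a * z) : a ∈ Zt W θ := s.lu.cent (comSub s.lu s.sf) s.mx ha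

theorem mem_of_fix {u : Aˣ} (hu : DS.Cl.cj A u ∈ DS.Cl.Fix (Zt W θ : Set A)) : (u : A) ∈ Zt W θ :=
  s.cent fun z hz => by rw [← cj_mul_eq, hu z hz]

variable [Finite A] [Nontrivial A]

theorem exists_uni (ss : SS A) {γ : RingAut A} (h1 : γ ∈ SAut A) (h2 : γ ∈ DS.Cl.Fix (Zt W θ : Set A)) :
    ∃ u ∈ UZ _ (comSub s.lu s.sf).2.1, DS.Cl.cj A u = γ := by
  have hZ := comSub s.lu s.sf
  obtain ⟨u, rfl⟩ := ss.sn (γ := γ) fun d hd => h2 d (hZ.1 hd)
  have hu := s.mem_of_fix h2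
  have a1 : star (u : A) * u ∈ C0 A := ⟨cj_SAut_cen h1, by rw [star_mul, star_star]⟩
  obtain ⟨y, hy, a2⟩ := (isF_C0 ss).inv _ a1 (u.isUnit.star.mul u.isUnit).ne_zero
  have a3 : Qd (C0 A) θ := ⟨isF_C0 ss, fun _ hx => hx.2, fun x _ => cen_comm s.lu.θ_cen x,
    ⟨add_mem s.lu.θ_cen (star_cen s.lu.θ_cen), by rw [star_add, star_star, add_comm]⟩,
    ⟨mul_mem s.lu.θ_cen (star_cen s.lu.θ_cen), by rw [star_mul, star_star]⟩, s.lu.θ_unit⟩
  obtain ⟨z, hz, a4⟩ := a3.norm_surj hy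
  have a5 : z ∈ Subring.center A := Zt_le (W := C0 A) (fun _ hx => hx.1) s.lu.θ_cen hz
  have a6 : u * z * star (u * z) = 1 := by
    rw [star_mul, mul_assoc, ← mul_assoc z, cen_comm (star_cen a5), a4, ← cen_comm hy.1, ← mul_assoc,
      hZ.2.2 _ hu _ (hZ.2.1 _ hu), a2]
  refine ⟨mkU _ a6, ⟨mul_mem hu (hZ.1 a5), a6⟩, cj_eq_iff.2 ⟨u⁻¹ * mkU _ a6, ?_, (mul_inv_cancel_left _ _).symm⟩⟩
  rwa [Units.val_mul, mkU_val, Units.inv_mul_cancel_left]

omit [Nontrivial A] in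
theorem cyclic : IsCyclic (UZ _ (comSub s.lu s.sf).2.1) := by
  let _ := s.mx.field.toField
  let φ : UZ _ (comSub s.lu s.sf).2.1 →* s.lu.img (Zt W θ) (comSub s.lu s.sf).1 :=
    { toFun := fun u => ⟨π u.1, _, u.2.1, rfl⟩
      map_one' := Subtype.ext (map_one π)
      map_mul' := fun _ _ => Subtype.ext (map_mul π _ _) }
  refine isCyclic_of_injective_ringHom φ ((injective_iff_map_eq_one φ).2 fun u hu => Subtype.ext (Units.ext ?_))
  have h1 : π u.1 = 1 := congrArg Subtype.val hu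
  have h2 := congrArg π u.2.2
  rw [map_mul, h1, one_mul] at h2
  exact sub_eq_zero.1 (s.lu.sep _ (by rw [map_sub, h1]; simp only [_root_.OneMemClass.coe_one, _root_.Units.val_one, _root_.map_one, _root_.sub_self]) (by rw [star_sub, map_sub, h2]; simp only [_root_.map_one, _root_.OneMemClass.coe_one, _root_.Units.val_one, _root_.star_one, _root_.sub_self]))

omit [Finite A] [Nontrivial A] in
/-- a linear automorphism of order three in characteristic three which moves `W` is a regular unipotent element -/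
theorem sq_ne {y : Aˣ} (h1 : ∀ w ∈ W, DS.Cl.cj A y w ∈ W) (h2 : DS.Cl.cj A y ∉ DS.Cl.Fix (W : Set A)) {k : K}
    (hk : 2 * k ≠ 0) : (π y - k • 1) * (π y - k • 1) ≠ 0 := fun h0 => h2 fun e he => by
  have a1 : ∀ w, π (DS.Cl.cj A y w) * π y = π y * π w := fun w => by rw [← map_mul, cj_mul_eq, map_mul]
  have a2 : π y * π y = (2 * k) • π y - (k * k) • 1 := by
    rw [← sub_eq_zero, ← h0]
    simp only [sub_mul, mul_sub, smul_mul_assoc, mul_smul_comm, one_mul, mul_one]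
    module
  by_contra h3
  have h4 := sub_mem (h1 _ he) (h1 _ (h1 _ he))
  obtain ⟨w, hw, a3⟩ := s.sf.isF.inv _ h4 fun e1 => h3 ((DS.Cl.cj A y).injective (sub_eq_zero.1 e1)).symm
  have a4 : π (DS.Cl.cj A y (DS.Cl.cj A y e)) * (π y * π y) = π y * π y * π e := by
    rw [← mul_assoc, a1, mul_assoc, a1, mul_assoc]
  have a5 : (2 * k) • (π (DS.Cl.cj A y e - DS.Cl.cj A y (DS.Cl.cj A y e)) * π y) =
      (k * k) • π (e - DS.Cl.cj A y (DS.Cl.cj A y e)) := by
    rw [a2, mul_sub, sub_mul, mul_smul_comm, mul_smul_comm, smul_mul_assoc, smul_mul_assoc, ← a1, mul_one, one_mul,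
      sub_eq_sub_iff_sub_eq_sub] at a4
    rw [map_sub, map_sub, sub_mul, smul_sub, smul_sub, ← neg_sub, a4, neg_sub]
  have a6 : π y = ((2 * k)⁻¹ * (k * k)) • π (w * (e - DS.Cl.cj A y (DS.Cl.cj A y e))) := by
    rw [map_mul, mul_smul, ← mul_smul_comm (k * k), ← a5, mul_smul_comm, smul_smul, inv_mul_cancel₀ hk, one_smul,
      ← mul_assoc, ← map_mul, s.sf.isF.comm _ hw _ h4, a3, map_one, one_mul]
  have a7 : π y * π e = π e * π y := by
    rw [a6, smul_mul_assoc, mul_smul_comm, ← map_mul, ← map_mul,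
      s.sf.isF.comm _ (mul_mem hw (sub_mem he (h1 _ (h1 _ he)))) _ he]
  have a8 := (y.isUnit.map π).mul_right_cancel ((a1 e).trans a7)
  exact h3 (sub_eq_zero.1 (s.lu.sep_symm (s.sf.sym _ (sub_mem (h1 _ he) he)) (by rw [map_sub, a8, sub_self])))

omit [Finite A] [Nontrivial A] in
theorem card_cent [Finite V] (hK : Nat.card K = 3) (h3 : r = 3) (F : FR A) {x : RingAut A} (hx : x ∈ F.S) (h0 : x ^ 3 = 1)
    (h1 : ∀ w ∈ W, x w ∈ W) (h2 : x ∉ DS.Cl.Fix (W : Set A)) :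
    Nat.card ↥(Subgroup.centralizer {x} ⊓ F.S) ≤ 13 := by
  have := s.nontrivial
  have : Finite K := Nat.finite_of_card_ne_zero (by omega)
  have := Fintype.ofFinite K
  have k3 : ∀ k : K, k ^ 3 = k := fun k => by rw [← hK, Nat.card_eq_fintype_card, FiniteField.pow_card]
  have k0 : (3 : K) = 0 := by
    have := FiniteField.cast_card_eq_zero K
    rwa [← Nat.card_eq_fintype_card, hK] at this
  obtain ⟨y, hy, rfl⟩ := hx
  obtain ⟨k, hk⟩ := s.lu.scal_of (cj_eq_one_iff.1 (by rwa [map_pow] : DS.Cl.cj A (y ^ 3) = 1))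
  rw [Units.val_pow_eq_pow_val, map_pow] at hk
  have a1 : k ≠ 0 := fun e => by
    rw [e, zero_smul] at hk
    exact ((y.isUnit.map π).pow 3).ne_zero hk
  obtain ⟨v, hv, a2⟩ := exists_cyc (s.dim.trans h3) (ν := π y - k • 1) (by
    have b1 : (π y - k • 1) * (π y - k • 1) * (π y - k • 1) =
        π y ^ 3 - k ^ 3 • 1 - (3 * k) • (π y * π y) + (3 * (k * k)) • π y := by
      simp only [sub_mul, mul_sub, smul_mul_assoc, mul_smul_comm, one_mul, mul_one, pow_succ, pow_zero]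
      module
    rw [b1, hk, k3, k0]
    simp) (s.sq_ne h1 h2 (mul_ne_zero (fun e => one_ne_zero (α := K) (by linear_combination k0 - e)) a1))
  have a3 : ∀ t : ↥(Subgroup.centralizer {DS.Cl.cj A y} ⊓ F.S), ∃ u ∈ F.Iso, DS.Cl.cj A u = t ∧ π u * π y = π y * π u := by
    rintro ⟨_, ht, u, hu, rfl⟩
    refine ⟨u, F.comm_le_Iso hu, rfl, ?_⟩
    have b1 := ht _ rfl
    rw [← map_mul, ← map_mul, cj_eq_iff] at b1
    obtain ⟨z, hz, b1⟩ := b1
    obtain ⟨l, hl⟩ := s.lu.scal_of hz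
    have b2 := congrArg (fun a : Aˣ => π a) b1
    simp only [Units.val_mul, map_mul, hl, mul_smul_comm, mul_one] at b2
    have b3 := congrArg LinearMap.det b2
    rw [LinearMap.det_smul, map_mul, map_mul, det_eq_one π hy, det_eq_one π hu, s.dim, h3, k3] at b3
    rw [b2, show l = 1 by simpa using b3.symm, one_smul]
  choose f f1 f2 f3 using a3
  have a4 : Function.Injective fun a : ↥(Subgroup.centralizer {DS.Cl.cj A y} ⊓ F.S) × Kˣ => (a.2 : K) • π (f a.1) v := by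
    rintro ⟨t, l⟩ ⟨t', l'⟩ (e : (l : K) • π (f t) v = (l' : K) • π (f t') v)
    have b1 := sub_eq_zero.1 (a2 ((l : K) • π (f t) - (l' : K) • π (f t')) (by
      simp only [sub_mul, mul_sub, smul_mul_assoc, mul_smul_comm, one_mul, mul_one, f3, smul_sub, smul_comm k]
      abel) (by simp only [e, _root_.LinearMap.sub_apply, _root_.LinearMap.smul_apply, _root_.sub_self]))
    have b2 : π ((f t')⁻¹ * f t : Aˣ) = ((l : K)⁻¹ * l') • 1 := by
      rw [Units.val_mul, map_mul, (eq_inv_smul_iff₀ l.ne_zero).2 b1, mul_smul_comm, mul_smul_comm, ← map_mul,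
        Units.inv_mul, map_one, mul_smul]
    have b3 := cj_eq_one_iff.2 (cen_of_scal s.lu (FR.Iso.ms (mul_mem (inv_mem (f1 t')) (f1 t))) b2)
    rw [map_mul, map_inv, f2, f2, inv_mul_eq_one] at b3
    obtain rfl : t' = t := Subtype.ext b3
    exact Prod.ext rfl (Units.ext (smul_left_injective K ((f t').isUnit.map π).ne_zero b1))
  have a5 := Nat.card_le_card_of_injective _ a4
  rw [Nat.card_prod, Nat.card_units, Module.natCard_eq_pow_finrank (K := K) (V := V), hK, s.dim, h3] at a5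
  omega

variable {F : FR A} {G H : Subgroup (RingAut A)} {m p : ℕ} (cx : Ctx F G H m p) (hH : Inv H W)
include cx hH

theorem free (h0 : ¬ r ∣ Nat.card ↥(H ⊓ DS.Cl.Fix (Zt W θ : Set A))) {g : RingAut A} (hg : g ∈ G) (hn : g ∉ H)
    {x : RingAut A} (h1 : x ∈ H ⊓ DS.Cl.Fix (Zt W θ : Set A)) (h2 : x ∈ TH.cj g H) : x = 1 := by
  have hZ := comSub s.lu s.sf
  have a1 : x ∈ Lin A := fun d hd => h1.2 d (hZ.1 hd)
  have a2 : g⁻¹ * x * g ∈ Lin A := by simpa only [_root_.inv_inv] using Lin_conj a1 g⁻¹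
  have a3 := fix_Zt s.lu (s.sf.pow_fix (hH _ (TH.mem_cj.1 h2)) fun d hd => a2 d hd.1) (pow_mem a2 r)
  obtain ⟨u, hu, a4⟩ := s.exists_uni cx.ss (cx.le_SAut (pow_mem h1.1 r)) (pow_mem h1.2 r)
  have a5 : (g⁻¹ * x * g) ^ r = DS.Cl.cj A (um g⁻¹ u) := by
    rw [← conj_cj, a4, ← conj_pow, inv_inv]
  have a6 : g⁻¹ (u : A) ∈ Zt W θ := s.mem_of_fix (a5 ▸ a3)
  have a7 : g⁻¹ ∈ SAut A := F.Aut_le_SAut (cx.le (inv_mem hg))
  rcases s.sf.eq_or (X := W ⊓ W.comap ((g⁻¹ : RingAut A) : A →+* A))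
    (fun d hd => ⟨s.sf.le hd, s.sf.le (inv_C0 le_rfl _ a7 d hd)⟩) inf_le_left with e | e
  · have a8 : ∀ d ∈ Subring.center A, d * u + star (d * u) ∈ Subring.center A := fun d hd =>
      (e.le ⟨(qd s.lu s.sf).trace_mem (mul_mem (hZ.1 hd) hu.1), show g⁻¹ (d * u + star (d * u)) ∈ W by
        rw [map_add, a7, map_mul]
        exact (qd s.lu s.sf).trace_mem (mul_mem (hZ.1 (map_cen _ hd)) a6)⟩).1
    have a9 := cj_eq_one_iff.2 (cen_of_tr s.lu (by simpa only [_root_.one_mul] using a8 1 (one_mem _)) (a8 _ (star_cen s.lu.θ_cen)))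
    rw [a4] at a9
    exact orderOf_eq_one_iff.1 (Nat.eq_one_of_dvd_coprimes ((Nat.Prime.coprime_iff_not_dvd s.sf.prime).2 h0)
      (orderOf_dvd_of_pow_eq_one a9) (Subgroup.orderOf_dvd_natCard _ h1))
  · exact absurd (inv_mem_iff.1 (cx.mem_of_inv hH (s.sf.not_inv cx.span (perfect_of_simple cx.simple cx.noncomm))
      (inv_mem hg) fun w hw => (e.ge hw).2)) hn

theorem out [Finite V] {M : ℕ} (hM : ∀ u ∈ Zt W θ, u * star u = 1 → u ^ M ∈ Subring.center A) (hodd : Odd M)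
    (hr : r ∣ M → r ^ 2 ∣ Nat.card F.S) : Out M r (Nat.card F.S) (Nat.card (C0 A)) (Nat.card K = 3)
      (Nat.card ↥(H ⊓ DS.Cl.Fix (Zt W θ : Set A))) (H.relIndex G) := by
  have : Module.Finite K V := Module.Finite.of_finite
  have hZ := comSub s.lu s.sf
  have hp := s.sf.prime
  have hZH := inv_Zt s.lu s.sf hH
  set N := H ⊓ DS.Cl.Fix (Zt W θ : Set A)
  have n1 : N ≤ (UZ _ hZ.2.1).map (DS.Cl.cj A) := fun x hx => s.exists_uni cx.ss (cx.le_SAut hx.1) hx.2
  have n2 : IsCyclic N := by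
    have := s.cyclic
    have := isCyclic_of_surjective _ ((DS.Cl.cj A).subgroupMap_surjective (UZ _ hZ.2.1))
    exact isCyclic_of_injective _ (Subgroup.inclusion_injective n1)
  have n3 : Nat.card N ∣ M := by
    rw [← IsCyclic.exponent_eq_card]
    refine Monoid.exponent_dvd_of_forall_pow_eq_one fun x => Subtype.ext ?_
    obtain ⟨u, hu, e⟩ := n1 x.2
    rw [Subgroup.coe_pow, ← e, ← map_pow]
    exact cj_eq_one_iff.2 (hM _ hu.1 hu.2)
  have n4 : ∀ a ∈ H, ∀ x ∈ N, a * x * a⁻¹ ∈ N := fun a ha x hx =>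
    ⟨H.mul_mem (H.mul_mem ha hx.1) (H.inv_mem ha), fun z hz => by
      rw [ra_mul, ra_mul, hx.2 _ (hZH _ (inv_mem ha) z hz), ra_apply_inv]⟩
  have n5 : ∀ a ∈ N, ∀ b ∈ N, a * b = b * a := fun a ha b hb =>
    congrArg Subtype.val (n2.isMulCommutative.is_comm.comm (⟨a, ha⟩ : N) ⟨b, hb⟩)
  have n6 : Nat.card N ∣ Nat.card H / m := by
    obtain ⟨x, hx⟩ := IsCyclic.exists_ofOrder_eq_natCard (α := N)
    rw [← hx, ← Subgroup.orderOf_coe]
    exact cx.in.orderOf_dvd_d inf_le_left n4 n5 x.2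
  have x1 : H ⊓ F.S ≤ Lin A := fun γ hγ => F.PI_le_Lin (F.S_le_PI hγ.2)
  have x2 : (DS.Cl.Fix (W : Set A)).subgroupOf (H ⊓ F.S) = N.subgroupOf (H ⊓ F.S) := Subgroup.ext fun γ =>
    ⟨fun h => ⟨γ.2.1, fix_Zt s.lu h (x1 γ.2)⟩, fun h w hw => h.2 w (le_Zt hw)⟩
  have x3 : N.relIndex (H ⊓ F.S) ∣ r := by
    rw [Subgroup.relIndex, ← x2]
    exact s.sf.relIndex_dvd (fun γ hγ => hH γ hγ.1) x1
  have x4 := (N.subgroupOf (H ⊓ F.S)).index_mul_card
  have x5 : Nat.card (N.subgroupOf (H ⊓ F.S)) ∣ Nat.card N := by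
    rw [← Subgroup.inf_subgroupOf_right, In.card_sub inf_le_right]
    exact Subgroup.card_dvd_of_le inf_le_left
  have n7 : ¬ r ∣ Nat.card N := fun h0 => by
    have : Fact r.Prime := ⟨hp⟩
    have b1 := hr (h0.trans n3)
    rw [← cx.card_inf_mul, ← x4] at b1
    have b2 := (Nat.Coprime.pow_left 2 ((Nat.Prime.coprime_iff_not_dvd hp).2
      fun e => cx.in.not_dvd_d hp e (h0.trans n6))).dvd_of_dvd_mul_right b1
    obtain ⟨x, hx⟩ := exists_prime_orderOf_dvd_card' (G := N.subgroupOf (H ⊓ F.S)) r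
      (Nat.dvd_of_mul_dvd_mul_left hp.pos (pow_two r ▸ b2.trans (mul_dvd_mul_right x3 _)))
    rw [← Subgroup.orderOf_coe, ← Subgroup.orderOf_coe] at hx
    obtain ⟨u, hu, e⟩ := x.1.2.2
    obtain ⟨k, hk⟩ := s.lu.scal_of (cj_eq_one_iff.1 (by rw [map_pow, e, ← hx, pow_orderOf_eq_one] :
      DS.Cl.cj A (u ^ r) = 1))
    rw [Units.val_pow_eq_pow_val, map_pow] at hk
    obtain ⟨k', hk'⟩ := scal_of_pow s.mx hp (hp.odd_of_ne_two (by have := s.three; omega)) s.dim
      ⟨_, s.mem_of_fix (e ▸ x.2.2), rfl⟩ hk (det_eq_one π hu)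
    have := s.nontrivial
    rw [← e, cj_eq_one_iff.2 (cen_of_scal s.lu (FR.Iso.ms (F.comm_le_Iso hu)) hk'), orderOf_one] at hx
    exact hp.one_lt.ne hx
  have t1 : ∀ a : H, resW W hH a = 1 → a.1 ∉ N → a.1 θ = star θ := fun a h1 h2 =>
    (theta_cases s.lu (cx.le_SAut a.2) fun x hx => (resW_eq_one hH).1 h1 x (s.sf.le hx)).resolve_left fun e =>
      h2 ⟨a.2, fun _ hz => Zt_le (X := RingHom.eqLocus (a.1 : A →+* A) (RingHom.id A)) ((resW_eq_one hH).1 h1) e hz⟩
  have := s.sf.cyclic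
  obtain ⟨l1, l2⟩ := cx.in.index_le_dih (N := N) (resW W hH) inf_le_left
    (fun g hg hn x h1 h2 => s.free cx hH n7 hg hn h1 h2)
    (fun a ha b hb => ⟨H.mul_mem (H.mul_mem (H.mul_mem ha hb) (H.inv_mem ha)) (H.inv_mem hb), fix_Zt s.lu (fun x hx => by
      rw [ra_mul, ra_mul, ra_mul, comm_on_dom W s.sf.isF.comm (fun _ => s.sf.isF.isUnit) (hH a ha) (hH b hb) _
        (hH _ (inv_mem ha) _ (hH _ (inv_mem hb) x hx)), ra_apply_inv, ra_apply_inv])
      (cx.ss.commutator_SAut (Subgroup.commutator_mem_commutator (cx.le_SAut ha) (cx.le_SAut hb)))⟩)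
    (fun a b h1 h2 h3 h4 => ⟨H.mul_mem (H.inv_mem a.2) b.2, fun _ hz =>
      Zt_le (X := RingHom.eqLocus ((a.1⁻¹ * b.1 : RingAut A) : A →+* A) (RingHom.id A))
        (mul_mem (inv_mem ((resW_eq_one hH).1 h1)) ((resW_eq_one hH).1 h2))
        (show (a.1⁻¹ * b.1) θ = θ by rw [ra_mul, t1 b h2 h4, ← t1 a h1 h3, ra_inv_apply]) hz⟩)
    (fun a h1 h2 x hx h3 => by
      obtain ⟨u, hu, rfl⟩ := n1 hx
      have b1 : um a.1 u = u⁻¹ := Units.ext (by
        obtain ⟨w, hw, w', hw', e⟩ := (qd s.lu s.sf).mem_iff.1 hu.1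
        rw [um_val, star_eq_inv hu.2, e, (qd s.lu s.sf).star_eq hw hw', map_add, map_mul, t1 a h1 h2,
          (resW_eq_one hH).1 h1 w hw, (resW_eq_one hH).1 h1 w' hw'])
      have b2 := conj_cj a.1 u
      rw [h3, mul_inv_cancel_right, b1, map_inv, eq_inv_iff_mul_eq_one, ← pow_two] at b2
      exact orderOf_eq_one_iff.1 (Nat.eq_one_of_dvd_coprimes (Nat.coprime_two_left.2 hodd)
        (orderOf_dvd_of_pow_eq_one b2) ((Subgroup.orderOf_dvd_natCard _ hx).trans n3)))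
  refine ⟨n3, n7, ⟨_, cx.card_inf_mul, x4 ▸ mul_dvd_mul x3 x5⟩, l1, fun hq => l2 ?_, ?_, fun hK h3 => ?_⟩
  · rw [(aut_cyclic s.sf.isF hq s.sf.card).1]
    exact hp.odd_of_ne_two (by have := s.three; omega)
  · obtain ⟨k, hk, e⟩ := cx.in.exists_index_eq
    obtain ⟨j, hj⟩ := n6
    have b1 := cx.in.half.d_pos
    rw [cx.in.card_H, hj] at b1
    exact ⟨k * j, hk.trans (Nat.le_mul_of_pos_right _ (Nat.pos_of_mul_pos_left b1)), by rw [e, hj]; ring⟩
  subst h3
  have : Fact (Nat.Prime 3) := ⟨hp⟩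
  have p3 : p = 3 := by
    have := s.nontrivial
    have : Finite K := Nat.finite_of_card_ne_zero (by omega)
    have := Fintype.ofFinite K
    have : Fact p.Prime := ⟨cx.prime⟩
    have : CharP K p := (CharP.charP_iff_prime_eq_zero cx.prime).2 ((algebraMap K (End K V)).injective (by
      rw [map_natCast, map_zero, ← map_natCast π, cx.char, map_zero]))
    have b1 := FiniteField.cast_card_eq_zero K
    rw [← Nat.card_eq_fintype_card, hK, CharP.cast_eq_zero_iff K p] at b1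
    exact (Nat.prime_dvd_prime_iff_eq cx.prime hp).1 b1
  have y1 : (N.subgroupOf (H ⊓ F.S)).index = 3 := ((Nat.dvd_prime hp).1 x3).resolve_left fun e =>
    cx.inf_not_comm fun a ha b hb => n5 a (Subgroup.relIndex_eq_one.1 e ha) b (Subgroup.relIndex_eq_one.1 e hb)
  have y2 : H ⊓ F.S ≤ G := inf_le_left.trans cx.H_le
  obtain ⟨y, hy⟩ := exists_prime_orderOf_dvd_card' (G := (H ⊓ F.S).subgroupOf G) 3 (by
    rw [In.card_sub y2, ← x4, y1]
    exact dvd_mul_right _ _)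
  rw [← Subgroup.orderOf_coe] at hy
  have y3 : ∀ x : G, orderOf x = 3 → x.1 ∉ N := fun x hx e => n7 (by
    rw [← hx, ← Subgroup.orderOf_coe]
    exact Subgroup.orderOf_dvd_natCard _ e)
  have y4 : ∀ x a : G, orderOf x = 3 → orderOf (a * x * a⁻¹) = 3 := fun x a hx =>
    (MulEquiv.orderOf_eq (MulAut.conj a) x).trans hx
  have y5 : ({x : G | orderOf x = 3} ∩ (H ⊓ F.S).subgroupOf G).ncard ≤ 2 * Nat.card N := by
    refine (Set.ncard_le_ncard (t := ((H ⊓ F.S).subgroupOf G : Set G) \ (N ⊓ (H ⊓ F.S)).subgroupOf G)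
      fun x hx => ⟨hx.2, fun e => y3 x hx.1 e.1⟩).trans ?_
    rw [Set.ncard_sdiff fun _ hx => hx.2, ← Nat.card_coe_set_eq, ← Nat.card_coe_set_eq, SetLike.coe_sort_coe,
      SetLike.coe_sort_coe, In.card_sub y2, In.card_sub (inf_le_right.trans y2), ← x4, y1,
      ← In.card_sub (inf_le_right (a := N)), Subgroup.inf_subgroupOf_right]
    have := Nat.le_of_dvd Nat.card_pos x5
    omega
  have y6 := cx.lie.as.sigma_set cx.lie.half ({x : G | orderOf x = 3} ∩ (H ⊓ F.S).subgroupOf G)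
    ({x : G | orderOf x = 3} ∩ (H ⊓ F.S).subgroupOf G) (fun _ hx => hx.2.1) (j := 2) (c := 13) (fun g _ => by
      refine le_trans ?_ (cx.lie.half.ncard_le_ncard (s := 3) (by rw [cx.in.card_H, ← p3]; exact cx.not_dvd_d)
        (X := {x : G | orderOf x = 3} ∩ (H ⊓ F.S).subgroupOf G) (R := Subgroup.zpowers y.1) (IsPGroup.of_card (n := 1) (by rw [Nat.card_zpowers, hy, pow_one]))
        (Subgroup.zpowers_le.2 y.2.1) (fun x hx a ha => ⟨y4 x a hx.1, cx.conj_inf ha hx.2⟩) g)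
      exact (sub_one_le_ncard_orderOf hp (by rw [Nat.card_zpowers, hy])).trans
        (Set.ncard_le_ncard fun x hx => ⟨⟨hx.1, Subgroup.zpowers_le.2 y.2 hx.2⟩, hx.2⟩))
    (fun x hx t ht h1 => ⟨by simpa only [_root_.Set.mem_ofPred_eq, _root_.inv_inv] using y4 x t⁻¹ hx.1, h1, F.S.mul_mem (F.S.mul_mem (F.S.inv_mem ht) hx.2.2) ht⟩)
    fun x hx => le_trans (Nat.card_le_card_of_injective
      (fun t => ⟨t.1.1, fun _ e => e ▸ congrArg Subtype.val (t.2.1 x rfl), t.2.2⟩)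
      fun _ _ e => Subtype.ext (Subtype.ext (congrArg (fun z : ↥(Subgroup.centralizer {x.1} ⊓ F.S) => z.1) e)))
      (s.card_cent hK rfl F (x := x.1) hx.2.2 (by rw [← hx.1, ← Subgroup.orderOf_coe, pow_orderOf_eq_one]) (hH _ hx.2.1)
        fun e => y3 x hx.1 ⟨hx.2.1, fix_Zt s.lu e (x1 hx.2)⟩)
  rw [In.card_sub cx.S_le] at y6
  exact y6.trans (Nat.mul_le_mul_right _ (Nat.mul_le_mul y5 y5))

end Sg

end Cfsg.Agent.TH.Cl.Fld
end

-- part: TH/Cl/FldLU/Main
section
/-!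
# S3541, linear and unitary groups: the boxes `BoxFldL`, `BoxFldU` (helper9)
-/

set_option autoImplicit false

namespace Cfsg.Agent.TH.Cl

open Cfsg.Agent.DS.Cl Cfsg.Agent.DS.Cl.Fwd Cfsg.Agent.SB.Cl Cfsg.Agent.SB.C2 Cfsg.Agent.SB.Fld Module

namespace Fld

variable {A : Type} [Ring A] [StarRing A] {K V : Type} [Field K] [AddCommGroup V] [Module K V]
  {π : A →+* End K V} {c η θ : A} {W : Subring A} {r : ℕ}

theorem exists_W [Finite A] {F : FR A} {G H : Subgroup (RingAut A)} {m p : ℕ} (cx : Ctx F G H m p) (h : LU π c η θ)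
    (hF : FldD H) : ∃ (W : Subring A) (r : ℕ), SymF W r ∧ Inv H W := by
  obtain ⟨hI, Z, hZ, h0, hi⟩ := hF
  rcases exists_symF cx.ss cx.le_SAut hI hZ hi with h1 | ⟨W, r, h1, -, h2⟩
  · have h2 : ∀ z ∈ Z, z + star z ∈ Subring.center A := fun z hz =>
      h1 _ (add_mem hz (hZ.2.1 z hz)) (by rw [star_add, star_star, add_comm])
    exact absurd (fun z hz => cen_of_tr h (h2 z hz) (h2 _ (mul_mem (hZ.1 (star_cen h.θ_cen)) hz))) h0
  · exact ⟨W, r, h1, h2⟩

theorem card_img (h : LU π c η θ) {Z X : Subring A} (hZ : ComSub Z) {v : V} (hv : ∀ x, ∃ z ∈ Z, π z v = x) (h1 : X ≤ Z)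
    (h2 : ∀ x ∈ X, π x = 0 → x = 0) (h3 : ∀ z ∈ Z, ∃ x ∈ X, π x = π z) : Nat.card X = Nat.card V := by
  have _ := h
  refine Nat.card_congr (Equiv.ofBijective (fun x : X => π x v) ⟨fun a b (e : π a v = π b v) => Subtype.ext
    (sub_eq_zero.1 (h2 _ (sub_mem a.2 b.2) (LinearMap.ext fun y => ?_))), fun y => ?_⟩)
  · obtain ⟨z, hz, rfl⟩ := hv y
    rw [← End.mul_apply, ← map_mul, hZ.2.2 _ (h1 (sub_mem a.2 b.2)) z hz, map_mul, End.mul_apply, map_sub,
      LinearMap.sub_apply, e, sub_self, map_zero, LinearMap.zero_apply]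
  · obtain ⟨z, hz, rfl⟩ := hv y
    obtain ⟨x, hx, e⟩ := h3 z hz
    exact ⟨⟨x, hx⟩, by rw [← e]⟩

theorem card_scal [Nontrivial V] (h : LU π c η θ) {X : Subring A} (h1 : X ≤ Subring.center A)
    (h2 : ∀ x ∈ X, π x = 0 → x = 0) (h3 : ∀ z ∈ Subring.center A, ∃ x ∈ X, π x = π z) : Nat.card X = Nat.card K := by
  refine Nat.card_congr (Equiv.ofBijective (fun x : X => (h.scal_of (h1 x.2)).choose) ⟨fun a b e => Subtype.ext
    (sub_eq_zero.1 (h2 _ (sub_mem a.2 b.2) ?_)), fun k => ?_⟩)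
  · rw [map_sub, (h.scal_of (h1 a.2)).choose_spec, (h.scal_of (h1 b.2)).choose_spec, show (h.scal_of (h1 a.2)).choose =
      (h.scal_of (h1 b.2)).choose from e, sub_self]
  · obtain ⟨d, hd, e⟩ := h.exists_cen k
    obtain ⟨x, hx, e'⟩ := h3 d hd
    exact ⟨⟨x, hx⟩, smul_left_injective K (one_ne_zero (α := End K V))
      ((h.scal_of (h1 hx)).choose_spec.symm.trans (e'.trans e))⟩

variable [Finite A] [Nontrivial A]

omit [Nontrivial A] in
theorem sg_of [Finite V] (h : LU π c η θ) (hW : SymF W r) (h1 : finrank K V = r) (h3 : 3 ≤ r) {v : V}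
    (hv : ∀ x, ∃ z ∈ Zt W θ, π z v = x) (hE : ∀ z ∈ Zt W θ, π z ≠ 0 → IsUnit (π z)) : Sg π c η θ W r := by
  have : Nontrivial V := Module.nontrivial_of_finrank_pos (R := K) (by omega)
  have : Finite (End K V) := Finite.of_surjective π h.surj
  obtain ⟨y, hy⟩ := exists_ne (0 : V)
  refine ⟨h, hW, maxF_of_card (h.img_field (comSub h hW) hE) hy (Nat.card_le_card_of_surjective
    (fun a => (a : End K V) v) fun x => ?_), h1, h3⟩
  obtain ⟨z, hz, e⟩ := hv x
  exact ⟨⟨_, z, hz, rfl⟩, e⟩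

theorem SymF.mem_of_quad (h : SymF W r) (h3 : 3 ≤ r) {w t n : A} (hw : w ∈ W) (ht : t ∈ C0 A) (hn : n ∈ C0 A)
    (e : w ^ 2 + (t * w + n) = 0) : w ∈ C0 A := by
  let := (isF_of_le h.isF h.le).isField.toField
  let := h.isF.isField.toField
  let : Algebra (C0 A) W := (Subring.inclusion h.le).toAlgebra
  have h4 : finrank (C0 A) W = r := Nat.pow_right_injective (two_le_card (C0 A))
    ((Module.natCard_eq_pow_finrank (K := C0 A) (V := W)).symm.trans h.card)
  have h5 := minpoly.degree_dvd (IsIntegral.of_finite (C0 A) (⟨w, hw⟩ : W))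
  have h6 := Polynomial.natDegree_le_natDegree (minpoly.min (C0 A) (⟨w, hw⟩ : W)
    (p := Polynomial.X ^ 2 + (Polynomial.C ⟨t, ht⟩ * Polynomial.X + Polynomial.C ⟨n, hn⟩))
    (Polynomial.monic_X_pow_add (Polynomial.degree_linear_lt.trans_le (by norm_num))) (Subtype.ext (by simpa only [_root_.map_add, _root_.map_pow, _root_.Polynomial.aeval_X, _root_.SubmonoidClass.mk_pow, _root_.map_mul, _root_.Polynomial.aeval_C, _root_.Subring.coe_add, _root_.Subring.coe_mul, _root_.ZeroMemClass.coe_zero] using by exact e)))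
  have h7 := h6.trans (show _ ≤ 2 by compute_degree)
  rw [h4] at h5
  obtain ⟨x, hx⟩ := minpoly.natDegree_eq_one_iff.1 (((Nat.dvd_prime h.prime).1 h5).resolve_right (by omega))
  rw [← show (x : A) = w from congrArg Subtype.val hx]
  exact x.2

/-- the linear case -/
theorem out_L [Finite V] {F : FR A} {G H : Subgroup (RingAut A)} {m p : ℕ} (cx : Ctx F G H m p) (h : LU π c θ θ)
    (h3 : 3 ≤ finrank K V) (hW : SymF W r) (hH : Inv H W) {v : V} (hv : ∀ x, ∃ z ∈ Zt W θ, π z v = x)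
    (ho : OrdF (Nat.card K) (finrank K V) (Nat.card F.S)) (hq : IsPrimePow (Nat.card K)) : False := by
  have : Nontrivial V := Module.nontrivial_of_finrank_pos (R := K) (by omega)
  have a1 : ∀ a b, π (a + b) = π (a + b * θ) := fun a b => by rw [map_add, map_add, map_mul, h.η_one, mul_one]
  have a2 : ∀ z ∈ Zt W θ, ∃ x ∈ W, π x = π z := fun z hz => by
    obtain ⟨a, ha, b, hb, rfl⟩ := (qd h hW).mem_iff.1 hz
    exact ⟨_, add_mem ha hb, a1 a b⟩
  have a3 := card_img h (comSub h hW) hv le_Zt (fun x hx => h.sep_symm (hW.sym x hx)) a2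
  have a4 := card_scal h (X := C0 A) (fun _ hx => hx.1) (fun x hx => h.sep_symm hx.2) fun z hz => by
    obtain ⟨a, ha, b, hb, rfl⟩ := cen_rep h hz
    exact ⟨_, add_mem ha hb, a1 a b⟩
  have a5 : finrank K V = r := Nat.pow_right_injective hq.two_le (by
    change _ ^ _ = _ ^ _
    rw [← Module.natCard_eq_pow_finrank, ← a3, hW.card, a4])
  rw [a5] at ho h3
  have s := sg_of h hW a5 h3 hv fun z hz h0 => by
    obtain ⟨x, hx, e⟩ := a2 z hz
    exact e ▸ (hW.isF.isUnit hx fun e' => h0 (by rw [← e, e', map_zero])).map π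
  refine Out.not_L (a4 ▸ s.out cx hH (fun u hu h1 => ?_) (odd_mm _ (hW.prime.odd_of_ne_two (by omega)))
    (ho.sq_dvd hW.prime h3)) ho hq hW.prime h3
  obtain ⟨w, hw, e⟩ := a2 u hu
  have b1 : IsUnit w := hW.isF.isUnit hw fun e' => by
    have b1 := congrArg π h1
    rw [map_mul, ← e, e', map_zero, zero_mul, map_one] at b1
    exact zero_ne_one b1
  have b2 : mm (Nat.card (C0 A)) r * Nat.card (C0 A) + 1 = mm (Nat.card (C0 A)) r + Nat.card W := by
    have b2 := mm_mul (Nat.card (C0 A)) r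
    have b3 := two_le_card (C0 A)
    have b4 := two_le_card W
    rw [← Nat.cast_pow, ← hW.card, show ((Nat.card (C0 A) : ℤ) - 1).natAbs = Nat.card (C0 A) - 1 by omega,
      Nat.mul_sub_one] at b2
    have b5 := Nat.le_mul_of_pos_right (mm (Nat.card (C0 A)) r) (show 0 < Nat.card (C0 A) by omega)
    omega
  have b3 := mem_of_pow hW.isF hW.le (pow_mem hw (mm (Nat.card (C0 A)) r)) (b1.mul_right_cancel (by
    rw [← pow_mul, ← pow_succ, b2, pow_add, pow_card hW.isF hw]))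
  obtain ⟨k, hk⟩ := h.scal_of b3.1
  refine cen_of_scal h ?_ (k := k) (by rw [← hk, map_pow, map_pow, e, a4])
  rw [star_pow, ← Commute.mul_pow ((comSub h hW).2.2 _ hu _ ((comSub h hW).2.1 _ hu)), h1, one_pow]

/-- the unitary case -/
theorem out_U [Finite V] {F : FR A} {G H : Subgroup (RingAut A)} {m p q : ℕ} (cx : Ctx F G H m p) (h : LU π c η θ)
    (hπ : ∀ x, π x = 0 → x = 0) (h3 : 3 ≤ finrank K V) (hW : SymF W r) (hH : Inv H W) {v : V}
    (hv : ∀ x, ∃ z ∈ Zt W θ, π z v = x) (hK : Nat.card K = q ^ 2) (ho : OrdF (-q) (finrank K V) (Nat.card F.S))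
    (hne : ¬ (finrank K V = 3 ∧ q = 2)) : False := by
  have : Nontrivial V := Module.nontrivial_of_finrank_pos (R := K) (by omega)
  have hZ := comSub h hW
  have hq := qd h hW
  have a1 : Qd (C0 A) θ := ⟨isF_C0 cx.ss, fun _ hx => hx.2, fun x _ => cen_comm h.θ_cen x,
    ⟨add_mem h.θ_cen (star_cen h.θ_cen), by rw [star_add, star_star, add_comm]⟩,
    ⟨mul_mem h.θ_cen (star_cen h.θ_cen), by rw [star_mul, star_star]⟩, h.θ_unit⟩
  have a2 : Zt (C0 A) θ = Subring.center A := le_antisymm (Zt_le (W := C0 A) (fun _ hx => hx.1) h.θ_cen)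
    fun _ hx => a1.mem_iff.2 (cen_rep h hx)
  have a3 := card_img h hZ hv le_rfl (fun x _ => hπ x) fun z hz => ⟨z, hz, rfl⟩
  have a4 := card_scal h le_rfl (fun x _ => hπ x) fun z hz => ⟨z, hz, rfl⟩
  have a5 : Nat.card (C0 A) = q := Nat.pow_left_injective two_ne_zero (by
    change _ ^ _ = _ ^ _
    rw [← a1.card_eq, a2, a4, hK])
  have a6 := a5 ▸ two_le_card (C0 A)
  have a7 : finrank K V = r := Nat.pow_right_injective (show 2 ≤ q ^ 2 by nlinarith only [a6]) (by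
    change _ ^ _ = _ ^ _
    rw [← hK, ← Module.natCard_eq_pow_finrank, ← a3, hq.card_eq, hW.card, a5, hK, ← pow_mul, ← pow_mul, mul_comm])
  rw [a7] at ho h3 hne
  have a8 : IsF (Zt W θ) := ⟨hq.mul_comm, fun z hz h0 => by
    by_cases h1 : star z * z = 0
    swap
    · obtain ⟨y, hy, -, e⟩ := hq.exists_inv hz h1
      exact ⟨y, hy, e⟩
    exfalso
    obtain ⟨a, ha, b, hb, rfl⟩ := hq.mem_iff.1 hz
    obtain ⟨b', hb', e⟩ := hW.isF.inv b hb fun e => h0 (by
      rw [e, zero_mul, add_zero] at h1 ⊢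
      by_contra h2
      rw [hW.sym a ha] at h1
      exact h2 ((hW.isF.isUnit ha h2).mul_right_eq_zero.1 h1))
    have b1 : a + b * θ = b * (b' * a + θ) := by rw [mul_add, ← mul_assoc, e, one_mul]
    have b2 := mul_mem hb' ha
    generalize b' * a = w at b1 b2
    have b3 : w + θ ∈ Zt W θ := add_mem (le_Zt b2) self_mem_Zt
    have b4 := hW.isF.isUnit hb fun e' => by
      rw [e', zero_mul] at e
      exact zero_ne_one e
    rw [b1, star_mul, hW.sym b hb, hq.mul_comm _ (hq.star_mem _ b3) _ (le_Zt hb), mul_assoc, b4.mul_right_eq_zero,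
      hq.mul_comm _ (le_Zt hb) _ b3, ← mul_assoc, b4.mul_left_eq_zero] at h1
    have b5 := hW.mem_of_quad h3 b2 a1.tr a1.nm (by
      rw [← h1, star_add, hW.sym w b2, ← cen_comm h.θ_cen (star θ), add_mul, add_mul, mul_add, mul_add,
        cen_comm h.θ_cen w, pow_two]
      abel)
    obtain ⟨k, hk⟩ := h.scal_of (add_mem b5.1 h.θ_cen)
    have b6 := congrArg π h1
    rw [map_mul, hk, map_zero, mul_smul_comm, mul_one, smul_eq_zero] at b6
    have b7 : w + θ = 0 := b6.elim (fun e => hπ _ (by rw [hk, e, zero_smul])) fun e => star_eq_zero.1 (hπ _ e)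
    rw [b1, b7, mul_zero] at h0
    exact h0 rfl⟩
  have s := sg_of h hW a7 h3 hv fun z hz h0 => (a8.isUnit hz fun e => h0 (by rw [e, map_zero])).map π
  have a9 := hW.prime.odd_of_ne_two (by omega)
  refine Out.not_U (a5 ▸ s.out cx hH (fun u hu h1 => ?_) (odd_mm _ a9) (ho.sq_dvd hW.prime h3)) ho (by omega) hW.prime h3
  have : Fact p.Prime := ⟨cx.prime⟩
  have : CharP A p := (CharP.charP_iff_prime_eq_zero cx.prime).2 cx.char
  obtain ⟨k, -, hk⟩ := exists_card_prime hW.isF cx.prime cx.char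
  have b0 := hq.star_mem u hu
  have b1 : Commute u (star u) := hq.mul_comm _ hu _ b0
  have b2 : u ^ Nat.card W + star (u ^ Nat.card W) = u + star u := by
    rw [star_pow, ← pow_card hW.isF (hq.trace_mem hu), hk, add_pow_char_pow_of_commute p k b1]
  have b3 : u ^ Nat.card W * star (u ^ Nat.card W) = 1 := by rw [star_pow, ← b1.mul_pow, h1, one_pow]
  have b4 : u ^ Nat.card W = star u := by
    by_cases e : u ^ Nat.card W = u
    · rw [e, hW.sym u (mem_of_pow a8 le_Zt hu e)]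
    have b4 := pow_mem hu (Nat.card W)
    generalize u ^ Nat.card W = y at b2 b3 b4 e
    refine sub_eq_zero.1 ((a8.isUnit (sub_mem b4 hu) (sub_ne_zero.2 e)).mul_right_eq_zero.1 ?_)
    rw [show (y - u) * (y - star u) = y * y - y * star u - u * y + u * star u by noncomm_ring, hq.mul_comm _ hu _ b4,
      sub_sub, ← mul_add, add_comm (star u), ← b2, h1, mul_add, b3]
    abel
  have b5 : mm (-(Nat.card (C0 A) : ℤ)) r * (Nat.card (C0 A) + 1) = Nat.card W + 1 := by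
    have b5 := mm_mul (-(Nat.card (C0 A) : ℤ)) r
    rwa [a9.neg_pow, ← Nat.cast_pow, ← hW.card, show (-(Nat.card (C0 A) : ℤ) - 1).natAbs = Nat.card (C0 A) + 1 by omega,
      show (-(Nat.card W : ℤ) - 1).natAbs = Nat.card W + 1 by omega] at b5
  refine mem_of_pow a8 hZ.1 (pow_mem hu _) ?_
  rw [a4, hK, ← a5, show Nat.card (C0 A) ^ 2 = (Nat.card (C0 A) + 1) * (Nat.card (C0 A) - 1) + 1 by
    obtain ⟨j, hj⟩ : ∃ j, Nat.card (C0 A) = j + 1 := ⟨Nat.card (C0 A) - 1, by omega⟩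
    rw [hj, Nat.add_sub_cancel]
    ring, pow_succ, pow_mul, ← pow_mul u, b5, pow_succ' u, b4, h1, one_pow, one_mul]

end Fld

open Fld

theorem boxFldL : BoxFldL := by
  intro K _ _ n F G H m p k cx hF
  have h := luL (n := n) (K := K)
  have : Finite (LR (Fin n) K) := inferInstanceAs (Finite (_ × _))
  have := cx.ss.nontrivial
  have h3 : 3 ≤ finrank K (Fin n → K) := by simpa only [_root_.Module.finrank_fintype_fun_eq_card, _root_.Fintype.card_fin] using k.dim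
  obtain ⟨W, r, hW, hH⟩ := exists_W cx h hF
  let i : Fin n := ⟨0, by have := k.dim; omega⟩
  obtain ⟨v, hv⟩ := span cx h h3 hW hH hF.1 (ρ₀ := LR.mk (Matrix.single i i 1) (Matrix.single i i 1))
    (by rw [LR.star_mk, Matrix.transpose_single]) (v₀ := Pi.single i 1) (f₀ := LinearMap.proj i)
    (LinearMap.ext fun w => by
      rw [prL_apply, Matrix.toLinAlgEquiv'_apply]
      change (Matrix.single i i (1 : K)).mulVec w = w i • (Pi.single i 1 : Fin n → K)
      rw [Matrix.single_mulVec, one_mul]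
      funext j
      by_cases hj : j = i
      · subst hj; simp
      · simp [hj]) (by simp)
  refine out_L cx h h3 hW hH hv ?_ (Nat.card_eq_fintype_card (α := K) ▸ FiniteField.isPrimePow_card K)
  obtain ⟨e⟩ := k.iso
  have h1 := H616.ExtPSL.card_eq (F := K) (n := n) (by have := k.dim; omega)
  have h2 : ∀ j, ((Fintype.card K : ℤ) ^ j - 1).natAbs = Fintype.card K ^ j - 1 := fun j => by
    have := Nat.one_le_pow j _ (Fintype.card_pos (α := K))
    rw [← Nat.cast_pow]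
    omega
  have h4 := h2 1
  rw [pow_one, pow_one] at h4
  simp only [OrdF, Nat.card_congr e.toEquiv, finrank_fin_fun, Nat.card_eq_fintype_card (α := K), h2, h4,
    Int.natAbs_natCast, h1]

theorem boxFldU : BoxFldU := by
  intro K V _ _ _ _ _ f F q G H m p k cx hF
  obtain ⟨hε, θ, hθ⟩ := k.u
  have h := luU f hθ
  have : Finite f.EB := Finite.of_injective (fun a => (f.ap a : V → V)) fun _ _ e => f.ap_ext (congrFun e)
  have := cx.ss.nontrivial
  have : Nontrivial V := Module.nontrivial_of_finrank_pos (R := K) (by have := k.dim; omega)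
  obtain ⟨W, r, hW, hH⟩ := exists_W cx h hF
  obtain ⟨y, hy⟩ : ∃ y, f.b y y ≠ 0 := by
    by_contra hc
    push Not at hc
    obtain ⟨v, hv⟩ := exists_ne (0 : V)
    obtain ⟨u, hu⟩ := f.exists_ne hv
    have h1 := hc (u + v)
    have h2 := hc (θ • u + v)
    simp only [f.add_left, f.add_right, f.smul_left, f.smul_right, hc, mul_zero, zero_add, add_zero] at h1 h2
    exact mul_ne_zero (sub_ne_zero.2 hθ) hu (by linear_combination f.τ θ * h1 - h2)
  obtain ⟨v, hv⟩ := span cx h k.dim hW hH hF.1 (ρ₀ := f.eb (f.ro y y)) (f.ap_ext fun x => f.ext_right fun u => by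
    rw [f.b_star, f.ap_eb, f.ro_apply, f.ro_apply, f.smul_left, f.smul_right, f.swap x y, hε, one_mul, mul_comm])
    (v₀ := y) (f₀ := f.lin y) rfl hy
  refine out_U cx h (fun _ e => e) k.dim hW hH hv (by rw [Nat.card_eq_fintype_card, k.card]) ?_ k.ne
  obtain ⟨e⟩ := k.iso
  have h1 := H616.ExtPSU.card_eq k.dim k.card
  have h0 : 0 < q := Nat.pos_of_ne_zero fun e => by
    have := k.card
    rw [e] at this
    exact Fintype.card_ne_zero this
  have h2 : ∀ j, ((-q : ℤ) ^ j - 1).natAbs = if Even j then q ^ j - 1 else q ^ j + 1 := fun j => by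
    have := Nat.one_le_pow j _ h0
    split_ifs with h3
    · rw [h3.neg_pow, ← Nat.cast_pow]
      omega
    · rw [(Nat.not_even_iff_odd.1 h3).neg_pow, ← Nat.cast_pow]
      omega
  simp only [OrdF, Nat.card_congr e.toEquiv, h2, show (-q - 1 : ℤ).natAbs = q + 1 by omega, Int.natAbs_neg,
    Int.natAbs_natCast, h1]

end Cfsg.Agent.TH.Cl
end

private theorem dce_991ba7fb4967 : _root_.True := by
  try have : _root_.True := by simp only [_root_.Cfsg.Agent.TH.Cl.Fld.hs.eq_1]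
  try have : _root_.True := by simp only [_root_.Cfsg.Agent.TH.Cl.Fld.OrdF.eq_1]
  try have : _root_.True := by simp only [_root_.Cfsg.Agent.TH.Cl.Fld.mm.eq_1]
  exact _root_.True.intro
end

-- part: TH/Cl/Ext/TwoA
section
prune_inst 0x2520044001621200000005125020014404000590002004009c820640020653000882014045801814120a03010001000000100020400000000000000000010020880800040000010c06008f801083180c00000000000000000000000000051004000000000
set_option linter.all false
open scoped Cfsg.Agent.FastGrp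

-- part: TH/Cl/Ext/Base
section
/-!
# S3541, box `Ext`: the ring as a twisted group ring (helper58)

`ad a` is the conjugation by `a`, `Lf N a` says that `a` is a unitary lift of an element of `N`.
-/

set_option autoImplicit false
set_option linter.unusedSectionVars false

namespace Cfsg.Agent.TH.Cl.Ext

open Cfsg.Agent.DS.Cl Cfsg.Agent.DS.Cl.Fwd Cfsg.Agent.SB.Cl
open scoped commutatorElement

variable {A : Type} [Ring A] [StarRing A]

/-- unitary elements -/
def Un (a : A) : Prop := a * star a = 1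

open Classical in
/-- the conjugation by `a` -/
noncomputable def ad (a : A) : RingAut A := if h : IsUnit a then DS.Cl.cj A h.unit else 1

omit [StarRing A] in
theorem ad_val (u : Aˣ) : ad (u : A) = DS.Cl.cj A u := by
  rw [ad, dif_pos u.isUnit, IsUnit.unit_of_val_units]

omit [StarRing A] in
theorem ad_one : ad (1 : A) = 1 := by rw [← Units.val_one, ad_val, map_one]

omit [StarRing A] in
theorem ad_mul' {a b : A} (ha : IsUnit a) (hb : IsUnit b) : ad (a * b) = ad a * ad b := by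
  obtain ⟨u, rfl⟩ := ha
  obtain ⟨v, rfl⟩ := hb
  rw [← Units.val_mul, ad_val, ad_val, ad_val, map_mul]

omit [StarRing A] in
theorem conj_ad' (γ : RingAut A) {a : A} (ha : IsUnit a) : γ * ad a * γ⁻¹ = ad (γ a) := by
  obtain ⟨u, rfl⟩ := ha
  rw [ad_val, conj_cj, ← ad_val]
  rfl

omit [StarRing A] in
theorem ad_cen {c : A} (hc : c ∈ Subring.center A) : ad c = 1 := by
  by_cases h : IsUnit c
  · obtain ⟨u, rfl⟩ := h
    rw [ad_val, cj_eq_one_iff.2 hc]
  · rw [ad, dif_neg h]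

theorem Un.one : Un (1 : A) := by simp [Un]

theorem Un.mul {a b : A} (ha : Un a) (hb : Un b) : Un (a * b) := by
  rw [Un, star_mul, mul_assoc, ← mul_assoc b, show b * star b = 1 from hb, one_mul, show a * star a = 1 from ha]

theorem Un.neg {a : A} (ha : Un a) : Un (-a) := by rw [Un, star_neg, neg_mul_neg]; exact ha

theorem Un.pow {a : A} (ha : Un a) (k : ℕ) : Un (a ^ k) := by
  induction k with
  | zero => rw [pow_zero]; exact Un.one
  | succ k ih => rw [pow_succ]; exact ih.mul ha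

theorem Un.map {a : A} (ha : Un a) {γ : RingAut A} (hγ : γ ∈ SAut A) : Un (γ a) := by
  rw [Un, ← hγ, ← map_mul, show a * star a = 1 from ha, map_one]

variable [Finite A]

theorem Un.ms {a : A} (ha : Un a) : a * star a = 1 := ha

theorem Un.sm {a : A} (ha : Un a) : star a * a = 1 := mul_eq_one_comm.1 ha

theorem Un.st {a : A} (ha : Un a) : Un (star a) := by rw [Un, star_star, ha.sm]

theorem Un.isUnit {a : A} (ha : Un a) : IsUnit a := ⟨mkU a ha, rfl⟩

theorem Un.star_eq {a b : A} (ha : Un a) (h : a * b = 1) : star a = b := by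
  rw [← mul_one (star a), ← h, ← mul_assoc, ha.sm, one_mul]

theorem Un.cancel {a x y : A} (ha : Un a) (h : a * x = a * y) : x = y := ha.isUnit.mul_left_cancel h

theorem Un.cancel' {a x y : A} (ha : Un a) (h : x * a = y * a) : x = y := ha.isUnit.mul_right_cancel h

theorem ad_mul {a b : A} (ha : Un a) (hb : Un b) : ad (a * b) = ad a * ad b := ad_mul' ha.isUnit hb.isUnit

theorem ad_apply {a : A} (ha : Un a) (x : A) : ad a x = a * x * star a := by
  rw [show ad a = DS.Cl.cj A (mkU a ha) from ad_val (mkU a ha), cj_apply]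
  rfl

theorem ad_star {a : A} (ha : Un a) : ad (star a) = (ad a)⁻¹ := by
  rw [eq_inv_iff_mul_eq_one, ← ad_mul ha.st ha, ha.sm, ad_one]

theorem ad_pow {a : A} (ha : Un a) (k : ℕ) : ad (a ^ k) = ad a ^ k := by
  induction k with
  | zero => rw [pow_zero, pow_zero, ad_one]
  | succ k ih => rw [pow_succ, pow_succ, ad_mul (ha.pow k) ha, ih]

theorem ad_neg {a : A} (ha : Un a) : ad (-a) = ad a := by
  rw [← neg_one_mul, ad_mul Un.one.neg ha, ad_cen (Subring.neg_mem _ (Subring.one_mem _)), one_mul]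

theorem conj_ad (γ : RingAut A) {a : A} (ha : Un a) : γ * ad a * γ⁻¹ = ad (γ a) := conj_ad' γ ha.isUnit

theorem ad_eq_one_iff {a : A} (ha : Un a) : ad a = 1 ↔ a ∈ Subring.center A := by
  rw [show ad a = DS.Cl.cj A (mkU a ha) from ad_val (mkU a ha), cj_eq_one_iff]
  rfl

theorem ad_eq_iff {a b : A} (ha : Un a) (hb : Un b) :
    ad a = ad b ↔ ∃ c ∈ Subring.center A, Un c ∧ a = c * b := by
  constructor
  · intro h
    refine ⟨a * star b, (ad_eq_one_iff (ha.mul hb.st)).1 ?_, ha.mul hb.st, by rw [mul_assoc, hb.sm, mul_one]⟩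
    rw [ad_mul ha hb.st, ad_star hb, h, mul_inv_cancel]
  · rintro ⟨c, hc, hc', rfl⟩
    rw [ad_mul hc' hb, ad_cen hc, one_mul]

theorem ad_fix {a x : A} (ha : Un a) : ad a x = x ↔ a * x = x * a := by
  rw [ad_apply ha]
  constructor
  · intro h
    rw [← h, mul_assoc _ (star a), ha.sm, mul_one, h]
  · intro h
    rw [h, mul_assoc, ha.ms, mul_one]

theorem exists_of_PI {F : FR A} {γ : RingAut A} (h : γ ∈ F.PI) : ∃ a, Un a ∧ ad a = γ := by
  obtain ⟨u, hu, rfl⟩ := h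
  exact ⟨u, hu.1, ad_val u⟩

/-- the unitary lifts of the elements of `N` -/
def Lf (N : Subgroup (RingAut A)) (a : A) : Prop := Un a ∧ ad a ∈ N

namespace Lf

variable {N : Subgroup (RingAut A)}

theorem mul {a b : A} (ha : Lf N a) (hb : Lf N b) : Lf N (a * b) :=
  ⟨ha.1.mul hb.1, by rw [ad_mul ha.1 hb.1]; exact N.mul_mem ha.2 hb.2⟩

theorem st {a : A} (ha : Lf N a) : Lf N (star a) := ⟨ha.1.st, by rw [ad_star ha.1]; exact N.inv_mem ha.2⟩

theorem cen {c : A} (hc : c ∈ Subring.center A) (h : Un c) : Lf N c := ⟨h, by rw [ad_cen hc]; exact N.one_mem⟩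

theorem one : Lf N (1 : A) := cen (Subring.one_mem _) Un.one

theorem neg {a : A} (ha : Lf N a) : Lf N (-a) := ⟨ha.1.neg, by rw [ad_neg ha.1]; exact ha.2⟩

theorem pow {a : A} (ha : Lf N a) (k : ℕ) : Lf N (a ^ k) := ⟨ha.1.pow k, by rw [ad_pow ha.1]; exact N.pow_mem ha.2 k⟩

theorem map {a : A} (ha : Lf N a) {γ : RingAut A} (hγ : γ ∈ SAut A) (h : ∀ x ∈ N, γ * x * γ⁻¹ ∈ N) : Lf N (γ a) :=
  ⟨ha.1.map hγ, by rw [← conj_ad γ ha.1]; exact h _ ha.2⟩

end Lf

/-- `g` normalises the lifts -/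
def Nm (N : Subgroup (RingAut A)) (g : A) : Prop := ∀ u, Lf N u → ∃ v, Lf N v ∧ g * u = v * g

theorem Nm.mul {N : Subgroup (RingAut A)} {g g' : A} (h : Nm N g) (h' : Nm N g') : Nm N (g * g') := fun u hu => by
  obtain ⟨v, hv, e⟩ := h' u hu
  obtain ⟨w, hw, e'⟩ := h v hv
  exact ⟨w, hw, by rw [mul_assoc, e, ← mul_assoc, e', mul_assoc]⟩

theorem Nm.cen {N : Subgroup (RingAut A)} {c : A} (hc : c ∈ Subring.center A) : Nm N c := fun u hu =>
  ⟨u, hu, (cen_comm hc u).symm⟩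

/-- the standing hypotheses on `N` -/
structure Sit (F : FR A) (N : Subgroup (RingAut A)) (r : ℕ) : Prop where
  ss : SS A
  le : N ≤ F.S
  ne : N ≠ ⊥
  comm : ∀ x ∈ N, ∀ y ∈ N, x * y = y * x
  prime : r.Prime
  exp : ∀ x ∈ N, x ^ r = 1
  sp : DS.Cl.Ext.Sp F N

namespace Sit

variable {F : FR A} {N : Subgroup (RingAut A)} {r : ℕ} (σ : Sit F N r)
include σ

theorem le_PI : N ≤ F.PI := σ.le.trans F.S_le_PI

theorem sty : DS.Cl.Ext.Sty (DS.Cl.Ext.Uh F N) r := DS.Cl.Ext.sty_of σ.ss σ.le_PI σ.ne σ.comm σ.prime σ.exp σ.sp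

theorem L_eq : F.L = Lmax A := DS.Cl.Ext.L_eq σ.ss σ.sty

theorem mem_Iso {a : A} (ha : Un a) : mkU a ha ∈ F.Iso := mem_Iso_max σ.L_eq ha

theorem mem_PI {a : A} (ha : Un a) : ad a ∈ F.PI := ⟨mkU a ha, σ.mem_Iso ha, (ad_val (mkU a ha)).symm⟩

/-- commutators of unitary elements -/
theorem comm_mem {a b : A} (ha : Un a) (hb : Un b) : ad (a * b * star a * star b) ∈ F.S := by
  rw [ad_mul ((ha.mul hb).mul ha.st) hb.st, ad_mul (ha.mul hb) ha.st, ad_mul ha hb, ad_star ha, ad_star hb, F.S_eq]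
  exact Subgroup.commutator_mem_commutator (σ.mem_PI ha) (σ.mem_PI hb)

theorem exists_lf {ν : RingAut A} (h : ν ∈ N) : ∃ a, Lf N a ∧ ad a = ν := by
  obtain ⟨a, ha, rfl⟩ := exists_of_PI (σ.le_PI h)
  exact ⟨a, ⟨ha, h⟩, rfl⟩

theorem isPGroup : IsPGroup r N := fun x => ⟨1, Subtype.ext (by rw [pow_one]; exact σ.exp _ x.2)⟩

theorem ind {P : A → Prop} (h1 : ∀ c ∈ Subring.center A, ∀ u, Lf N u → P (c * u)) (h2 : ∀ a b, P a → P b → P (a + b))
    (a : A) : P a :=
  σ.sp.ind (fun c hc u => h1 c hc _ ⟨u.2.2.1, by rw [ad_val]; exact u.2.1⟩) h2 a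

/-- an element commuting with all lifts is central -/
theorem cen_of {a : A} (h : ∀ u, Lf N u → u * a = a * u) : a ∈ Subring.center A := by
  rw [Subring.mem_center_iff]
  refine σ.ind (fun c hc u hu => ?_) fun x y hx hy => by rw [add_mul, mul_add, hx, hy]
  rw [mul_assoc, h u hu, ← mul_assoc, ← mul_assoc, cen_comm hc]

theorem pow_cen {u : A} (hu : Lf N u) : u ^ r ∈ Subring.center A :=
  (ad_eq_one_iff (hu.1.pow r)).1 (by rw [ad_pow hu.1]; exact σ.exp _ hu.2)

/-- lifts commute up to roots of unity -/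
theorem exists_kap {u v : A} (hu : Lf N u) (hv : Lf N v) :
    ∃ κ ∈ Subring.center A, Un κ ∧ κ ^ r = 1 ∧ u * v = κ * (v * u) := by
  obtain ⟨κ, h1, h2, h3⟩ := (ad_eq_iff (hu.1.mul hv.1) (hv.1.mul hu.1)).1 (by
    rw [ad_mul hu.1 hv.1, ad_mul hv.1 hu.1]; exact σ.comm _ hu.2 _ hv.2)
  refine ⟨κ, h1, h2, ?_, h3⟩
  have h4 : ∀ k : ℕ, u * v ^ k = κ ^ k * (v ^ k * u) := by
    intro k
    induction k with
    | zero => simp
    | succ k ih =>
      rw [pow_succ, ← mul_assoc, ih, mul_assoc, mul_assoc, h3, ← mul_assoc (v ^ k), cen_comm h1, pow_succ]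
      simp only [mul_assoc]
  have h5 := h4 r
  rw [cen_comm (σ.pow_cen hv)] at h5
  exact (((hv.1.pow r).mul hu.1).cancel' (by rw [← h5, one_mul])).symm

theorem nm_lf {u : A} (hu : Lf N u) : Nm N u := fun v hv => by
  obtain ⟨κ, h1, h2, -, h3⟩ := σ.exists_kap hu hv
  exact ⟨κ * v, (Lf.cen h1 h2).mul hv, by rw [h3, mul_assoc]⟩

theorem norm_of_nm {g : A} (hg : Un g) (h : Nm N g) : ∀ x ∈ N, ad g * x * (ad g)⁻¹ ∈ N := by
  intro x hx
  obtain ⟨u, hu, rfl⟩ := σ.exists_lf hx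
  obtain ⟨v, hv, e⟩ := h u hu
  rw [conj_ad _ hu.1, ad_apply hg, e, mul_assoc, hg.ms, mul_one]
  exact hv.2

theorem lf_of_norm {g : A} (hg : Un g) (h : ∀ x ∈ N, ad g * x * (ad g)⁻¹ ∈ N) {u : A} (hu : Lf N u) :
    Lf N (g * u * star g) := by
  rw [← ad_apply hg]
  exact hu.map (F.Aut_le_SAut (F.PI_le_Aut (σ.mem_PI hg))) h

theorem sub_unit {κ κ' : A} (h1 : κ ∈ Subring.center A) (h2 : Un κ) (h1' : κ' ∈ Subring.center A) (h2' : Un κ')
    (h : κ ≠ κ') : IsUnit (κ - κ') := by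
  have e : κ - κ' = (κ * star κ' - 1) * κ' := by rw [sub_mul, mul_assoc, h2'.sm, mul_one, one_mul]
  rw [e]
  refine (DS.Cl.Ext.isUnit_sub_one σ.ss (Subring.mul_mem _ h1 (star_cen h1')) (h2.mul h2'.st) fun h3 => h ?_).mul
    h2'.isUnit
  rw [← mul_one κ, ← h2'.sm, ← mul_assoc, h3, one_mul]

/-- **coordinates** -/
theorem exists_co [Fintype N] : ∃ (s : N → A) (co : A ≃+ (N → Subring.center A)), (∀ ν, Lf N (s ν)) ∧
    (∀ ν, ad (s ν) = ν) ∧ ∀ a : A, ∑ ν, (co a ν : A) * s ν = a := by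
  classical
  choose s hs hs' using fun ν : N => σ.exists_lf ν.2
  let s' : N → DS.Cl.Ext.Nh F N := fun ν => ⟨mkU _ (hs ν).1, by
    refine ⟨?_, σ.mem_Iso _⟩
    change DS.Cl.cj A _ ∈ N
    rw [← ad_val]
    exact (hs ν).2⟩
  have hi : ∀ i j, s' i * (s' j)⁻¹ ∈ DS.Cl.Ext.Uh F N → i = j := by
    intro i j hij
    have h1 : s i * star (s j) ∈ Subring.center A := hij
    rw [← ad_eq_one_iff ((hs i).1.mul (hs j).1.st), ad_mul (hs i).1 (hs j).1.st, ad_star (hs j).1, hs', hs',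
      mul_inv_eq_one] at h1
    exact Subtype.ext h1
  let Φ : (N → Subring.center A) →+ A := AddMonoidHom.mk' (fun g => ∑ i, (g i : A) * s i) fun g g' => by
    rw [← Finset.sum_add_distrib]
    refine Finset.sum_congr rfl fun i _ => ?_
    rw [← add_mul]
    rfl
  have hb : Function.Bijective Φ := by
    constructor
    · rw [injective_iff_map_eq_zero]
      intro g hg
      funext i
      exact Subtype.ext (DS.Cl.Ext.indep σ.ss σ.sty s' hi Finset.univ (fun i => g i) (fun i => (g i).2) hg i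
        (Finset.mem_univ i))
    · refine σ.ind (fun c hc u hu => ?_) ?_
      · obtain ⟨d, hd, -, e⟩ := (ad_eq_iff hu.1 (hs ⟨_, hu.2⟩).1).1 (hs' ⟨_, hu.2⟩).symm
        refine ⟨Pi.single ⟨_, hu.2⟩ ⟨c * d, Subring.mul_mem _ hc hd⟩, ?_⟩
        change ∑ i, _ = _
        rw [Finset.sum_eq_single (⟨_, hu.2⟩ : N) (fun i _ hi => by rw [Pi.single_eq_of_ne hi]; simp only [_root_.ZeroMemClass.coe_zero, _root_.MulZeroClass.zero_mul]) (by simp only [_root_.Finset.mem_univ, _root_.not_true_eq_false, _root_.Pi.single_eq_same, _root_.IsEmpty.forall_iff]),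
          Pi.single_eq_same, mul_assoc, ← e]
      · rintro _ _ ⟨g, rfl⟩ ⟨g', rfl⟩
        exact ⟨g + g', map_add _ _ _⟩
  exact ⟨s, (AddEquiv.ofBijective Φ hb).symm, hs, hs', fun a => (AddEquiv.ofBijective Φ hb).apply_symm_apply a⟩

end Sit

end Cfsg.Agent.TH.Cl.Ext
end

-- part: TH/Cl/Ext/Fix
section
/-!
# S3541, box `Ext`: centralisers of the elements normalising `N` (helper58)
-/

set_option autoImplicit false
set_option linter.unusedSectionVars false

namespace Cfsg.Agent.TH.Cl.Ext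

open Cfsg.Agent.DS.Cl Cfsg.Agent.DS.Cl.Fwd Cfsg.Agent.SB.Cl

/-- the action of a cyclic group -/
@[reducible] def cycAct {X : Type*} (π : Equiv.Perm X) (m : ℕ) [NeZero m] (h : π ^ m = 1) :
    MulAction (Multiplicative (ZMod m)) X where
  smul k x := (π ^ (Multiplicative.toAdd k).val) x
  one_smul x := by
    change (π ^ (0 : ZMod m).val) x = x
    rw [ZMod.val_zero, pow_zero]
    rfl
  mul_smul k l x := by
    change (π ^ (Multiplicative.toAdd k + Multiplicative.toAdd l).val) x = (π ^ _ * π ^ _) x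
    rw [ZMod.val_add, ← pow_eq_pow_mod _ h, pow_add]

/-- representatives of the orbits of a permutation -/
theorem burnside {X : Type*} [Finite X] (π : Equiv.Perm X) {m : ℕ} (hm : m ≠ 0) (h : π ^ m = 1) :
    ∃ R : Finset X, (∀ x, ∃ k : ℕ, (π ^ k) x ∈ R) ∧
      R.card * m = ∑ k ∈ Finset.range m, Nat.card {x // (π ^ k) x = x} := by
  classical
  obtain ⟨n, rfl⟩ := Nat.exists_eq_succ_of_ne_zero hm
  let _ := cycAct π (n + 1) h
  let _ : Fintype X := Fintype.ofFinite X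
  let _ : Fintype (Quotient (MulAction.orbitRel (Multiplicative (ZMod (n + 1))) X)) := Fintype.ofFinite _
  have h1 := MulAction.sum_card_fixedBy_eq_card_orbits_mul_card_group (Multiplicative (ZMod (n + 1))) X
  refine ⟨Finset.univ.image fun ω : Quotient (MulAction.orbitRel (Multiplicative (ZMod (n + 1))) X) => ω.out,
    fun x => ?_, ?_⟩
  · obtain ⟨g, hg⟩ : (Quotient.mk (MulAction.orbitRel (Multiplicative (ZMod (n + 1))) X) x).out ∈
        MulAction.orbit (Multiplicative (ZMod (n + 1))) x := Quotient.mk_out (s := MulAction.orbitRel _ X) x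
    exact ⟨(Multiplicative.toAdd g).val, Finset.mem_image.2 ⟨_, Finset.mem_univ _, hg.symm⟩⟩
  · rw [Finset.card_image_of_injective _ Quotient.out_injective, Finset.card_univ]
    rw [Fintype.card_multiplicative, ZMod.card] at h1
    rw [← h1, ← Fin.sum_univ_eq_sum_range (fun k => Nat.card {x // (π ^ k) x = x}) (n + 1)]
    let e : Multiplicative (ZMod (n + 1)) ≃ Fin (n + 1) := Equiv.refl _
    refine Fintype.sum_equiv e _ _ fun g => ?_
    rw [← Nat.card_eq_fintype_card]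
    rfl

theorem card_mul_le {Γ : Type*} [Group Γ] [Finite Γ] {r : ℕ} (hr : r.Prime) {N K : Subgroup Γ} (hN : IsPGroup r N)
    (hK : K ≤ N) (hne : ¬ N ≤ K) : Nat.card K * r ≤ Nat.card N := by
  have : Fact r.Prime := ⟨hr⟩
  obtain ⟨k, hk⟩ := hN.index (K.subgroupOf N)
  have h1 : k ≠ 0 := by
    rintro rfl
    rw [pow_zero, Subgroup.index_eq_one, Subgroup.subgroupOf_eq_top] at hk
    exact hne hk
  rw [← (K.subgroupOf N).card_mul_index, In.card_sub hK, hk]
  exact Nat.mul_le_mul_left _ (Nat.le_self_pow h1 r)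

variable {A : Type} [Ring A] [StarRing A] [Finite A]

/-- the centraliser of a ring element -/
abbrev Fx (x : A) : Type := {a : A // x * a = a * x}

/-- the elements of `N` commuting with `γ` -/
abbrev cN (N : Subgroup (RingAut A)) (γ : RingAut A) : Subgroup (RingAut A) := N ⊓ Subgroup.centralizer {γ}

theorem mem_cN {N : Subgroup (RingAut A)} {γ x : RingAut A} : x ∈ cN N γ ↔ x ∈ N ∧ γ * x = x * γ := by
  rw [Subgroup.mem_inf, Subgroup.mem_centralizer_singleton_iff, eq_comm]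

theorem card_Fx {x y : A} (hx : Un x) (hy : Un y) (g : RingAut A) (h : ad y = g * ad x * g⁻¹) :
    Nat.card (Fx y) = Nat.card (Fx x) := by
  refine (Nat.card_congr (Equiv.subtypeEquiv g.toEquiv fun a => ?_)).symm
  rw [← ad_fix hx, ← ad_fix hy, h]
  change _ ↔ g (ad x (g⁻¹ (g a))) = g a
  rw [ra_inv_apply, g.injective.eq_iff]

namespace Sit

variable {F : FR A} {N : Subgroup (RingAut A)} {r : ℕ} (σ : Sit F N r)

section co

variable [Fintype N] {s : N → A} {co : A ≃+ (N → Subring.center A)} (hs : ∀ ν, Lf N (s ν)) (hs' : ∀ ν, ad (s ν) = ν)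
  (hc : ∀ a : A, ∑ ν, (co a ν : A) * s ν = a)
include hc

theorem co_sum (g : N → Subring.center A) : co (∑ ν, (g ν : A) * s ν) = g := by
  have h := hc (co.symm g)
  rw [co.apply_symm_apply] at h
  rw [h, co.apply_symm_apply]

theorem co_smul (c : Subring.center A) (a : A) (ν : N) : co (c * a) ν = c * co a ν := by
  have h : (c : A) * a = ∑ ν, ((c * co a ν : Subring.center A) : A) * s ν := by
    conv_lhs => rw [← hc a, Finset.mul_sum]
    exact Finset.sum_congr rfl fun ν _ => by rw [Subring.coe_mul, mul_assoc]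
  rw [h, co_sum hc]

theorem co_conj {x : A} (π : Equiv.Perm N) (lam : N → Subring.center A)
    (h : ∀ ν, x * s ν * star x = lam ν * s (π ν)) (a : A) (ν : N) : co (x * a * star x) (π ν) = lam ν * co a ν := by
  have h1 : x * a * star x = ∑ μ, ((lam (π.symm μ) * co a (π.symm μ) : Subring.center A) : A) * s μ := by
    rw [← Equiv.sum_comp π]
    conv_lhs => rw [← hc a, Finset.mul_sum, Finset.sum_mul]
    refine Finset.sum_congr rfl fun ν _ => ?_
    rw [π.symm_apply_apply, ← mul_assoc x, cen_comm (co a ν).2, mul_assoc, mul_assoc, ← mul_assoc x, h, ← mul_assoc,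
      mul_comm (lam ν)]
    rfl
  rw [h1, co_sum hc, π.symm_apply_apply]

theorem card_Fx_le {x : A} (R : Finset N) (h : ∀ a, x * a = a * x → (∀ ν ∈ R, co a ν = 0) → ∀ ν, co a ν = 0) :
    Nat.card (Fx x) ≤ Nat.card (Subring.center A) ^ R.card := by
  rw [← Fintype.card_coe, ← Nat.card_eq_fintype_card, ← Nat.card_fun]
  refine Nat.card_le_card_of_injective (fun a : Fx x => fun ν : R => co a ν) fun a b hab => Subtype.ext ?_
  have h1 := h (a - b) (by rw [mul_sub, sub_mul, a.2, b.2]) fun ν hν => by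
    rw [map_sub, Pi.sub_apply, sub_eq_zero]
    exact congrFun hab ⟨ν, hν⟩
  rw [← sub_eq_zero, ← co.map_eq_zero_iff]
  exact funext h1

omit hc in
include hs hs' in
theorem exists_lam {u : A} (hu : Lf N u) {ν : N} (h : ad u = ν) :
    ∃ lam : Subring.center A, Un (lam : A) ∧ u = lam * s ν := by
  obtain ⟨c, h1, h2, h3⟩ := (ad_eq_iff hu.1 (hs ν).1).1 (h.trans (hs' ν).symm)
  exact ⟨⟨c, h1⟩, h2, h3⟩

end co

include σ

theorem card_eq : Nat.card A = Nat.card (Subring.center A) ^ Nat.card N := by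
  let _ : Fintype N := Fintype.ofFinite _
  obtain ⟨s, co, -⟩ := σ.exists_co
  rw [Nat.card_congr co.toEquiv, Nat.card_fun]

theorem two_le : 2 ≤ Nat.card (Subring.center A) := by
  have := σ.ss.nontrivial
  exact Finite.one_lt_card

/-- **`N` is self-centralising** -/
theorem cent {x : A} (hx : Un x) (h : ∀ ν ∈ N, ad x * ν = ν * ad x) : ad x ∈ N := by
  have := σ.ss.nontrivial
  let _ : Fintype N := Fintype.ofFinite _
  obtain ⟨s, co, hs, hs', hc⟩ := σ.exists_co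
  obtain ⟨μ, hμ⟩ : ∃ μ, co x μ ≠ 0 := by
    by_contra h0
    push Not at h0
    exact hx.isUnit.ne_zero (co.map_eq_zero_iff.1 (funext h0))
  have key : ∀ u, Lf N u → u * (x * star (s μ)) = x * star (s μ) * u := by
    intro u hu
    have h1 : ∀ ν, ∃ lam : Subring.center A, Un (lam : A) ∧ u * s ν * star u = lam * s ν := fun ν =>
      exists_lam hs hs' ((hu.mul (hs ν)).mul hu.st) (by
        rw [ad_mul (hu.1.mul (hs ν).1) hu.1.st, ad_mul hu.1 (hs ν).1, ad_star hu.1, hs', σ.comm _ hu.2 _ ν.2,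
          mul_inv_cancel_right])
    choose lam h1 h2 using h1
    obtain ⟨χ, h3, h4, h5⟩ := (ad_eq_iff ((hu.1.mul hx).mul hu.1.st) hx).1 (by
      rw [ad_mul (hu.1.mul hx) hu.1.st, ad_mul hu.1 hx, ad_star hu.1, ← h _ hu.2, mul_inv_cancel_right])
    have h6 := co_conj hc 1 lam h2 x μ
    rw [h5, co_smul hc ⟨χ, h3⟩] at h6
    have h7 : χ = lam μ := by
      by_contra hne
      refine hμ (Subtype.ext ((σ.sub_unit h3 h4 (lam μ).2 (h1 μ) hne).mul_right_eq_zero.1 ?_))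
      rw [sub_mul, sub_eq_zero]
      exact congrArg Subtype.val h6
    have h8 : u * x = χ * (x * u) := by rw [← mul_assoc, ← h5, mul_assoc _ _ u, hu.1.sm, mul_one]
    have h9 : u * s μ = χ * (s μ * u) := by rw [← mul_assoc, h7, ← h2, mul_assoc _ _ u, hu.1.sm, mul_one]
    refine (hs μ).1.cancel' ?_
    rw [mul_assoc, mul_assoc, (hs μ).1.sm, mul_one, mul_assoc, h9, ← mul_assoc _ χ, cen_comm h3, h8, mul_assoc,
      mul_assoc x, ← mul_assoc (star _), (hs μ).1.sm, one_mul]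
  have h1 := ad_cen (σ.cen_of key)
  rw [ad_mul hx (hs μ).1.st, ad_star (hs μ).1, mul_inv_eq_one] at h1
  rw [h1]
  exact (hs μ).2

/-- the centraliser of a lift -/
theorem fx_lf {u : A} (hu : Lf N u) (hne : ad u ≠ 1) :
    ∃ t, Nat.card (Fx u) ≤ Nat.card (Subring.center A) ^ t ∧ t * r ≤ Nat.card N := by
  classical
  let _ : Fintype N := Fintype.ofFinite _
  obtain ⟨s, co, hs, hs', hc⟩ := σ.exists_co
  let K : Subgroup (RingAut A) :=
    { carrier := {ν | ν ∈ N ∧ ν u = u}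
      mul_mem' := fun ha hb => ⟨N.mul_mem ha.1 hb.1, by rw [ra_mul, hb.2, ha.2]⟩
      one_mem' := ⟨N.one_mem, rfl⟩
      inv_mem' := fun {a} ha => ⟨N.inv_mem ha.1, by conv_lhs => rw [← ha.2, ra_inv_apply]⟩ }
  have h1 : ∀ ν, ∃ lam : Subring.center A, Un (lam : A) ∧ u * s ν * star u = lam * s ν := fun ν =>
    exists_lam hs hs' ((hu.mul (hs ν)).mul hu.st) (by
      rw [ad_mul (hu.1.mul (hs ν).1) hu.1.st, ad_mul hu.1 (hs ν).1, ad_star hu.1, hs', σ.comm _ hu.2 _ ν.2,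
        mul_inv_cancel_right])
  choose lam h1 h2 using h1
  refine ⟨_, card_Fx_le hc (Finset.univ.filter fun ν : N => (ν : RingAut A) ∈ K) fun a ha h0 ν => ?_, ?_⟩
  · by_cases hν : (lam ν : A) = 1
    · refine h0 ν (Finset.mem_filter.2 ⟨Finset.mem_univ _, ν.2, ?_⟩)
      have h3 := h2 ν
      rw [hν, one_mul, ← ad_apply hu.1, ad_fix hu.1] at h3
      rw [← hs', ad_fix (hs ν).1, h3]
    · have h6 := co_conj hc 1 lam h2 a ν
      rw [ha, mul_assoc, hu.1.ms, mul_one] at h6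
      refine Subtype.ext ((σ.sub_unit (lam ν).2 (h1 ν) (Subring.one_mem _) Un.one hν).mul_right_eq_zero.1 ?_)
      rw [sub_mul, sub_eq_zero, one_mul]
      exact (congrArg Subtype.val h6).symm
  · refine le_trans (le_of_eq ?_) (card_mul_le σ.prime σ.isPGroup (K := K) (fun _ h => h.1) fun h => hne ?_)
    · rw [← Fintype.card_subtype, ← Nat.card_eq_fintype_card, ← In.card_sub (G := N) (Y := K) fun _ h => h.1]
      rfl
    · refine ad_cen (σ.cen_of fun v hv => ?_)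
      rw [← ad_fix hv.1]
      exact (h hv.2).2

/-- the centraliser of an element normalising `N` -/
theorem fx_nm {x : A} (hx : Un x) (hn : ∀ ν ∈ N, ad x * ν * (ad x)⁻¹ ∈ N) {m : ℕ} (hm : m ≠ 0) (h : ad x ^ m = 1) :
    ∃ t, Nat.card (Fx x) ≤ Nat.card (Subring.center A) ^ t ∧
      t * m = ∑ k ∈ Finset.range m, Nat.card (cN N (ad x ^ k)) := by
  classical
  let _ : Fintype N := Fintype.ofFinite _
  obtain ⟨s, co, hs, hs', hc⟩ := σ.exists_co
  let π : Equiv.Perm N := Equiv.ofBijective (fun ν : N => ⟨_, hn _ ν.2⟩) (Finite.injective_iff_bijective.1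
    fun a b hab => Subtype.ext (mul_left_cancel (mul_right_cancel (congrArg Subtype.val hab))))
  have hπ : ∀ (k : ℕ) (ν : N), (((π ^ k) ν : N) : RingAut A) = ad x ^ k * ν * (ad x ^ k)⁻¹ := by
    intro k
    induction k with
    | zero => intro ν; simp
    | succ k ih =>
      intro ν
      rw [pow_succ', Equiv.Perm.mul_apply]
      change ad x * ((π ^ k) ν : N) * (ad x)⁻¹ = _
      rw [ih, pow_succ']
      group
  obtain ⟨R, h1, h2⟩ := burnside π hm (Equiv.ext fun ν => Subtype.ext (by rw [hπ, h]; simp))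
  have h3 : ∀ ν, ∃ lam : Subring.center A, Un (lam : A) ∧ x * s ν * star x = lam * s (π ν) := fun ν =>
    exists_lam hs hs' (σ.lf_of_norm hx hn (hs ν)) (by
      rw [ad_mul (hx.mul (hs ν).1) hx.st, ad_mul hx (hs ν).1, ad_star hx, hs']
      rfl)
  choose lam h3 h4 using h3
  refine ⟨_, card_Fx_le hc R fun a ha h0 ν => ?_, h2.trans (Finset.sum_congr rfl fun k _ => ?_)⟩
  · have h5 : ∀ ν, co a (π ν) = 0 → co a ν = 0 := fun ν hν => by
      have h6 := co_conj hc π lam h4 a ν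
      rw [ha, mul_assoc, hx.ms, mul_one, hν] at h6
      exact Subtype.ext ((h3 ν).isUnit.mul_right_eq_zero.1 (congrArg Subtype.val h6).symm)
    obtain ⟨k, hk⟩ := h1 ν
    have h7 := h0 _ hk
    clear hk
    induction k with
    | zero => exact h7
    | succ k ih => exact ih (h5 _ (by rw [pow_succ'] at h7; exact h7))
  · rw [← In.card_sub (G := N) (Y := cN N (ad x ^ k)) inf_le_left]
    refine Nat.card_congr (Equiv.subtypeEquivRight fun ν => ?_)
    rw [Subgroup.mem_subgroupOf, mem_cN, Subtype.ext_iff, hπ, mul_inv_eq_iff_eq_mul, and_iff_right ν.2]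

/-- elements of order `r` -/
theorem fx_r {x : A} (hx : Un x) (hn : ∀ ν ∈ N, ad x * ν * (ad x)⁻¹ ∈ N) (h : ad x ^ r = 1) (hne : ad x ≠ 1) :
    ∃ t, Nat.card (Fx x) ≤ Nat.card (Subring.center A) ^ t ∧ t * r ^ 2 ≤ Nat.card N * (2 * r - 1) := by
  have hr := σ.prime.two_le
  by_cases h1 : ad x ∈ N
  · obtain ⟨t, h2, h3⟩ := σ.fx_lf ⟨hx, h1⟩ hne
    refine ⟨t, h2, ?_⟩
    rw [pow_two, ← mul_assoc]
    exact Nat.mul_le_mul h3 (by omega)
  obtain ⟨t, h2, h3⟩ := σ.fx_nm hx hn σ.prime.ne_zero h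
  refine ⟨t, h2, ?_⟩
  obtain ⟨n, rfl⟩ : ∃ n, r = n + 1 := ⟨r - 1, by omega⟩
  rw [Finset.sum_range_succ', pow_zero] at h3
  have h4 : Nat.card (cN N 1) ≤ Nat.card N := Subgroup.card_le_of_le inf_le_left
  have h5 : ∀ k ∈ Finset.range n, Nat.card (cN N (ad x ^ (k + 1))) * (n + 1) ≤ Nat.card N := by
    intro k hk
    refine card_mul_le σ.prime σ.isPGroup inf_le_left fun h6 => h1 (σ.cent hx fun ν hν => ?_)
    have h7 : Nat.Coprime (k + 1) (orderOf (ad x)) :=
      (Nat.coprime_of_lt_prime (by omega) (by simpa using hk) σ.prime).symm.coprime_dvd_right (orderOf_dvd_of_pow_eq_one h)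
    obtain ⟨j, hj⟩ := exists_pow_eq_self_of_coprime h7
    have h8 : Commute (ad x ^ (k + 1)) ν := (mem_cN.1 (h6 hν)).2
    rw [← hj]
    exact h8.pow_left j
  have h6 := Finset.sum_le_sum h5
  rw [← Finset.sum_mul, Finset.sum_const, Finset.card_range, smul_eq_mul] at h6
  rw [pow_two, ← mul_assoc, h3, show 2 * (n + 1) - 1 = n + (n + 1) by omega, add_mul, mul_add (Nat.card N),
    mul_comm (Nat.card N) n]
  exact Nat.add_le_add h6 (Nat.mul_le_mul_right _ h4)

end Sit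

/-- elements of order four -/
theorem Sit.fx_four {F : FR A} {N : Subgroup (RingAut A)} (σ : Sit F N 2) {x : A} (hx : Un x)
    (hn : ∀ ν ∈ N, ad x * ν * (ad x)⁻¹ ∈ N) (h : ad x ^ 4 = 1) (hne : ad x ^ 2 ≠ 1) :
    ∃ t, Nat.card (Fx x) ≤ Nat.card (Subring.center A) ^ t ∧ t * 2 ≤ Nat.card N := by
  by_cases h1 : ad x ^ 2 ∈ N
  · obtain ⟨t, h2, h3⟩ := σ.fx_lf (u := x ^ 2) ⟨hx.pow 2, by rwa [ad_pow hx]⟩ (by rwa [ad_pow hx])
    refine ⟨t, le_trans (Nat.card_le_card_of_injective (fun a : Fx x => (⟨a, ?_⟩ : Fx (x ^ 2))) ?_) h2, h3⟩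
    · exact (show Commute x a from a.2).pow_left 2
    · exact fun a b hab => Subtype.ext (congrArg (fun z : Fx (x ^ 2) => (z : A)) hab)
  obtain ⟨t, h2, h3⟩ := σ.fx_nm hx hn (by norm_num) h
  refine ⟨t, h2, ?_⟩
  have h4 : ¬ N ≤ cN N (ad x ^ 2) := fun h6 => h1 (by
    rw [← ad_pow hx] at h6 ⊢
    exact σ.cent (hx.pow 2) fun ν hν => (mem_cN.1 (h6 hν)).2)
  have h5 : Nat.card (cN N (ad x ^ 2)) * 2 ≤ Nat.card N := card_mul_le σ.prime σ.isPGroup inf_le_left h4
  have h6 : cN N (ad x) ≤ cN N (ad x ^ 2) := fun ν hν =>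
    mem_cN.2 ⟨hν.1, (show Commute (ad x) ν from (mem_cN.1 hν).2).pow_left 2⟩
  have h7 : ¬ cN N (ad x ^ 2) ≤ cN N (ad x) ∨ Nat.card (cN N (ad x ^ 2)) * 4 ≤ Nat.card N := by
    by_contra hc
    rw [not_or, not_not] at hc
    obtain ⟨ν, hν, hν'⟩ := SetLike.not_le_iff_exists.1 h4
    have h8 := hn ν hν
    have h9 : ν⁻¹ * (ad x * ν * (ad x)⁻¹) ∈ cN N (ad x) := by
      refine hc.1 ?_
      by_contra h10
      have h11 : (cN N (ad x ^ 2)).relIndex N * Nat.card (cN N (ad x ^ 2)) = Nat.card N := by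
        rw [← In.card_sub (G := N) (Y := cN N (ad x ^ 2)) inf_le_left]
        exact Subgroup.index_mul_card _
      have : Fact (Nat.Prime 2) := ⟨σ.prime⟩
      obtain ⟨k, hk⟩ := σ.isPGroup.index ((cN N (ad x ^ 2)).subgroupOf N)
      have h12 : (cN N (ad x ^ 2)).relIndex N = 2 := by
        change (cN N (ad x ^ 2)).relIndex N = _ at hk
        rw [hk] at h11 ⊢
        rcases k with _ | _ | k
        · have : 0 < Nat.card (cN N (ad x ^ 2)) := Nat.card_pos
          omega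
        · rfl
        · refine absurd ?_ hc.2
          rw [← h11, mul_comm]
          exact Nat.mul_le_mul_right _ (by
            have : 0 < 2 ^ k := Nat.pos_of_ne_zero (by simp)
            rw [pow_succ, pow_succ]; omega)
      have h13 := (Subgroup.mul_mem_iff_of_index_two h12 (a := ⟨ν⁻¹, N.inv_mem hν⟩) (b := ⟨_, h8⟩)).2 (by
        rw [Subgroup.mem_subgroupOf, Subgroup.mem_subgroupOf, Subgroup.coe_mk, Subgroup.coe_mk, inv_mem_iff]
        refine iff_of_false hν' fun h14 => hν' (mem_cN.2 ⟨hν, ?_⟩)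
        have h15 := (mem_cN.1 h14).2
        calc ad x ^ 2 * ν = (ad x)⁻¹ * (ad x ^ 2 * (ad x * ν * (ad x)⁻¹)) * ad x := by group
          _ = ν * ad x ^ 2 := by rw [h15]; group)
      exact h10 h13
    refine hν' (mem_cN.2 ⟨hν, ?_⟩)
    have h10 := (mem_cN.1 h9).2
    have h11 := σ.exp _ h9.1
    generalize hw : ν⁻¹ * (ad x * ν * (ad x)⁻¹) = w at h10 h11
    have h12 : ad x * ν = ν * w * ad x := by rw [← hw]; group
    rw [pow_two, mul_assoc, h12, ← mul_assoc, ← mul_assoc, h12, mul_assoc _ _ w, h10, ← mul_assoc, mul_assoc ν,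
      ← pow_two, h11, mul_one, mul_assoc]
  have h8 : Nat.card (cN N (ad x)) * 4 ≤ Nat.card N := by
    rcases h7 with h7 | h7
    · have : Nat.card (cN N (ad x)) * 2 ≤ Nat.card (cN N (ad x ^ 2)) :=
        card_mul_le σ.prime (σ.isPGroup.to_le inf_le_left) h6 h7
      omega
    · have := Subgroup.card_le_of_le h6
      omega
  have h9 : cN N (ad x ^ 3) ≤ cN N (ad x) := fun ν hν => mem_cN.2 ⟨hν.1, by
    have e : ad x = (ad x ^ 3) ^ 3 := by rw [← pow_mul, show 3 * 3 = 4 * 2 + 1 from rfl, pow_succ, pow_mul, h]; simp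
    rw [e]
    exact (show Commute (ad x ^ 3) ν from (mem_cN.1 hν).2).pow_left 3⟩
  have h10 := Subgroup.card_le_of_le h9
  have h11 : Nat.card (cN N 1) ≤ Nat.card N := Subgroup.card_le_of_le inf_le_left
  simp only [Finset.sum_range_succ, Finset.range_zero, Finset.sum_empty, pow_zero, pow_one] at h3
  omega

end Cfsg.Agent.TH.Cl.Ext
end

-- part: TH/Cl/Ext/Frame
section
/-!
# S3541, box `Ext`: frames of conjugate idempotents, the context (helper58)
-/

set_option autoImplicit false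
set_option linter.unusedSectionVars false

namespace Cfsg.Agent.TH.Cl.Ext

open Cfsg.Agent.DS.Cl Cfsg.Agent.DS.Cl.Fwd Cfsg.Agent.SB.Cl

variable {A : Type} [Ring A] [StarRing A] [Finite A]

/-- orthogonal symmetric idempotents with sum one, conjugate under the unitary group -/
structure Fm {ι : Type} [Fintype ι] (e : ι → A) : Prop where
  idem : ∀ i, e i * e i = e i
  orth : ∀ i j, i ≠ j → e i * e j = 0
  sum : ∑ i, e i = 1
  symm : ∀ i, star (e i) = e i
  conj : ∀ i j, ∃ u, Un u ∧ u * e i = e j * u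

namespace Fm

variable {ι κ : Type} [Fintype ι] [Fintype κ] {e : ι → A} (h : Fm e)
include h

theorem eq_zero {c : A} (hc : c ∈ Subring.center A) {i : ι} (h0 : c * e i = 0) : c = 0 := by
  rw [← mul_one c, ← h.sum, Finset.mul_sum]
  refine Finset.sum_eq_zero fun j _ => ?_
  obtain ⟨u, hu, h1⟩ := h.conj i j
  refine hu.cancel' ?_
  rw [mul_assoc, ← h1, ← mul_assoc, ← cen_comm hc, mul_assoc, h0, mul_zero, zero_mul]

theorem pow_le (x : A) (R : Finset (ι × ι))
    (hR : ∀ q ∈ R, ∃ c ∈ Subring.center A, x * e q.1 = c * e q.1 ∧ e q.2 * x = c * e q.2) (o : ι) :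
    Nat.card A ^ R.card ≤ Nat.card (Fx x) ^ (Fintype.card ι ^ 2) := by
  classical
  choose u hu hu' using h.conj o
  have hs : ∀ i, e o * star (u i) = star (u i) * e i := fun i => by
    have := congrArg star (hu' i)
    rwa [star_mul, star_mul, h.symm, h.symm] at this
  have h1 : Nat.card A ≤ Nat.card {a : A // e o * a * e o = a} ^ (Fintype.card ι ^ 2) := by
    rw [pow_two, ← Fintype.card_prod, ← Nat.card_eq_fintype_card, ← Nat.card_fun]
    refine Nat.card_le_card_of_injective (fun a => fun q : ι × ι =>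
      (⟨star (u q.1) * (e q.1 * a * e q.2) * u q.2, ?_⟩ : {a : A // e o * a * e o = a})) fun a b hab => ?_
    · rw [← mul_assoc, ← mul_assoc, hs, mul_assoc, hu']
      simp only [← mul_assoc, mul_assoc _ (e q.1) (e q.1), mul_assoc _ (e q.2) (e q.2), h.idem]
    · have h2 : ∀ a : A, a = ∑ i, ∑ j, e i * a * e j := fun a => by
        simp only [← Finset.mul_sum, ← Finset.sum_mul, h.sum, one_mul, mul_one]
      rw [h2 a, h2 b]
      refine Finset.sum_congr rfl fun i _ => Finset.sum_congr rfl fun j _ => ?_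
      exact (hu i).st.cancel ((hu j).cancel' (congrArg Subtype.val (congrFun hab (i, j))))
  have h2 : Nat.card {a : A // e o * a * e o = a} ^ R.card ≤ Nat.card (Fx x) := by
    rw [← Fintype.card_coe, ← Nat.card_eq_fintype_card, ← Nat.card_fun]
    have h3 : ∀ (i j : ι) (b : {a : A // e o * a * e o = a}),
        u i * b * star (u j) = e i * (u i * b * star (u j)) * e j := fun i j b => by
      conv_lhs => rw [← b.2]
      rw [← mul_assoc, ← mul_assoc, hu', mul_assoc _ (e o), hs]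
      simp only [mul_assoc]
    refine Nat.card_le_card_of_injective (fun g : R → {a : A // e o * a * e o = a} =>
      (⟨∑ q : R, u q.1.1 * g q * star (u q.1.2), ?_⟩ : Fx x)) fun g g' hg => funext fun q => Subtype.ext ?_
    · rw [Finset.mul_sum, Finset.sum_mul]
      refine Finset.sum_congr rfl fun q _ => ?_
      obtain ⟨c, h4, h5, h6⟩ := hR _ q.2
      rw [h3, mul_assoc _ _ x, h6, ← mul_assoc x, ← mul_assoc x, h5, ← mul_assoc _ c, cen_comm h4]
      simp only [mul_assoc]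
    · have h4 : ∀ g : R → {a : A // e o * a * e o = a},
          e q.1.1 * (∑ q : R, u q.1.1 * g q * star (u q.1.2)) * e q.1.2 = u q.1.1 * g q * star (u q.1.2) := fun g => by
        rw [Finset.mul_sum, Finset.sum_mul, Finset.sum_eq_single q (fun q' _ hq => ?_) (by simp only [_root_.Finset.univ_eq_attach, _root_.Finset.mem_attach, _root_.not_true_eq_false, _root_.IsEmpty.forall_iff]), ← h3]
        rw [h3]
        by_cases h5 : q.1.1 = q'.1.1
        · have h6 : q'.1.2 ≠ q.1.2 := fun h6 => hq (Subtype.ext (Prod.ext h5.symm h6))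
          rw [mul_assoc, mul_assoc, h.orth _ _ h6, mul_zero, mul_zero]
        · rw [← mul_assoc, ← mul_assoc, h.orth _ _ h5, zero_mul, zero_mul, zero_mul]
      have h5 := h4 g
      rw [show ∑ q : R, u q.1.1 * g q * star (u q.1.2) = ∑ q : R, u q.1.1 * g' q * star (u q.1.2) from
        congrArg Subtype.val hg, h4] at h5
      exact ((hu _).cancel ((hu _).st.cancel' h5)).symm
  calc _ ≤ (Nat.card {a : A // e o * a * e o = a} ^ (Fintype.card ι ^ 2)) ^ R.card := Nat.pow_le_pow_left h1 _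
    _ = (Nat.card {a : A // e o * a * e o = a} ^ R.card) ^ (Fintype.card ι ^ 2) := by rw [← pow_mul, ← pow_mul, mul_comm]
    _ ≤ _ := Nat.pow_le_pow_left h2 _

theorem bound {F : FR A} {N : Subgroup (RingAut A)} {r : ℕ} (σ : Sit F N r) {x : A} (R : Finset (ι × ι))
    (hR : ∀ q ∈ R, ∃ c ∈ Subring.center A, x * e q.1 = c * e q.1 ∧ e q.2 * x = c * e q.2) (o : ι) {t : ℕ}
    (ht : Nat.card (Fx x) ≤ Nat.card (Subring.center A) ^ t) : Nat.card N * R.card ≤ t * Fintype.card ι ^ 2 := by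
  have h1 := (h.pow_le x R hR o).trans (Nat.pow_le_pow_left ht _)
  rw [σ.card_eq, ← pow_mul, ← pow_mul] at h1
  exact (Nat.pow_le_pow_iff_right σ.two_le).1 h1

theorem prod {f : κ → A} (h' : Fm f) (hc : ∀ i j, e i * f j = f j * e i)
    (h1 : ∀ i i', ∃ u, Un u ∧ u * e i = e i' * u ∧ ∀ j, u * f j = f j * u)
    (h2 : ∀ j j', ∃ u, Un u ∧ u * f j = f j' * u ∧ ∀ i, u * e i = e i * u) : Fm fun q : ι × κ => e q.1 * f q.2 := by
  have h3 : ∀ i j i' j', e i * f j * (e i' * f j') = e i * e i' * (f j * f j') := fun i j i' j' => by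
    rw [mul_assoc, ← mul_assoc (f j), ← hc, mul_assoc, mul_assoc]
  refine ⟨fun q => by rw [h3, h.idem, h'.idem], fun q q' hq => ?_, ?_, fun q => by rw [star_mul, h.symm, h'.symm, hc],
    fun q q' => ?_⟩
  · rw [h3]
    by_cases h4 : q.1 = q'.1
    · rw [h'.orth _ _ fun h5 => hq (Prod.ext h4 h5), mul_zero]
    · rw [h.orth _ _ h4, zero_mul]
  · rw [Fintype.sum_prod_type]
    simp only [← Finset.mul_sum, h'.sum, mul_one, h.sum]
  · obtain ⟨u, a1, a2, a3⟩ := h1 q.1 q'.1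
    obtain ⟨v, b1, b2, b3⟩ := h2 q.2 q'.2
    refine ⟨u * v, a1.mul b1, ?_⟩
    rw [mul_assoc, ← mul_assoc v, b3, mul_assoc, b2, ← mul_assoc, a2, mul_assoc, ← mul_assoc u, a3]
    simp only [mul_assoc]

end Fm

/-! ### The eigenprojections of a lift -/

/-- the projection to the fixed space of `w` -/
def pr (ρ : A) (r : ℕ) (w : A) : A := ρ * ∑ k ∈ Finset.range r, w ^ k

section pr

variable {ρ w : A} {r : ℕ} (hρ : ρ ∈ Subring.center A)
include hρ

theorem comm_pr {u w' : A} (h : u * w = w' * u) : u * pr ρ r w = pr ρ r w' * u := by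
  rw [pr, pr, ← mul_assoc, cen_comm hρ, mul_assoc, mul_assoc, Finset.mul_sum, Finset.sum_mul]
  exact congrArg _ (Finset.sum_congr rfl fun k _ => (show SemiconjBy u w w' from h).pow_right k)

theorem mul_pr (hw : w ^ r = 1) : w * pr ρ r w = pr ρ r w := by
  have h := mul_geom_sum w r
  rw [hw, sub_self, sub_mul, one_mul, sub_eq_zero] at h
  rw [pr, ← mul_assoc, cen_comm hρ, mul_assoc, h]

theorem pr_mul_of (h1 : ρ * r = 1) {x : A} (h : w * x = x) : pr ρ r w * x = x := by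
  have h2 : ∀ k : ℕ, w ^ k * x = x := fun k => by
    induction k with
    | zero => rw [pow_zero, one_mul]
    | succ k ih => rw [pow_succ, mul_assoc, h, ih]
  rw [pr, mul_assoc, Finset.sum_mul]
  simp only [h2]
  rw [Finset.sum_const, Finset.card_range, nsmul_eq_mul, ← mul_assoc, h1, one_mul]

theorem star_pr (h1 : ρ * r = 1) (hu : Un w) (hw : w ^ r = 1) : star (pr ρ r w) = pr ρ r w := by
  have h2 : star ρ = ρ := by
    have h3 := congrArg star h1
    rw [star_mul, star_natCast, star_one] at h3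
    rw [← one_mul (star ρ), ← h1, mul_assoc, h3, mul_one]
  have h3 : star (pr ρ r w) = pr ρ r (star w) := by
    rw [pr, pr, star_mul, h2, cen_comm hρ, star_sum]
    simp only [star_pow]
  have h4 : star (pr ρ r w) * pr ρ r w = pr ρ r w := by
    rw [h3]
    refine pr_mul_of hρ h1 (hu.cancel ?_)
    rw [← mul_assoc, hu.ms, one_mul, mul_pr hρ hw]
  rw [← h4, star_mul, star_star]

end pr

namespace Sit

variable {F : FR A} {N : Subgroup (RingAut A)} {r : ℕ} (σ : Sit F N r)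
include σ

theorem pow_ne {ζ : A} (h3 : ζ ^ r = 1) (h4 : ζ ≠ 1) {i j : ℕ} (hi : i < r) (hj : j < r) (h1 : ζ ^ i = ζ ^ j) : i = j := by
  have : Fact r.Prime := ⟨σ.prime⟩
  have h2 := orderOf_eq_prime h3 h4
  exact pow_injOn_Iio_orderOf (by rw [h2]; exact hi) (by rw [h2]; exact hj) h1

theorem sum_pr {ρ ζ : A} (hρ' : ρ * r = 1) (h1 : ζ ∈ Subring.center A) (h2 : Un ζ) (h3 : ζ ^ r = 1) (h4 : ζ ≠ 1)
    (z : A) : ∑ i : Fin r, pr ρ r (ζ ^ (i : ℕ) * z) = 1 := by
  have hc : ∀ i : ℕ, ζ ^ i ∈ Subring.center A := fun i => Subring.pow_mem _ h1 i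
  have hp : ∀ i k : ℕ, (ζ ^ i * z) ^ k = (ζ ^ i) ^ k * z ^ k := fun i k =>
    Commute.mul_pow (cen_comm (hc i) z).symm k
  simp only [pr, hp, ← Finset.mul_sum]
  rw [Finset.sum_comm]
  simp only [← Finset.sum_mul]
  rw [Finset.sum_eq_single 0 (fun k hk h0 => ?_) (by simp only [σ.prime.ne_zero, _root_.Finset.mem_range, _root_.not_lt, _root_.nonpos_iff_eq_zero, _root_.pow_zero, _root_.Finset.sum_const, _root_.Finset.card_univ, _root_.Fintype.card_fin, _root_.nsmul_eq_mul, _root_.mul_one, _root_.IsEmpty.forall_iff])]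
  · simpa only [_root_.pow_zero, _root_.Finset.sum_const, _root_.Finset.card_univ, _root_.Fintype.card_fin, _root_.nsmul_eq_mul, _root_.mul_one] using hρ'
  · have h7 := σ.sub_unit (hc k) (h2.pow k) (Subring.one_mem _) Un.one fun h8 =>
      h0 (σ.pow_ne h3 h4 (Finset.mem_range.1 hk) σ.prime.pos (by rw [h8, pow_zero]))
    have h8 := mul_geom_sum (ζ ^ k) r
    rw [← pow_mul, mul_comm k, pow_mul, h3, one_pow, sub_self, h7.mul_right_eq_zero,
      ← Fin.sum_univ_eq_sum_range (fun i => (ζ ^ k) ^ i)] at h8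
    simp only [← pow_mul, mul_comm k] at h8
    simp only [← pow_mul]
    rw [h8, zero_mul]

/-- the roots of unity are powers of `ζ` -/
theorem exists_pow {ρ ζ κ : A} (hρ : ρ ∈ Subring.center A) (hρ' : ρ * r = 1) (h1 : ζ ∈ Subring.center A) (h2 : Un ζ)
    (h3 : ζ ^ r = 1) (h4 : ζ ≠ 1) (k1 : κ ∈ Subring.center A) (k2 : Un κ) (k3 : κ ^ r = 1) : ∃ i < r, ζ ^ i * κ = 1 := by
  have := σ.ss.nontrivial
  by_contra h0
  push Not at h0
  refine one_ne_zero ((σ.sum_pr hρ' h1 h2 h3 h4 κ).symm.trans (Finset.sum_eq_zero fun i _ => ?_))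
  refine (σ.sub_unit (Subring.mul_mem _ (Subring.pow_mem _ h1 i) k1) ((h2.pow i).mul k2) (Subring.one_mem _) Un.one
    (h0 i i.2)).mul_right_eq_zero.1 ?_
  rw [sub_mul, one_mul, mul_pr hρ, sub_self]
  rw [Commute.mul_pow (cen_comm k1 _), ← pow_mul, mul_comm, pow_mul, h3, one_pow, k3, mul_one]

/-- the frame of the eigenprojections of `z` -/
theorem fm {ρ ζ z s : A} (hρ : ρ ∈ Subring.center A) (hρ' : ρ * r = 1) (h1 : ζ ∈ Subring.center A) (h2 : Un ζ)
    (h3 : ζ ^ r = 1) (h4 : ζ ≠ 1) (hz : Un z) (hz' : z ^ r = 1) (hs : Un s) (h : s * z = ζ * (z * s)) :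
    (Fm fun i : Fin r => pr ρ r (ζ ^ (i : ℕ) * z)) ∧
      ∀ i j : Fin r, ∃ k : ℕ, s ^ k * pr ρ r (ζ ^ (i : ℕ) * z) = pr ρ r (ζ ^ (j : ℕ) * z) * s ^ k := by
  have hc : ∀ i : ℕ, ζ ^ i ∈ Subring.center A := fun i => Subring.pow_mem _ h1 i
  have hp : ∀ i k : ℕ, (ζ ^ i * z) ^ k = (ζ ^ i) ^ k * z ^ k := fun i k =>
    Commute.mul_pow (cen_comm (hc i) z).symm k
  have hw : ∀ i : ℕ, (ζ ^ i * z) ^ r = 1 := fun i => by rw [hp, ← pow_mul, mul_comm, pow_mul, h3, one_pow, hz', mul_one]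
  have h5 : ∀ k i : ℕ, s ^ k * (ζ ^ i * z) = ζ ^ (i + k) * z * s ^ k := by
    intro k
    induction k with
    | zero => simp
    | succ k ih =>
      intro i
      rw [pow_succ, mul_assoc, ← mul_assoc s, cen_comm (hc i), mul_assoc, h, ← mul_assoc (ζ ^ i), ← pow_succ,
        ← mul_assoc (ζ ^ (i + 1)), ← mul_assoc, ih, mul_assoc, add_assoc, add_comm 1]
  have h6 : ∀ i j : Fin r, ∃ k : ℕ, s ^ k * pr ρ r (ζ ^ (i : ℕ) * z) = pr ρ r (ζ ^ (j : ℕ) * z) * s ^ k := fun i j =>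
    ⟨j + r - i, comm_pr hρ (by rw [h5, show (i : ℕ) + (j + r - i) = j + r by omega, pow_add, h3, mul_one])⟩
  refine ⟨⟨fun i => pr_mul_of hρ hρ' (mul_pr hρ (hw i)), fun i j hij => ?_, σ.sum_pr hρ' h1 h2 h3 h4 z,
    fun i => star_pr hρ hρ' ((h2.pow i).mul hz) (hw i), fun i j => ?_⟩, h6⟩
  · have h7 := σ.sub_unit (hc i) (h2.pow i) (hc j) (h2.pow j) fun h8 => hij (Fin.ext (σ.pow_ne h3 h4 i.2 j.2 h8))
    refine h7.mul_right_eq_zero.1 ?_
    have h8 : pr ρ r (ζ ^ (i : ℕ) * z) * (ζ ^ (i : ℕ) * z) = pr ρ r (ζ ^ (i : ℕ) * z) := by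
      rw [← comm_pr hρ rfl, mul_pr hρ (hw i)]
    have h9 := mul_pr hρ (hw j)
    generalize pr ρ r (ζ ^ (i : ℕ) * z) = x at h8
    generalize pr ρ r (ζ ^ (j : ℕ) * z) = y at h9
    rw [sub_mul, sub_eq_zero]
    calc ζ ^ (i : ℕ) * (x * y) = ζ ^ (i : ℕ) * (x * (ζ ^ (j : ℕ) * z * y)) := by rw [h9]
      _ = ζ ^ (j : ℕ) * (x * (ζ ^ (i : ℕ) * z) * y) := by
        simp only [← mul_assoc, cen_comm (hc i) x, cen_comm (hc j) x]
        rw [cen_comm (hc j) (ζ ^ (i : ℕ))]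
      _ = ζ ^ (j : ℕ) * (x * y) := by rw [h8]
  · obtain ⟨k, hk⟩ := h6 i j
    exact ⟨_, hs.pow k, hk⟩

end Sit

/-- the context of the box -/
structure EC (F : FR A) (G H N : Subgroup (RingAut A)) (m p r : ℕ) : Prop where
  c : Ctx F G H m p
  σ : Sit F N r
  le : N ≤ H
  min : Main.MinN H N

namespace EC

variable {F : FR A} {G H N : Subgroup (RingAut A)} {m p r : ℕ} (E : EC F G H N m p r)
include E

theorem r_dvd : r ∣ Nat.card H / m := by
  have : Fact r.Prime := ⟨E.σ.prime⟩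
  by_contra h
  exact E.σ.ne (E.c.in.eq_bot_of_isPGroup h E.le E.min.nrm E.σ.isPGroup)

theorem exists_inv {s : ℕ} (hs : s.Prime) (h : s ≠ p) : ∃ ρ ∈ Subring.center A, ρ * s = 1 := by
  obtain ⟨a, b, e⟩ := Nat.isCoprime_iff_coprime.2 ((Nat.coprime_primes hs E.c.prime).2 h)
  have h1 := congrArg (Int.cast : ℤ → A) e
  push_cast at h1
  rw [E.c.char, mul_zero, add_zero] at h1
  exact ⟨a, intCast_mem _ a, h1⟩

theorem exists_rho : ∃ ρ ∈ Subring.center A, ρ * r = 1 :=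
  E.exists_inv E.σ.prime fun h => E.c.not_dvd_d (h ▸ E.r_dvd)

theorem mem_H {x : A} (hx : Un x) (h : ad x ∈ F.S) (hn : Nm N x) : ad x ∈ H :=
  E.c.in.mem_of_norm E.σ.ne E.le E.min.nrm (E.c.S_le h) (E.σ.norm_of_nm hx hn)

theorem lf_map {γ : RingAut A} (hγ : γ ∈ H) {u : A} (hu : Lf N u) : Lf N (γ u) :=
  hu.map (E.c.le_SAut hγ) (E.min.nrm γ hγ)

theorem lf_conj {x : A} (hx : Un x) (h : ad x ∈ H) {u : A} (hu : Lf N u) : Lf N (x * u * star x) := by
  rw [← ad_apply hx]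
  exact E.lf_map h hu

/-- if `s ∣ d`, every `s`-subgroup of `S` is conjugate into `H` -/
theorem conj_into {s : ℕ} (hs : s.Prime) (h : s ∣ Nat.card H / m) {Y : Subgroup (RingAut A)} (hY : Y ≤ F.S)
    (hp : IsPGroup s Y) : ∃ g : RingAut A, ∀ y ∈ Y, g * y * g⁻¹ ∈ H ⊓ F.S := by
  have : Fact s.Prime := ⟨hs⟩
  rw [← E.c.in.card_H] at h
  obtain ⟨g, hg⟩ := Alt.exists_cj_le_of_not_dvd (E.c.lie.half.not_dvd_index hs h) (Y := Y.subgroupOf G)
    (hp.comap_of_injective G.subtype G.subtype_injective)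
  exact ⟨g, fun y hy => ⟨(hg (conj_mem_cj g (x := ⟨y, E.c.S_le (hY hy)⟩) hy) :), FR.conj_mem_S (E.c.le g.2) (hY hy)⟩⟩

theorem exists_conj {x : A} (hx : Un x) (h : ad x ∈ F.S) {k : ℕ} (hk : ad x ^ r ^ k = 1) :
    ∃ y, Un y ∧ (∀ ν ∈ N, ad y * ν * (ad y)⁻¹ ∈ N) ∧ Nat.card (Fx y) = Nat.card (Fx x) ∧
      ∀ j : ℕ, ad y ^ j = 1 ↔ ad x ^ j = 1 := by
  have : Fact r.Prime := ⟨E.σ.prime⟩
  obtain ⟨g, hg⟩ := E.conj_into E.σ.prime E.r_dvd (Subgroup.zpowers_le.2 h) (by
    rintro ⟨_, j, rfl⟩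
    exact ⟨k, Subtype.ext (by
      change (ad x ^ j) ^ r ^ k = 1
      rw [← zpow_natCast, ← zpow_mul, mul_comm, zpow_mul, zpow_natCast, hk, one_zpow])⟩)
  obtain ⟨h1, h2⟩ := hg _ (Subgroup.mem_zpowers _)
  obtain ⟨y, hy, e⟩ := exists_of_PI (F.S_le_PI h2)
  refine ⟨y, hy, E.min.nrm _ (e ▸ h1), card_Fx hx hy g e, fun j => ?_⟩
  rw [e, conj_pow, mul_inv_eq_one, mul_eq_left]

/-- **elements of order `r`** -/
theorem bound_r {ι : Type} [Fintype ι] {e : ι → A} (h : Fm e) {x : A} (hx : Un x) (hS : ad x ∈ F.S) (h1 : x ^ r = 1)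
    (hne : x ∉ Subring.center A) (R : Finset (ι × ι))
    (hR : ∀ q ∈ R, ∃ c ∈ Subring.center A, x * e q.1 = c * e q.1 ∧ e q.2 * x = c * e q.2) (o : ι) :
    R.card * r ^ 2 ≤ (2 * r - 1) * Fintype.card ι ^ 2 := by
  have h2 : ad x ^ r = 1 := by rw [← ad_pow hx, h1, ad_one]
  obtain ⟨y, a1, a2, a3, a4⟩ := E.exists_conj hx hS (k := 1) (by rw [pow_one, h2])
  obtain ⟨t, b1, b2⟩ := E.σ.fx_r a1 a2 ((a4 r).2 h2) fun h3 => hne ((ad_eq_one_iff hx).1 (by
    rw [← pow_one (ad x), ← a4, pow_one, h3]))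
  have h3 := h.bound E.σ R hR o (a3 ▸ b1)
  refine Nat.le_of_mul_le_mul_left ?_ (Nat.card_pos (α := N))
  calc _ = Nat.card N * R.card * r ^ 2 := by ring
    _ ≤ t * Fintype.card ι ^ 2 * r ^ 2 := Nat.mul_le_mul_right _ h3
    _ = t * r ^ 2 * Fintype.card ι ^ 2 := by ring
    _ ≤ Nat.card N * (2 * r - 1) * Fintype.card ι ^ 2 := Nat.mul_le_mul_right _ b2
    _ = _ := by ring

end EC

/-- **elements of order four** -/
theorem EC.bound_four {F : FR A} {G H N : Subgroup (RingAut A)} {m p : ℕ} (E : EC F G H N m p 2) {ι : Type} [Fintype ι]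
    {e : ι → A} (h : Fm e) {x : A} (hx : Un x) (hS : ad x ∈ F.S) (h1 : x ^ 4 = 1) (hne : x ^ 2 ∉ Subring.center A)
    (R : Finset (ι × ι)) (hR : ∀ q ∈ R, ∃ c ∈ Subring.center A, x * e q.1 = c * e q.1 ∧ e q.2 * x = c * e q.2) (o : ι) :
    R.card * 2 ≤ Fintype.card ι ^ 2 := by
  have h2 : ad x ^ 4 = 1 := by rw [← ad_pow hx, h1, ad_one]
  obtain ⟨y, a1, a2, a3, a4⟩ := E.exists_conj hx hS (k := 2) h2
  obtain ⟨t, b1, b2⟩ := E.σ.fx_four a1 a2 ((a4 4).2 h2) fun h3 => hne ((ad_eq_one_iff (hx.pow 2)).1 (by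
    rw [ad_pow hx, ← a4, h3]))
  have h3 := h.bound E.σ R hR o (a3 ▸ b1)
  refine Nat.le_of_mul_le_mul_left ?_ (Nat.card_pos (α := N))
  calc _ = Nat.card N * R.card * 2 := by ring
    _ ≤ t * Fintype.card ι ^ 2 * 2 := Nat.mul_le_mul_right _ h3
    _ = t * 2 * Fintype.card ι ^ 2 := by ring
    _ ≤ _ := Nat.mul_le_mul_right _ b2

end Cfsg.Agent.TH.Cl.Ext
end

-- part: TH/Cl/Ext/Odd
section
/-!
# S3541, box `Ext`: normalised lifts, splitting, odd `r` except `3²` (helper58)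
-/

set_option autoImplicit false
set_option linter.unusedSectionVars false

namespace Cfsg.Agent.TH.Cl.Ext

open Cfsg.Agent.DS.Cl Cfsg.Agent.DS.Cl.Fwd Cfsg.Agent.SB.Cl

variable {A : Type} [Ring A] [StarRing A] [Finite A]

/-- `a` on the block `f`, the identity on its complement -/
def hm (a f : A) : A := 1 + (a - 1) * f

section hm

variable {a b f g u : A}

theorem hm_one (f : A) : hm 1 f = 1 := by simp [hm]

theorem hm_mul (hf : f * f = f) (h : b * f = f * b) : hm a f * hm b f = hm (a * b) f := by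
  have e : hm a f * hm b f = 1 + (a - 1) * f + (b - 1) * f + (a - 1) * ((f * b) * f - f * f) := by
    simp only [hm]; noncomm_ring
  rw [e, ← h, mul_assoc b, hf, hm]
  noncomm_ring

theorem star_hm (hf : star f = f) (h : a * f = f * a) : star (hm a f) = hm (star a) f := by
  have h1 := congrArg star h
  rw [star_mul, star_mul, hf] at h1
  rw [hm, hm, star_add, star_one, star_mul, hf, star_sub, star_one, mul_sub, h1, sub_mul, mul_one, one_mul]

theorem star_comm_of (hf : star f = f) (h : a * f = f * a) : star a * f = f * star a := by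
  have h1 := congrArg star h
  rw [star_mul, star_mul, hf] at h1
  exact h1.symm

theorem un_hm (hf : f * f = f) (hs : star f = f) (h : a * f = f * a) (ha : Un a) : Un (hm a f) := by
  rw [Un, star_hm hs h, hm_mul hf (star_comm_of hs h), ha.ms, hm_one]

theorem hm_pow (hf : f * f = f) (h : a * f = f * a) (k : ℕ) : hm a f ^ k = hm (a ^ k) f := by
  induction k with
  | zero => rw [pow_zero, pow_zero, hm_one]
  | succ k ih => rw [pow_succ, ih, hm_mul hf h, pow_succ]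

theorem hm_mul_self (hf : f * f = f) : hm a f * f = a * f := by
  rw [hm, add_mul, mul_assoc, hf]; noncomm_ring

theorem self_mul_hm (hf : f * f = f) (h : a * f = f * a) : f * hm a f = a * f := by
  rw [hm, mul_add, ← mul_assoc, mul_sub, ← h, sub_mul, mul_assoc, mul_one, hf]; noncomm_ring

theorem hm_mul_orth (h : f * g = 0) : hm a f * g = g := by rw [hm, add_mul, mul_assoc, h, mul_zero, add_zero, one_mul]

theorem orth_mul_hm (h : g * f = 0) (h' : a * f = f * a) : g * hm a f = g := by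
  rw [hm, mul_add, sub_mul, h', mul_sub, ← mul_assoc, one_mul, h]; simp

theorem semi_hm (h1 : u * f = g * u) (h2 : u * a = b * u) : u * hm a f = hm b g * u := by
  rw [hm, hm, mul_add, add_mul, ← mul_assoc, mul_sub, h2, mul_assoc _ g, ← h1]; noncomm_ring

end hm

/-- commutation up to the central factor `κ` -/
def Cm (κ a b : A) : Prop := κ ∈ Subring.center A ∧ a * b = κ * (b * a)

theorem Cm.mul {κ κ' a b b' : A} (h : Cm κ a b) (h' : Cm κ' a b') : Cm (κ * κ') a (b * b') :=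
  ⟨Subring.mul_mem _ h.1 h'.1, by
    rw [← mul_assoc, h.2, mul_assoc, mul_assoc, h'.2, ← mul_assoc b, cen_comm h'.1]; simp only [mul_assoc]⟩

theorem Cm.of_eq {a b : A} (h : a * b = b * a) : Cm 1 a b := ⟨Subring.one_mem _, by rw [one_mul, h]⟩

theorem Cm.pow {κ a b : A} (h : Cm κ a b) (k : ℕ) : Cm (κ ^ k) a (b ^ k) := by
  induction k with
  | zero => rw [pow_zero, pow_zero]; exact Cm.of_eq (by simp)
  | succ k ih => rw [pow_succ, pow_succ]; exact ih.mul h

theorem Cm.symm {κ a b : A} (h : Cm κ a b) (hκ : Un κ) : Cm (star κ) b a :=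
  ⟨star_cen h.1, by rw [h.2, ← mul_assoc, hκ.sm, one_mul]⟩

theorem Cm.eq {κ a b : A} (h : Cm κ a b) (h1 : κ = 1) : a * b = b * a := by rw [h.2, h1, one_mul]

theorem star_root {ζ : A} {r : ℕ} (h3 : ζ ^ r = 1) (h4 : ζ ≠ 1) : star ζ ^ r = 1 ∧ star ζ ≠ 1 :=
  ⟨by rw [← star_pow, h3, star_one], fun h => h4 (by rw [← star_star ζ, h, star_one])⟩

namespace EC

variable {F : FR A} {G H N : Subgroup (RingAut A)} {m p r : ℕ} (E : EC F G H N m p r)
include E

open DS.Cl.Ext in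
theorem root : (∀ u, Lf N u → ∃ c ∈ Subring.center A, Un c ∧ (c * u) ^ r = 1) ∨
    (r = 2 ∧ ¬ 4 ∣ Nat.card (Uh F N)) := by
  refine or_iff_not_imp_right.2 fun hQ => ?_
  have : Finite (Nh F N) := Finite.of_injective (fun u : Nh F N => ((u : Aˣ) : A))
    (Units.val_injective.comp Subtype.val_injective)
  obtain ⟨f, hf⟩ := exists_res E.c.H_le_Aut E.min.nrm
  have hcj : ∀ (γ : RingAut A) (u v : Nh F N), γ (u : Aˣ) = (v : Aˣ) → γ * DS.Cl.cj A u * γ⁻¹ = DS.Cl.cj A v := by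
    intro γ u v huv
    rw [DS.Cl.Ext.conj_cj]
    exact congrArg (DS.Cl.cj A) (Units.ext huv)
  obtain ⟨K, hK, hKU⟩ := E.σ.sty.exists_powSub hQ
  rcases E.min.min (K.map ((DS.Cl.cj A).comp (Nh F N).subtype)) (by rintro _ ⟨u, -, rfl⟩; exact u.2.1) (by
    rintro γ hγ _ ⟨u, hu, rfl⟩
    refine ⟨f ⟨γ, hγ⟩ u, ?_, (hcj γ u _ (hf ⟨γ, hγ⟩ u).symm).symm⟩
    obtain ⟨c, hc, e⟩ := (hK u).1 hu
    refine (hK _).2 ⟨f ⟨γ, hγ⟩ c, ?_, by rw [← map_pow, e, map_pow]⟩
    rw [mem_Uh, hf]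
    exact map_cen γ hc) with h1 | h1
  · refine absurd (fun u hu => ?_) hKU
    have h2 : DS.Cl.cj A u ∈ K.map ((DS.Cl.cj A).comp (Nh F N).subtype) := ⟨u, hu, rfl⟩
    rw [h1, Subgroup.mem_bot] at h2
    exact DS.Cl.Ext.cj_eq_one_iff.1 h2
  · intro x hx
    have h2 := hx.2
    rw [← h1] at h2
    obtain ⟨k, hk, hkx⟩ := h2
    obtain ⟨c, hc, e⟩ := (hK k).1 hk
    obtain ⟨d, d1, d2, d3⟩ := (ad_eq_iff (a := ((k : Aˣ) : A)) (mul_star k) hx.1).1 ((ad_val _).trans hkx)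
    have h3 : ((k : Aˣ) : A) ^ r = ((c : Aˣ) : A) ^ r := congrArg (fun z : Nh F N => ((z : Aˣ) : A)) e
    have h4 : Un ((c : Aˣ) : A) := mul_star c
    refine ⟨star ((c : Aˣ) : A) * d, Subring.mul_mem _ (star_cen hc) d1, h4.st.mul d2, ?_⟩
    rw [mul_assoc, ← d3, Commute.mul_pow (cen_comm (star_cen hc) _).symm, h3, ← star_pow, (h4.pow r).sm]

theorem exists_cm {u v : A} (hu : Lf N u) (hv : Lf N v) : ∃ κ, Un κ ∧ κ ^ r = 1 ∧ Cm κ u v := by
  obtain ⟨κ, h1, h2, h3, h4⟩ := E.σ.exists_kap hu hv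
  exact ⟨κ, h2, h3, h1, h4⟩

theorem exists_not_comm {u : A} (hu : u ∉ Subring.center A) : ∃ v, Lf N v ∧ v * u ≠ u * v := by
  by_contra h
  push Not at h
  exact hu (E.σ.cen_of h)

theorem exists_not_cen : ∃ u, Lf N u ∧ u ∉ Subring.center A := by
  obtain ⟨x, hx, h1⟩ := (N.bot_or_exists_ne_one).resolve_left E.σ.ne
  obtain ⟨u, hu, rfl⟩ := E.σ.exists_lf hx
  exact ⟨u, hu, fun h => h1 (ad_cen h)⟩

/-- **splitting off a non-commuting pair** -/
theorem split {u v w : A} (hu : Lf N u) (hv : Lf N v) (h : u * v ≠ v * u) (hw : Lf N w) :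
    ∃ i < r, ∃ j < r, u * (u ^ i * v ^ j * w) = u ^ i * v ^ j * w * u ∧ v * (u ^ i * v ^ j * w) = u ^ i * v ^ j * w * v := by
  obtain ⟨ρ, hρ, hρ'⟩ := E.exists_rho
  obtain ⟨ζ, a1, a2, a3⟩ := E.exists_cm hu hv
  have a4 : ζ ≠ 1 := fun h1 => h (a3.eq h1)
  obtain ⟨κ, b1, b2, b3⟩ := E.exists_cm hu hw
  obtain ⟨κ', c1, c2, c3⟩ := E.exists_cm hv hw
  obtain ⟨j, hj, e1⟩ := E.σ.exists_pow hρ hρ' a3.1 a1 a2 a4 b3.1 b1 b2
  obtain ⟨i, hi, e2⟩ := E.σ.exists_pow hρ hρ' (star_cen a3.1) a1.st (star_root a2 a4).1 (star_root a2 a4).2 c3.1 c1 c2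
  exact ⟨i, hi, j, hj, ((((Cm.of_eq rfl).pow i).mul (a3.pow j)).mul b3).eq (by rw [one_pow, one_mul, e1]),
    ((((a3.symm a1).pow i).mul ((Cm.of_eq rfl).pow j)).mul c3).eq (by rw [one_pow, mul_one, e2])⟩

theorem card_le {u v : A} (hu : Lf N u) (hv : Lf N v) (h : u * v ≠ v * u)
    (hc : ∀ w, Lf N w → u * w = w * u → v * w = w * v → w ∈ Subring.center A) : Nat.card N ≤ r ^ 2 := by
  rw [pow_two, ← Nat.card_fin r, ← Nat.card_prod]
  refine Nat.card_le_card_of_surjective (fun q : Fin r × Fin r =>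
    (⟨_, N.inv_mem ((hu.pow q.1).mul (hv.pow q.2)).2⟩ : N)) fun ν => ?_
  obtain ⟨w, hw, e⟩ := E.σ.exists_lf ν.2
  obtain ⟨i, hi, j, hj, h1, h2⟩ := E.split hu hv h hw
  have h3 := ad_cen (hc _ (((hu.pow i).mul (hv.pow j)).mul hw) h1 h2)
  rw [ad_mul ((hu.pow i).mul (hv.pow j)).1 hw.1, e] at h3
  exact ⟨(⟨i, hi⟩, ⟨j, hj⟩), Subtype.ext (inv_eq_of_mul_eq_one_right h3)⟩

/-- a partner commuting with a given pair -/
theorem exists_partner {u v z : A} (hu : Lf N u) (hv : Lf N v) (h : u * v ≠ v * u)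
    (h0 : z ∉ Subring.center A) (h1 : u * z = z * u) (h2 : v * z = z * v) :
    ∃ s, Lf N s ∧ s * z ≠ z * s ∧ u * s = s * u ∧ v * s = s * v := by
  obtain ⟨w, hw, h3⟩ := E.exists_not_comm h0
  obtain ⟨i, -, j, -, h4, h5⟩ := E.split hu hv h hw
  refine ⟨_, ((hu.pow i).mul (hv.pow j)).mul hw, fun h6 => h3 (((hu.pow i).mul (hv.pow j)).1.cancel ?_), h4, h5⟩
  have h7 : Commute (u ^ i * v ^ j) z := ((show Commute u z from h1).pow_left i).mul_left
    ((show Commute v z from h2).pow_left j)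
  rw [← mul_assoc, h6, ← mul_assoc, ← h7.eq, mul_assoc]

theorem diag {ι : Type} [Fintype ι] {e : ι → A} (h : Fm e) {ζ : A} (h1 : ζ ∈ Subring.center A) (h2 : Un ζ)
    (h3 : ζ ^ r = 1) (h4 : ζ ≠ star ζ) {i j : ι} (hij : i ≠ j) :
    ((Fintype.card ι - 2) ^ 2 + 2) * r ^ 2 ≤ (2 * r - 1) * Fintype.card ι ^ 2 := by
  classical
  obtain ⟨s, hs, hs'⟩ := h.conj i j
  have c1 : ∀ x, ζ * x = x * ζ := fun x => (cen_comm h1 x).symm
  have c2 : ∀ x, star ζ * x = x * star ζ := fun x => (cen_comm (star_cen h1) x).symm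
  have u1 := un_hm (h.idem i) (h.symm i) (c1 _) h2
  have u2 := un_hm (h.idem j) (h.symm j) (c2 _) h2.st
  have h5 := E.σ.comm_mem u1 hs
  rw [star_hm (h.symm i) (c1 _), mul_assoc _ s, semi_hm hs' (c2 s).symm, mul_assoc, mul_assoc, hs.ms, mul_one] at h5
  have h6 : Commute (hm ζ (e i)) (hm (star ζ) (e j)) :=
    semi_hm (by rw [hm_mul_orth (h.orth _ _ hij), orth_mul_hm (h.orth _ _ hij.symm) (c1 _)]) (c2 _).symm
  have k1 : hm ζ (e i) * hm (star ζ) (e j) * e i = ζ * e i := by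
    rw [mul_assoc, hm_mul_orth (h.orth _ _ hij.symm), hm_mul_self (h.idem i)]
  have k2 : hm ζ (e i) * hm (star ζ) (e j) * e j = star ζ * e j := by
    rw [h6.eq, mul_assoc, hm_mul_orth (h.orth _ _ hij), hm_mul_self (h.idem j)]
  have h7 := E.bound_r h (u1.mul u2) h5 (by
      rw [h6.mul_pow, hm_pow (h.idem i) (c1 _), hm_pow (h.idem j) (c2 _), ← star_pow, h3, star_one, hm_one, hm_one,
        mul_one]) (fun h8 => h4 ?_)
    (((Finset.univ \ {i, j}) ×ˢ (Finset.univ \ {i, j})) ∪ {(i, i), (j, j)}) (fun q hq => ?_) i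
  · rwa [Finset.card_union_of_disjoint (by simp only [_root_.Finset.disjoint_insert_right, _root_.Finset.mem_product, _root_.Finset.mem_sdiff, _root_.Finset.mem_univ, _root_.Finset.mem_insert, _root_.Finset.mem_singleton, _root_.true_or, _root_.not_true_eq_false, _root_.and_false, _root_.and_self, _root_.not_false_eq_true, _root_.Finset.disjoint_singleton_right, _root_.or_true]), Finset.card_product, Finset.card_univ_sdiff, Finset.card_pair hij,
      Finset.card_pair (by simp [hij]), ← pow_two] at h7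
  · rw [← sub_eq_zero, ← sub_mul] at k1 k2
    have k3 := h.eq_zero (Subring.sub_mem _ h8 h1) k1
    have k4 := h.eq_zero (Subring.sub_mem _ h8 (star_cen h1)) k2
    rw [sub_eq_zero] at k3 k4
    exact k3.symm.trans k4
  · simp only [Finset.mem_union, Finset.mem_product, Finset.mem_sdiff, Finset.mem_univ, true_and, Finset.mem_insert,
      Finset.mem_singleton, not_or] at hq
    rcases hq with ⟨⟨a1, a2⟩, a3, a4⟩ | rfl | rfl
    · refine ⟨1, Subring.one_mem _, ?_, ?_⟩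
      · rw [mul_assoc, hm_mul_orth (h.orth _ _ (Ne.symm a2)), hm_mul_orth (h.orth _ _ (Ne.symm a1)), one_mul]
      · rw [← mul_assoc, orth_mul_hm (h.orth _ _ a3) (c1 _), orth_mul_hm (h.orth _ _ a4) (c2 _), one_mul]
    · refine ⟨ζ, h1, k1, ?_⟩
      rw [h6.eq, ← mul_assoc, orth_mul_hm (h.orth _ _ hij) (c2 _), self_mul_hm (h.idem _) (c1 _)]
    · refine ⟨star ζ, star_cen h1, k2, ?_⟩
      rw [← mul_assoc, orth_mul_hm (h.orth _ _ hij.symm) (c1 _), self_mul_hm (h.idem _) (c2 _)]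

theorem ne_star (hr : r ≠ 2) {ζ : A} (h2 : Un ζ) (h3 : ζ ^ r = 1) (h4 : ζ ≠ 1) : ζ ≠ star ζ := fun h => by
  have h5 := E.σ.prime.two_le
  have h6 := E.σ.pow_ne h3 h4 (i := 2) (j := 0) (by omega) (by omega) (by
    rw [pow_two, pow_zero]; nth_rewrite 2 [h]; exact h2)
  omega

/-- a non-commuting pair of lifts of order `r` -/
theorem norm_pair (hr : r ≠ 2) {z s : A} (hz : Lf N z) (hs : Lf N s) (h : s * z ≠ z * s) :
    ∃ z' s', Lf N z' ∧ Lf N s' ∧ z' ^ r = 1 ∧ s' ^ r = 1 ∧ s' * z' ≠ z' * s' ∧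
      ∀ x, (x * z = z * x → x * z' = z' * x) ∧ (x * s = s * x → x * s' = s' * x) := by
  have h1 := E.root.resolve_right fun h => hr h.1
  obtain ⟨c, c1, c2, c3⟩ := h1 z hz
  obtain ⟨d, d1, d2, d3⟩ := h1 s hs
  have h2 : ∀ {c : A}, c ∈ Subring.center A → ∀ {x y : A}, x * y = y * x → x * (c * y) = c * y * x :=
    fun {c} hc {x y} h => by rw [← mul_assoc, cen_comm hc, mul_assoc, h, mul_assoc]
  refine ⟨_, _, (Lf.cen c1 c2).mul hz, (Lf.cen d1 d2).mul hs, c3, d3, fun h3 => h ((d2.mul c2).cancel ?_),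
    fun x => ⟨h2 c1, h2 d1⟩⟩
  rw [← cen_mul_mul c1, h3, cen_mul_mul d1, cen_comm d1]

theorem not_five (hr : 5 ≤ r) : False := by
  obtain ⟨z₀, a1, a2⟩ := E.exists_not_cen
  obtain ⟨s₀, a3, a4⟩ := E.exists_not_comm a2
  obtain ⟨z, s, hz, hs, h1, -, h2, -⟩ := E.norm_pair (by omega) a1 a3 a4
  obtain ⟨ρ, hρ, hρ'⟩ := E.exists_rho
  obtain ⟨ζ, b1, b2, b3⟩ := E.exists_cm hs hz
  have b4 : ζ ≠ 1 := fun h => h2 (b3.eq h)
  have h3 := E.diag (E.σ.fm hρ hρ' b3.1 b1 b2 b4 hz.1 h1 hs.1 b3.2).1 b3.1 b1 b2 (E.ne_star (by omega) b1 b2 b4)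
    (i := ⟨0, by omega⟩) (j := ⟨1, by omega⟩) (by simp)
  rw [Fintype.card_fin] at h3
  have h4 := Nat.le_of_mul_le_mul_right h3 (by positivity)
  obtain ⟨k, rfl⟩ : ∃ k, r = k + 5 := ⟨r - 5, by omega⟩
  rw [show k + 5 - 2 = k + 3 by omega, show 2 * (k + 5) - 1 = 2 * k + 9 by omega] at h4
  nlinarith only [h4]

/-- the frame of two commuting pairs -/
theorem fm_two {ρ ζ ζ' z s z' s' : A} (hρ : ρ ∈ Subring.center A) (hρ' : ρ * r = 1) (a1 : Un ζ) (a2 : ζ ^ r = 1)
    (a3 : ζ ≠ 1) (a4 : Cm ζ s z) (b1 : Un ζ') (b2 : ζ' ^ r = 1) (b3 : ζ' ≠ 1) (b4 : Cm ζ' s' z') (hz : Un z)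
    (hz' : Un z') (hs : Un s) (hs' : Un s') (h1 : z ^ r = 1) (h2 : z' ^ r = 1) (h3 : z * z' = z' * z)
    (h4 : s * z' = z' * s) (h5 : s' * z = z * s') :
    Fm fun q : Fin r × Fin r => pr ρ r (ζ ^ (q.1 : ℕ) * z) * pr ρ r (ζ' ^ (q.2 : ℕ) * z') := by
  obtain ⟨f1, f2⟩ := E.σ.fm hρ hρ' a4.1 a1 a2 a3 hz h1 hs a4.2
  obtain ⟨g1, g2⟩ := E.σ.fm hρ hρ' b4.1 b1 b2 b3 hz' h2 hs' b4.2
  have k : ∀ {c : A}, c ∈ Subring.center A → ∀ (i : ℕ) {x y : A}, x * y = y * x →
      x * pr ρ r (c ^ i * y) = pr ρ r (c ^ i * y) * x := fun {c} hc i {x y} h => comm_pr hρ (by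
    rw [← mul_assoc, cen_comm (Subring.pow_mem _ hc i), mul_assoc, h, mul_assoc])
  refine f1.prod g1 (fun i j => k b4.1 j (k a4.1 i h3.symm).symm) (fun i i' => ?_) fun j j' => ?_
  · obtain ⟨n, hn⟩ := f2 i i'
    exact ⟨_, hs.pow n, hn, fun j => k b4.1 j ((show Commute s z' from h4).pow_left n)⟩
  · obtain ⟨n, hn⟩ := g2 j j'
    exact ⟨_, hs'.pow n, hn, fun i => k a4.1 i ((show Commute s' z from h5).pow_left n)⟩

end EC

/-- for `r = 3` only `3²` is left -/
theorem EC.three {F : FR A} {G H N : Subgroup (RingAut A)} {m p : ℕ} (E : EC F G H N m p 3) {z₀ s₀ : A} (hz₀ : Lf N z₀)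
    (hs₀ : Lf N s₀) (h₀ : s₀ * z₀ ≠ z₀ * s₀) {w : A} (hw : Lf N w) (h₃ : z₀ * w = w * z₀) (h₄ : s₀ * w = w * s₀) :
    w ∈ Subring.center A := by
  obtain ⟨z, s, hz, hs, h1, -, h2, h₅⟩ := E.norm_pair (by omega) hz₀ hs₀ h₀
  have h3 := ((h₅ w).1 h₃.symm).symm
  have h4 := ((h₅ w).2 h₄.symm).symm
  by_contra h0
  obtain ⟨t, a1, a2, a3, a4⟩ := E.exists_partner hz hs h2.symm h0 h3 h4
  obtain ⟨z', s', hz', hs', b1, -, b2, b3⟩ := E.norm_pair (by omega) hw a1 a2
  obtain ⟨ρ, hρ, hρ'⟩ := E.exists_rho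
  obtain ⟨ζ, c1, c2, c3⟩ := E.exists_cm hs hz
  obtain ⟨ζ', d1, d2, d3⟩ := E.exists_cm hs' hz'
  have c4 : ζ ≠ 1 := fun h => h2 (c3.eq h)
  have h5 := E.diag (E.fm_two hρ hρ' c1 c2 c4 c3 d1 d2 (fun h => b2 (d3.eq h)) d3 hz.1 hz'.1 hs.1 hs'.1 h1 b1
    ((b3 z).1 h3) ((b3 s).1 h4) ((b3 z).2 a3).symm) c3.1 c1 c2 (E.ne_star (by omega) c1 c2 c4)
    (i := (0, 0)) (j := (0, 1)) (by simp)
  simp at h5

end Cfsg.Agent.TH.Cl.Ext
end

-- part: TH/Cl/Ext/Inv3
section
/-!
# S3541, box `Ext`, `N = 3²`: the involutions of `H ⊓ S` (helper58)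
-/

set_option autoImplicit false
set_option linter.unusedSectionVars false

namespace Cfsg.Agent.TH.Cl.Ext

open Cfsg.Agent.DS.Cl Cfsg.Agent.DS.Cl.Fwd Cfsg.Agent.SB.Cl

/-- a `p`-group fixes a second point of an invariant set of size divisible by `p` -/
theorem exists_fix {Γ : Type*} [Group Γ] [Finite Γ] {p : ℕ} (hp : p.Prime) {P : Subgroup Γ} (hP : IsPGroup p P)
    {X : Set Γ} (h1 : 1 ∈ X) (hX : ∀ γ ∈ P, ∀ x ∈ X, γ * x * γ⁻¹ ∈ X) (hd : p ∣ Nat.card X) :
    ∃ x ∈ X, x ≠ 1 ∧ ∀ γ ∈ P, γ * x = x * γ := by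
  have : Fact p.Prime := ⟨hp⟩
  let _ : MulAction P X :=
    { smul := fun γ x => ⟨_, hX γ γ.2 x x.2⟩
      one_smul := fun x => Subtype.ext (by change (1 : Γ) * x * 1⁻¹ = x; group)
      mul_smul := fun γ δ x => Subtype.ext (by
        change (γ : Γ) * δ * x * ((γ : Γ) * δ)⁻¹ = γ * (δ * x * (δ : Γ)⁻¹) * (γ : Γ)⁻¹
        group) }
  obtain ⟨x, h2, h3⟩ := hP.exists_fixed_point_of_prime_dvd_card_of_fixed_point X hd (a := ⟨1, h1⟩) fun γ =>
    Subtype.ext (by change (γ : Γ) * 1 * (γ : Γ)⁻¹ = 1; group)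
  exact ⟨x, x.2, fun h => h3 (Subtype.ext h.symm), fun γ hγ =>
    mul_inv_eq_iff_eq_mul.1 (congrArg Subtype.val (h2 ⟨γ, hγ⟩))⟩

theorem dvd_card_sub {Γ : Type*} [Group Γ] [Finite Γ] {l : ℕ} (hl : l.Prime) {x : Γ} (hx : x ^ l = 1) {N : Subgroup Γ}
    (hN : ∀ ν ∈ N, x * ν * x⁻¹ ∈ N) : Nat.card N ≡ Nat.card ↥(N ⊓ Subgroup.centralizer {x}) [MOD l] := by
  have : Fact l.Prime := ⟨hl⟩
  have h1 : ∀ γ ∈ Subgroup.zpowers x, ∀ ν ∈ N, γ * ν * γ⁻¹ ∈ N := fun γ hγ ν hν =>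
    (Subgroup.mem_normalizer_iff.1 (Subgroup.zpowers_le.2 (Subgroup.mem_normalizer_fintype hN) hγ) ν).1 hν
  let _ : MulAction (Subgroup.zpowers x) N :=
    { smul := fun γ ν => ⟨_, h1 γ γ.2 ν ν.2⟩
      one_smul := fun x => Subtype.ext (by change (1 : Γ) * x * 1⁻¹ = x; group)
      mul_smul := fun γ δ x => Subtype.ext (by
        change (γ : Γ) * δ * x * ((γ : Γ) * δ)⁻¹ = γ * (δ * x * (δ : Γ)⁻¹) * (γ : Γ)⁻¹
        group) }
  have hP : IsPGroup l (Subgroup.zpowers x) := by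
    rintro ⟨_, j, rfl⟩
    exact ⟨1, Subtype.ext (by
      change (x ^ j) ^ l ^ 1 = 1
      rw [pow_one, ← zpow_natCast, ← zpow_mul, mul_comm, zpow_mul, zpow_natCast, hx, one_zpow])⟩
  have h2 := hP.card_modEq_card_fixedPoints N
  rwa [show Nat.card (MulAction.fixedPoints (Subgroup.zpowers x) N) = Nat.card ↥(N ⊓ Subgroup.centralizer {x}) from ?_]
    at h2
  rw [← In.card_sub (G := N) (Y := N ⊓ Subgroup.centralizer {x}) inf_le_left]
  refine Nat.card_congr (Equiv.subtypeEquivRight fun ν => ⟨fun h => ⟨ν.2, ?_⟩, fun h γ => Subtype.ext ?_⟩)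
  · exact Subgroup.mem_centralizer_singleton_iff.2
      (mul_inv_eq_iff_eq_mul.1 (congrArg Subtype.val (h ⟨x, Subgroup.mem_zpowers x⟩))).symm
  · obtain ⟨_, j, rfl⟩ := γ
    have h3 : Commute (ν : Γ) x := Subgroup.mem_centralizer_singleton_iff.1 h.2
    exact mul_inv_eq_iff_eq_mul.2 (h3.zpow_right j).symm

/-- the four-group generated by two commuting involutions -/
def four {Γ : Type*} [Group Γ] {a b : Γ} (ha : a * a = 1) (hb : b * b = 1) (h : Commute a b) : Subgroup Γ where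
  carrier := {x | x * x = 1 ∧ ∃ i j : ℕ, x = a ^ i * b ^ j}
  mul_mem' := by
    rintro _ _ ⟨-, i, j, rfl⟩ ⟨-, k, l, rfl⟩
    have e : a ^ i * b ^ j * (a ^ k * b ^ l) = a ^ (i + k) * b ^ (j + l) := by
      rw [(h.pow_pow k j).symm.mul_mul_mul_comm, pow_add, pow_add]
    refine ⟨?_, _, _, e⟩
    rw [e, (h.pow_pow _ _).symm.mul_mul_mul_comm, ← (Commute.refl a).mul_pow, ← (Commute.refl b).mul_pow, ha, hb]
    simp
  one_mem' := ⟨one_mul 1, 0, 0, by simp⟩
  inv_mem' := by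
    intro x hx
    rwa [inv_eq_of_mul_eq_one_right hx.1]

variable {A : Type} [Ring A] [StarRing A] [Finite A]

namespace EC

variable {F : FR A} {G H N : Subgroup (RingAut A)} {m p : ℕ} (E : EC F G H N m p 3)
include E

theorem eq_one_of_sq {x : RingAut A} (hx : x ∈ N) (h : x * x = 1) : x = 1 := by
  have h1 := E.σ.exp x hx
  rwa [pow_succ, pow_two, h, one_mul] at h1

theorem card_le_nine : Nat.card N ≤ 9 := by
  obtain ⟨z, a1, a2⟩ := E.exists_not_cen
  obtain ⟨s, a3, a4⟩ := E.exists_not_comm a2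
  exact E.card_le a1 a3 a4.symm fun w hw h1 h2 => E.three a1 a3 a4 hw h1 h2

/-- the involutions of `H ⊓ S` invert `N` -/
theorem inverts {t : RingAut A} (ht : t ∈ H ⊓ F.S) (h1 : t * t = 1) (h2 : t ≠ 1) : ∀ ν ∈ N, t * ν * t⁻¹ = ν⁻¹ := by
  intro ν hν
  by_contra h3
  obtain ⟨τ, hτ, rfl⟩ := exists_of_PI (F.S_le_PI ht.2)
  have hi : (ad τ)⁻¹ = ad τ := inv_eq_of_mul_eq_one_right h1
  have hn := E.min.nrm _ ht.1
  obtain ⟨μ, hμ, h4⟩ : ∃ μ ∈ N, ad τ * μ ≠ μ * ad τ := by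
    by_contra h4
    push Not at h4
    exact h2 (E.eq_one_of_sq (E.σ.cent hτ h4) h1)
  obtain ⟨β, b1, b2⟩ := E.σ.exists_lf (N.mul_mem (hn ν hν) hν)
  obtain ⟨γ, c1, c2⟩ := E.σ.exists_lf (N.mul_mem (hn μ hμ) (N.inv_mem hμ))
  have b3 : β ∉ Subring.center A := fun h => h3 (eq_inv_of_mul_eq_one_left (b2 ▸ ad_cen h))
  have b4 : ad τ * ad β * (ad τ)⁻¹ = ad β := by
    rw [b2, ← E.σ.comm _ hν _ (hn ν hν)]
    nth_rewrite 1 [← E.σ.comm _ (hn ν hν) _ hν]
    calc _ = ad τ * ad τ * ν * (ad τ * ad τ)⁻¹ * (ad τ * ν * (ad τ)⁻¹) := by group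
      _ = _ := by rw [h1]; group
  have c4 : ad τ * ad γ * (ad τ)⁻¹ = (ad γ)⁻¹ := by
    rw [c2]
    calc _ = ad τ * ad τ * μ * (ad τ * ad τ)⁻¹ * (ad τ * μ⁻¹ * (ad τ)⁻¹) := by group
      _ = _ := by rw [h1]; group
  have hs := E.c.le_SAut ht.1
  obtain ⟨x, x1, x2, x3⟩ := (ad_eq_iff (b1.1.map hs) b1.1).1 ((conj_ad _ b1.1).symm.trans b4)
  obtain ⟨y, y1, y2, y3⟩ := (ad_eq_iff (c1.1.map hs) c1.1.st).1 ((conj_ad _ c1.1).symm.trans (c4.trans
    (ad_star c1.1).symm))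
  obtain ⟨κ, k1, k2, k3⟩ := E.exists_cm b1 c1
  have h5 : β * γ = γ * β := by
    refine k3.eq (by_contra fun h5 => E.ne_star (by omega) k1 k2 h5 ?_)
    have h6 := congrArg (ad τ) k3.2
    rw [map_mul, map_mul, map_mul, F.PI_le_Lin (E.σ.mem_PI hτ) κ k3.1, x3, y3, cen_mul_mul y1, cen_mul_mul x1,
      cen_comm x1 y, ← mul_assoc κ, ← cen_comm k3.1, mul_assoc _ κ] at h6
    have h7 := (x2.mul y2).cancel h6
    have h8 : β * star γ = star κ * (star γ * β) := by
      refine c1.1.cancel (c1.1.cancel' ?_)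
      rw [mul_assoc, mul_assoc, c1.1.sm, mul_one, ← mul_assoc γ, cen_comm (star_cen k3.1), mul_assoc (star κ),
        ← mul_assoc γ, c1.1.ms, one_mul, mul_assoc, k3.2, ← mul_assoc, k1.sm, one_mul]
    exact (c1.1.st.mul b1.1).cancel' (h7.symm.trans h8)
  obtain ⟨v, v1, v2⟩ := E.exists_not_comm b3
  obtain ⟨i, -, j, hj, e1, e2⟩ := E.split b1 v1 v2.symm c1
  have h6 := ad_cen (E.three b1 v1 v2 (((b1.pow i).mul (v1.pow j)).mul c1) e1 e2)
  obtain ⟨κ', l1, l2, l3⟩ := E.exists_cm b1 v1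
  have h7 : j = 0 := by
    have h8 := ((((Cm.of_eq (a := β) rfl).pow i).mul (l3.pow j)).mul (Cm.of_eq h5)).2
    rw [e1, one_pow, one_mul, mul_one] at h8
    have h9 := ((((b1.pow i).mul (v1.pow j)).mul c1).mul b1).1.cancel' ((one_mul _).trans h8)
    exact E.σ.pow_ne l2 (fun h => v2 (l3.eq h).symm) hj (by omega) (h9.symm.trans (pow_zero _).symm)
  rw [h7, pow_zero, mul_one, ad_mul (b1.1.pow i) c1.1, ad_pow b1.1] at h6
  have h8 : Commute (ad τ) (ad γ) := by
    rw [eq_inv_of_mul_eq_one_right h6]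
    exact ((show Commute (ad τ) (ad β) from mul_inv_eq_iff_eq_mul.1 b4).pow_right i).inv_right
  rw [h8.eq, mul_inv_cancel_right] at c4
  have h9 := E.eq_one_of_sq c1.2 (mul_eq_one_iff_eq_inv.2 c4)
  rw [c2, mul_inv_eq_one, mul_inv_eq_iff_eq_mul] at h9
  exact h4 h9

theorem exists_invol : ∃ t ∈ H ⊓ F.S, t * t = 1 ∧ t ≠ 1 := by
  by_contra h0
  push Not at h0
  have : Fact (Nat.Prime 3) := ⟨E.σ.prime⟩
  have h1 : IsPGroup 3 ↥(H ⊓ F.S) := by
    refine IsPGroup.iff_card.2 ⟨_, Nat.eq_prime_pow_of_unique_prime_dvd Nat.card_pos.ne' fun {l} hl hd => ?_⟩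
    have : Fact l.Prime := ⟨hl⟩
    obtain ⟨x, hx⟩ := exists_prime_orderOf_dvd_card' l hd
    have h2 : (x : RingAut A) ^ l = 1 := by rw [← hx]; exact congrArg Subtype.val (pow_orderOf_eq_one x)
    have h3 : (x : RingAut A) ≠ 1 := fun h => hl.one_lt.ne' (by rw [← hx, show x = 1 from Subtype.ext h, orderOf_one])
    have h4 : l ≠ 2 := by
      rintro rfl
      exact h3 (h0 _ x.2 (by rwa [← pow_two]))
    by_cases h5 : N ≤ cN N x
    · obtain ⟨τ, hτ, e⟩ := exists_of_PI (F.S_le_PI x.2.2)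
      have h6 := E.σ.exp _ (E.σ.cent hτ fun ν hν => e ▸ (mem_cN.1 (h5 hν)).2)
      rw [e] at h6
      exact (orderOf_eq_prime h2 h3).symm.trans (orderOf_eq_prime h6 h3)
    have h6 : Nat.card (cN N x) * 3 ≤ Nat.card N := card_mul_le E.σ.prime E.σ.isPGroup inf_le_left h5
    have h7 : Nat.card (cN N x) ≡ Nat.card N [MOD l] := (dvd_card_sub hl h2 (E.min.nrm _ x.2.1)).symm
    have h8 := E.card_le_nine
    obtain ⟨a, ha⟩ := IsPGroup.iff_card.1 E.σ.isPGroup
    obtain ⟨b, hb⟩ := IsPGroup.iff_card.1 (E.σ.isPGroup.to_le (inf_le_left : cN N x ≤ N))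
    rw [ha] at h6 h7 h8
    rw [hb] at h6 h7
    have h9 : a ≤ 2 := (Nat.pow_le_pow_iff_right (by norm_num)).1 (h8.trans (by norm_num : 9 ≤ 3 ^ 2))
    have h10 : b + 1 ≤ a := (Nat.pow_le_pow_iff_right (by norm_num : 1 < 3)).1 h6
    have h11 : l ∣ 2 ^ 3 * 3 := by
      have h12 := (Nat.modEq_iff_dvd' (Nat.pow_le_pow_right (by norm_num) (by omega))).1 h7
      have h13 : b ≤ 1 := by omega
      interval_cases a <;> interval_cases b <;> first | omega | exact h12.trans (by norm_num)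
    rcases (Nat.Prime.dvd_mul hl).1 h11 with h | h
    · exact absurd ((Nat.prime_dvd_prime_iff_eq hl Nat.prime_two).1 (hl.dvd_of_dvd_pow h)) h4
    · exact (Nat.prime_dvd_prime_iff_eq hl Nat.prime_three).1 h
  obtain ⟨x, x1, x2, x3⟩ := exists_fix E.σ.prime h1 (X := N) N.one_mem (fun γ hγ => E.min.nrm γ hγ.1)
    (E.σ.isPGroup.card_eq_or_dvd.resolve_left fun h => E.σ.ne (Subgroup.card_eq_one.1 h))
  rcases E.min.min (N ⊓ Subgroup.centralizer ↑(H ⊓ F.S)) inf_le_left (fun γ hγ y hy => ⟨E.min.nrm γ hγ y hy.1,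
    fun w hw => by
      have h2 := hy.2 _ (E.c.conj_inf (H.inv_mem hγ) hw)
      calc w * (γ * y * γ⁻¹) = γ * (γ⁻¹ * w * γ⁻¹⁻¹ * y) * γ⁻¹ := by group
        _ = _ := by rw [h2]; group⟩) with h2 | h2
  · exact x2 (Subgroup.mem_bot.1 (h2 ▸ (⟨x1, x3⟩ : x ∈ N ⊓ Subgroup.centralizer ↑(H ⊓ F.S))))
  · have h3 : H ⊓ F.S ≤ N := fun w hw => by
      obtain ⟨τ, hτ, rfl⟩ := exists_of_PI (F.S_le_PI hw.2)
      exact E.σ.cent hτ fun ν hν => (h2.ge hν).2 _ hw
    exact E.c.inf_not_comm fun a ha b hb => E.σ.comm _ (h3 ha) _ (h3 hb)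

/-- a four-group of `S` shows that `d` is odd -/
theorem not_two_dvd {a b : RingAut A} (ha : a ∈ F.S) (hb : b ∈ F.S) (h1 : a * a = 1) (h2 : b * b = 1) (h : Commute a b)
    (h3 : a ≠ 1) (h4 : b ≠ 1) (h5 : a * b ≠ 1) : ¬ 2 ∣ Nat.card H / m := by
  intro hd
  obtain ⟨g, hg⟩ := E.conj_into Nat.prime_two hd (Y := four h1 h2 h) (by
    rintro _ ⟨-, i, j, rfl⟩
    exact mul_mem (pow_mem ha i) (pow_mem hb j)) fun x => ⟨1, Subtype.ext ((pow_two _).trans x.2.1)⟩
  have key : ∀ y ∈ four h1 h2 h, y ≠ 1 → ∀ ν ∈ N, g * y * g⁻¹ * ν * (g * y * g⁻¹)⁻¹ = ν⁻¹ := fun y hy h6 =>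
    E.inverts (hg y hy) (by rw [conj_mul, hy.1]; group) fun h7 => h6 (by rwa [mul_inv_eq_one, mul_eq_left] at h7)
  have a1 : a ∈ four h1 h2 h := ⟨h1, 1, 0, by simp⟩
  have b1 : b ∈ four h1 h2 h := ⟨h2, 0, 1, by simp⟩
  refine E.σ.ne (eq_bot_iff.2 fun ν hν => E.eq_one_of_sq hν (mul_eq_one_iff_eq_inv.2 ?_))
  rw [← key _ (mul_mem a1 b1) h5 ν hν, ← conj_mul, mul_inv_rev, mul_assoc (g * a * g⁻¹), mul_assoc (g * a * g⁻¹),
    ← mul_assoc _ (g * b * g⁻¹)⁻¹, key _ b1 h4 ν hν, ← mul_assoc, key _ a1 h3 _ (N.inv_mem hν), inv_inv]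

end EC

end Cfsg.Agent.TH.Cl.Ext
end

-- part: TH/Cl/Ext/TwoA
section
/-!
# S3541, box `Ext`, `r = 2`: quaternion pairs and block elements (helper58)
-/

set_option autoImplicit false
set_option linter.unusedSectionVars false

namespace Cfsg.Agent.TH.Cl.Ext

open Cfsg.Agent.DS.Cl Cfsg.Agent.DS.Cl.Fwd Cfsg.Agent.SB.Cl

variable {A : Type} [Ring A] [StarRing A] [Finite A]

/-- one half -/
structure Hf (h : A) : Prop where
  cen : h ∈ Subring.center A
  two : h * 2 = 1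

namespace Hf

variable {h : A} (hh : Hf h)
include hh

theorem out (x y : A) : x * (h * y) = h * (x * y) := by rw [← mul_assoc, cen_comm hh.cen, mul_assoc]

theorem dbl (x : A) : h * (x + x) = x := by rw [← two_mul, ← mul_assoc, hh.two, one_mul]

theorem eq_of {h' : A} (e : h' * 2 = 1) : h' = h := by
  rw [← hh.dbl h', ← mul_two, e, mul_one]

theorem st : star h = h := hh.eq_of (by
  have := congrArg star hh.two
  rwa [star_mul, star_ofNat, star_one, two_mul, ← mul_two] at this)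

theorem map (γ : RingAut A) : γ h = h := hh.eq_of (by rw [← map_ofNat γ 2, ← map_mul, hh.two, map_one])

theorem eq_zero {x : A} (e : x = -x) : x = 0 := by
  rw [← hh.dbl x]
  nth_rw 2 [e]
  rw [add_neg_cancel, mul_zero]

end Hf

/-- a quaternion pair of lifts commuting with `z` -/
structure Qz (N : Subgroup (RingAut A)) (z a b : A) : Prop where
  la : Lf N a
  lb : Lf N b
  aa : a * a = -1
  bb : b * b = -1
  ba : b * a = -(a * b)
  za : z * a = a * z
  zb : z * b = b * z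

/-- an element of order six permuting `a, b, a b` -/
def oo (h a b : A) : A := h * (1 + a + b + a * b)

/-- `P` on the `+1` eigenspace of `z` and `Q` on the `-1` eigenspace -/
def blk (h z P Q : A) : A := h * ((1 + z) * P + (1 - z) * Q)

/-- the basic element -/
def sg (h z a b : A) : A := blk h z (oo h a b) (star (oo h a b))

theorem star_of_sq {a : A} (ha : Un a) (h : a * a = -1) : star a = -a := ha.star_eq (by rw [mul_neg, h, neg_neg])

namespace Qz

variable {N : Subgroup (RingAut A)} {z a b : A} (q : Qz N z a b)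
include q

theorem aa' (x : A) : a * (a * x) = -x := by rw [← mul_assoc, q.aa, neg_one_mul]

theorem ba' (x : A) : b * (a * x) = -(a * (b * x)) := by rw [← mul_assoc, q.ba, neg_mul, mul_assoc]

theorem comm_c {x : A} (h1 : x * a = a * x) (h2 : x * b = b * x) : x * (a * b) = a * b * x := by
  rw [← mul_assoc, h1, mul_assoc, h2, mul_assoc]

theorem bab : b * (a * b) = a := by rw [q.ba', q.bb, mul_neg, neg_neg, mul_one]

theorem rot : Qz N z b (a * b) := ⟨q.lb, q.la.mul q.lb, q.bb, by rw [mul_assoc, q.bab, q.aa], by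
  rw [q.bab, mul_assoc, q.bb, mul_neg, mul_one], q.zb, q.comm_c q.za q.zb⟩

theorem neg : Qz N z (-a) b := ⟨q.la.neg, q.lb, by rw [neg_mul_neg, q.aa], q.bb, by rw [mul_neg, neg_mul, q.ba], by
  rw [mul_neg, neg_mul, q.za], q.zb⟩

theorem swap : Qz N z b a := ⟨q.lb, q.la, q.bb, q.aa, by rw [q.ba, neg_neg], q.zb, q.za⟩

theorem zmul (hz : Lf N z) (zz : z * z = 1) : Qz N z (z * a) b := ⟨hz.mul q.la, q.lb, by
  rw [mul_assoc, ← mul_assoc a, ← q.za, mul_assoc, q.aa, ← mul_assoc, zz, one_mul], q.bb, by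
  rw [← mul_assoc, ← q.zb, mul_assoc, q.ba, mul_neg, mul_assoc], by rw [mul_assoc, q.za], q.zb⟩

theorem of {y : A} (h1 : y * a = a * y) (h2 : y * b = b * y) : Qz N y a b := ⟨q.la, q.lb, q.aa, q.bb, q.ba, h1, h2⟩

theorem negz : Qz N (-z) a b := q.of (by rw [mul_neg, neg_mul, q.za]) (by rw [mul_neg, neg_mul, q.zb])

theorem sa : star a = -a := star_of_sq q.la.1 q.aa

theorem sb : star b = -b := q.swap.sa

theorem sc : star (a * b) = -(a * b) := q.rot.sb

variable {h : A} (hh : Hf h)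

theorem oo_rot : oo h b (a * b) = oo h a b := by
  rw [oo, oo, q.bab]
  congr 1
  abel

theorem comm_oo {x : A} (hh : Hf h) (h1 : x * a = a * x) (h2 : x * b = b * x) : x * oo h a b = oo h a b * x := by
  rw [oo, hh.out, mul_assoc, mul_add x, mul_add x, mul_add x, q.comm_c h1 h2, h1, h2, add_mul, add_mul, add_mul, mul_one,
    one_mul]

include hh

theorem ne_comm [Nontrivial A] : a * b ≠ b * a := fun e =>
  (q.la.mul q.lb).1.isUnit.ne_zero (hh.eq_zero (e.trans q.ba))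

theorem ne_pm [Nontrivial A] : ¬ (b = a ∨ b = -a) := fun e => q.ne_comm hh (by
  rcases e with rfl | rfl
  · rfl
  · rw [mul_neg, neg_mul])

theorem z_oo : z * oo h a b = oo h a b * z := q.comm_oo hh q.za q.zb

theorem oo_a : oo h a b * a = b * oo h a b := by
  rw [oo, hh.out, mul_assoc]
  congr 1
  simp only [mul_add, add_mul, mul_assoc, mul_one, one_mul, mul_neg, neg_neg, q.aa, q.bb, q.ba, q.aa', q.ba']
  abel

theorem oo_b : oo h a b * b = a * b * oo h a b := by rw [← q.oo_rot, q.rot.oo_a hh]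

theorem oo_c : oo h a b * (a * b) = a * oo h a b := by rw [← q.oo_rot, q.rot.oo_b hh, q.bab]

theorem oo_sq : oo h a b * oo h a b = oo h a b - 1 := by
  have h1 : (1 + a + b + a * b) * (1 + a + b + a * b) = (a + b + a * b - 1) + (a + b + a * b - 1) := by
    simp only [mul_add, add_mul, mul_assoc, mul_one, one_mul, mul_neg, neg_neg, q.aa, q.bb, q.ba, q.aa', q.ba']
    abel
  rw [oo, mul_assoc, hh.out, h1, hh.dbl, ← hh.dbl 1, ← mul_sub, hh.dbl 1]
  congr 1
  abel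

theorem star_oo : star (oo h a b) = 1 - oo h a b := by
  rw [oo, star_mul, hh.st, cen_comm hh.cen, star_add, star_add, star_add, q.sc, q.sa, q.sb, star_one]
  nth_rw 2 [← hh.dbl 1]
  rw [← mul_sub]
  congr 1
  abel

theorem un_oo : Un (oo h a b) := by rw [Un, q.star_oo hh, mul_sub, q.oo_sq hh, mul_one, sub_sub_cancel]

theorem z_soo : z * star (oo h a b) = star (oo h a b) * z := by
  rw [q.star_oo hh, mul_sub, sub_mul, q.z_oo hh, mul_one, one_mul]

theorem soo_a : star (oo h a b) * a = a * b * star (oo h a b) := (q.un_oo hh).cancel (by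
  rw [← mul_assoc, ← mul_assoc, q.oo_c hh, (q.un_oo hh).ms, mul_assoc, (q.un_oo hh).ms, one_mul, mul_one])

theorem soo_b : star (oo h a b) * b = a * star (oo h a b) := by rw [← q.oo_rot, q.rot.soo_a hh, q.bab]

theorem soo_c : star (oo h a b) * (a * b) = b * star (oo h a b) := by rw [← q.oo_rot, q.rot.soo_b hh]

theorem oo_cube : oo h a b * (oo h a b * oo h a b) = -1 := by
  rw [q.oo_sq hh, mul_sub, q.oo_sq hh, mul_one]
  abel

theorem soo_cube : star (oo h a b) * (star (oo h a b) * star (oo h a b)) = -1 := by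
  rw [← star_mul, ← star_mul, mul_assoc, q.oo_cube hh, star_neg, star_one]

omit hh in
theorem oo_neg : oo h (-a) b = oo h a b * -(a * b) := by
  rw [oo, oo, mul_assoc]
  congr 1
  simp only [add_mul, mul_assoc, mul_one, one_mul, mul_neg, neg_mul, neg_neg, q.aa, q.bb, q.aa', q.ba']
  abel

theorem oo_swap : oo h b a = star (oo h a b) * b := by
  rw [q.star_oo hh, sub_mul, one_mul, oo, oo, mul_assoc, ← hh.dbl b, ← mul_sub, hh.dbl b]
  congr 1
  simp only [add_mul, mul_assoc, mul_one, one_mul, mul_neg, q.bb, q.ba]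
  abel

end Qz

section blk

variable {h z y x P Q P' Q' : A}

theorem blk_mul_r (h z P Q x : A) : blk h z P Q * x = blk h z (P * x) (Q * x) := by
  simp only [blk, mul_assoc, add_mul]

theorem blk_negz (h z P Q : A) : blk h (-z) P Q = blk h z Q P := by
  rw [blk, blk, sub_neg_eq_add, ← sub_eq_add_neg, add_comm]

theorem blk_add (h z P Q P' Q' : A) : blk h z P Q + blk h z P' Q' = blk h z (P + P') (Q + Q') := by
  simp only [blk, mul_add]
  abel

theorem blk_neg (h z P Q : A) : -blk h z P Q = blk h z (-P) (-Q) := by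
  simp only [blk, mul_add, mul_neg, neg_add]

variable (hh : Hf h)
include hh

theorem blk_same (z P : A) : blk h z P P = P := by rw [blk, ← add_mul, add_add_sub_cancel, add_mul, one_mul, hh.dbl]

theorem blk_opp (z P : A) : blk h z P (-P) = z * P := by
  rw [blk, mul_neg, ← sub_eq_add_neg, ← sub_mul, add_sub_sub_cancel, add_mul, hh.dbl]

theorem mul_blk (e : z * x = x * z) (P Q : A) : x * blk h z P Q = blk h z (x * P) (x * Q) := by
  simp only [blk, hh.out x, mul_add, add_mul, sub_mul, mul_sub, one_mul, ← mul_assoc x z, ← e, mul_assoc]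

theorem anti_blk (e : y * z = -(z * y)) (P Q : A) : y * blk h z P Q = blk h z (y * Q) (y * P) := by
  simp only [blk, hh.out y, mul_add, add_mul, sub_mul, mul_sub, one_mul, ← mul_assoc y z, e, mul_assoc, neg_mul, mul_neg]
  abel

theorem blk_mul (zz : z * z = 1) (e1 : z * P = P * z) (e2 : z * Q = Q * z) (P' Q' : A) :
    blk h z P Q * blk h z P' Q' = blk h z (P * P') (Q * Q') := by
  have h1 : ∀ X Y, (1 + z) * blk h z X Y = (1 + z) * X := fun X Y => by
    rw [blk, hh.out]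
    refine Eq.trans (congrArg _ ?_) (hh.dbl _)
    simp only [mul_add, add_mul, sub_mul, mul_sub, one_mul, ← mul_assoc z z, zz]
    abel
  have h2 : ∀ X Y, (1 - z) * blk h z X Y = (1 - z) * Y := fun X Y => by
    rw [blk, hh.out]
    refine Eq.trans (congrArg _ ?_) (hh.dbl _)
    simp only [mul_add, add_mul, sub_mul, mul_sub, one_mul, ← mul_assoc z z, zz]
    abel
  rw [blk_mul_r, mul_blk hh e1, mul_blk hh e2, blk, h1, h2, blk]

theorem z_blk (e1 : z * P = P * z) (e2 : z * Q = Q * z) : z * blk h z P Q = blk h z P Q * z := by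
  rw [mul_blk hh rfl, blk_mul_r, e1, e2]

theorem star_blk (sz : star z = z) (e1 : z * P = P * z) (e2 : z * Q = Q * z) :
    star (blk h z P Q) = blk h z (star P) (star Q) := by
  have h1 := congrArg star e1
  have h2 := congrArg star e2
  rw [star_mul, star_mul, sz] at h1 h2
  rw [blk, blk, star_mul, hh.st, cen_comm hh.cen]
  simp only [star_add, star_mul, star_sub, sz, mul_add, add_mul, mul_sub, sub_mul, one_mul, h1, h2]

theorem un_blk (hz : Un z) (zz : z * z = 1) (e1 : z * P = P * z) (e2 : z * Q = Q * z) (h1 : Un P) (h2 : Un Q) :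
    Un (blk h z P Q) := by
  rw [Un, star_blk hh (hz.star_eq zz) e1 e2, blk_mul hh zz e1 e2, h1, h2, blk_same hh]

theorem map_blk (γ : RingAut A) : γ (blk h z P Q) = blk h (γ z) (γ P) (γ Q) := by
  simp only [blk, map_mul, map_add, map_sub, map_one, hh.map]

theorem map_sg {γ : RingAut A} (hγ : γ ∈ SAut A) (a b : A) : γ (sg h z a b) = sg h (γ z) (γ a) (γ b) := by
  have h1 : γ (oo h a b) = oo h (γ a) (γ b) := by simp only [oo, map_mul, map_add, map_one, hh.map]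
  rw [sg, sg, map_blk hh, hγ, h1]

end blk

/-- `± a, ± b, ± a b` up to `z` -/
def Tz (z a b w : A) : Prop := ∃ s, (s = 1 ∨ s = -1 ∨ s = z ∨ s = -z) ∧ (w = s * a ∨ w = s * b ∨ w = s * (a * b))

theorem Tz.comm {z a b w x : A} (h : Tz z a b w) (h0 : x * z = z * x) (h1 : x * a = a * x) (h2 : x * b = b * x) :
    x * w = w * x := by
  obtain ⟨s, hs, hw⟩ := h
  have h3 : Commute x s := by
    rcases hs with rfl | rfl | rfl | rfl
    exacts [Commute.one_right x, Commute.neg_one_right x, h0, Commute.neg_right h0]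
  rcases hw with rfl | rfl | rfl
  exacts [h3.mul_right h1, h3.mul_right h2, h3.mul_right (Commute.mul_right h1 h2)]

/-- **the moves** -/
theorem Qz.ind {N : Subgroup (RingAut A)} {z a b : A} (q : Qz N z a b) (hz : Lf N z)
    (zz : z * z = 1) {P : A → A → Prop} (h1 : P a b) (h2 : P b a) (rot : ∀ x y, Qz N z x y → P x y → P y (x * y))
    (neg : ∀ x y, Qz N z x y → P x y → P (-x) y) (zm : ∀ x y, Qz N z x y → P x y → P (z * x) y) {a' b' : A}
    (e : a' * b' ≠ b' * a') (ha : Tz z a b a') (hb : Tz z a b b') : P a' b' := by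
  have r : ∀ {x y}, Qz N z x y ∧ P x y → Qz N z y (x * y) ∧ P y (x * y) := fun h => ⟨h.1.rot, rot _ _ h.1 h.2⟩
  have n : ∀ {x y}, Qz N z x y ∧ P x y → Qz N z (-x) y ∧ P (-x) y := fun h => ⟨h.1.neg, neg _ _ h.1 h.2⟩
  have k : ∀ {x y}, Qz N z x y ∧ P x y → Qz N z (z * x) y ∧ P (z * x) y :=
    fun h => ⟨h.1.zmul hz zz, zm _ _ h.1 h.2⟩
  have l : ∀ {s x y}, (s = 1 ∨ s = -1 ∨ s = z ∨ s = -z) → Qz N z x y ∧ P x y → Qz N z (s * x) y ∧ P (s * x) y := by
    rintro s x y (rfl | rfl | rfl | rfl) h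
    · rwa [one_mul]
    · rw [neg_one_mul]; exact n h
    · exact k h
    · rw [neg_mul]; exact n (k h)
  have l' : ∀ {s x y}, (s = 1 ∨ s = -1 ∨ s = z ∨ s = -z) → Qz N z x y ∧ P x y → Qz N z x (s * y) ∧ P x (s * y) := by
    intro s x y hs h
    have h3 := r (l hs (r (r h)))
    rwa [h.1.bab, mul_assoc, mul_assoc, h.1.ba, mul_neg, h.1.aa', neg_neg] at h3
  obtain ⟨s, hs, ha⟩ := ha
  obtain ⟨t, ht, hb⟩ := hb
  have m : ∀ {x y}, Qz N z x y ∧ P x y → P (s * x) (t * y) := fun h => (l' ht (l hs h)).2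
  have d : ∀ x, z * x = x * z → s * x * (t * x) = t * x * (s * x) := fun x hx => by
    have h3 : ∀ {s}, (s = 1 ∨ s = -1 ∨ s = z ∨ s = -z) → ∀ {y}, Commute z y → Commute s y := by
      rintro s (rfl | rfl | rfl | rfl) y hy
      exacts [Commute.one_left y, Commute.neg_one_left y, hy, hy.neg_left]
    exact ((h3 hs (h3 ht (Commute.refl z)).symm).mul_right (h3 hs hx)).mul_left
      ((h3 ht hx).symm.mul_right (Commute.refl x))
  have p1 := And.intro q h1
  have p2 := And.intro q.swap h2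
  have p3 : Qz N z a (a * b) ∧ P a (a * b) := by
    have h3 := l' (Or.inr (Or.inl rfl)) (r p2)
    rwa [q.ba, neg_one_mul, neg_neg] at h3
  rcases ha with rfl | rfl | rfl <;> rcases hb with rfl | rfl | rfl
  · exact absurd (d _ q.za) e
  · exact m p1
  · exact m p3
  · exact m p2
  · exact absurd (d _ q.zb) e
  · exact m (r p1)
  · have h3 := r (r p1)
    rw [q.bab] at h3
    exact m h3
  · have h3 := l' (Or.inr (Or.inl rfl)) (r p3)
    rw [q.aa', neg_one_mul, neg_neg] at h3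
    exact m h3
  · exact absurd (d _ q.rot.zb) e

end Cfsg.Agent.TH.Cl.Ext
end

private theorem dce_e2df72c65045 : _root_.True := by
  try have : _root_.True := by simp only [_root_.Cfsg.Agent.TH.Cl.Ext.ad.eq_1]
  try have : _root_.True := by simp only [_root_.Cfsg.Agent.TH.Cl.Ext.blk.eq_1]
  try have : _root_.True := by simp only [_root_.Cfsg.Agent.TH.Cl.Ext.Un.eq_1]
  try have : _root_.True := by simp only [_root_.Cfsg.Agent.TH.Cl.Ext.sg.eq_1]
  try have : _root_.True := by simp only [_root_.Cfsg.Agent.TH.Cl.Ext.pr.eq_1]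
  try have : _root_.True := by simp only [_root_.Cfsg.Agent.TH.Cl.Ext.oo.eq_1]
  try have : _root_.True := by simp only [_root_.Cfsg.Agent.TH.Cl.Ext.hm.eq_1]
  exact _root_.True.intro
end

-- part: TH/Alt/Impr
section
prune_inst 0x953025444562120000180512502021646400059200600401fde20e400b4ef3628d8329414da01d171a7ab7010041044811100070420000000a0004000005002088aa5204b37c010c26009f803087180c00000000000000000000000000051004000000000
set_option linter.all false
open scoped Cfsg.Agent.FastGrp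

/-!
# S3541, alternating socles: imprimitive point stabilisers (helper72)
-/

set_option autoImplicit false
set_option linter.unusedSectionVars false

namespace Cfsg.Agent.TH.Alt

open Equiv Equiv.Perm MulAction

variable {α : Type*} [Fintype α] [DecidableEq α] {ι : Type*} [DecidableEq ι] {f : α → ι}

/-- the stabiliser of the partition into the fibres of `f` -/
def Par (f : α → ι) : Subgroup (Perm α) where
  carrier := {σ | ∀ a b, f (σ a) = f (σ b) ↔ f a = f b}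
  mul_mem' := fun {σ τ} h1 h2 a b => by rw [mul_apply, mul_apply, h1, h2]
  one_mem' := fun a b => Iff.rfl
  inv_mem' := fun {σ} h a b => by rw [← h, ap_inv, ap_inv]

theorem swap_mem_Par {a b : α} (h : f a = f b) : swap a b ∈ Par f := by
  have h1 : ∀ c, f (swap a b c) = f c := fun c => by
    rw [swap_apply_def]
    split_ifs with h1 h2
    · rw [h1, h]
    · rw [h2, h]
    · rfl
  intro c d
  rw [h1, h1]

theorem mem_inf_cj_Par {g σ : Perm α} (h : σ ∈ Par f ⊓ cj g (Par f)) (a b : α) :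
    (f (σ a) = f (σ b) ↔ f a = f b) ∧ (f (g⁻¹ (σ a)) = f (g⁻¹ (σ b)) ↔ f (g⁻¹ a) = f (g⁻¹ b)) := by
  refine ⟨h.1 a b, ?_⟩
  have := mem_cj.1 h.2 (g⁻¹ a) (g⁻¹ b)
  simpa only [mul_apply, ap_inv] using this

theorem exists_blockswap (hT : ∀ x y, ∃ σ ∈ Par f, σ x = y) {x y : α} (hxy : f x ≠ f y) :
    ∃ σ ∈ Par f, σ x = y ∧ σ y = x ∧ ∀ z, f z ≠ f x → f z ≠ f y → σ z = z := by
  obtain ⟨h, hh, hx⟩ := hT x y
  have h1 : ∀ z, f z = f x → f (h z) = f y := fun z hz => by rw [← hx, hh, hz]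
  have h2 : ∀ z, f z = f y → f (h⁻¹ z) = f x := fun z hz => by rw [← hh, ap_inv, hx, hz]
  let s : α → α := fun z => if f z = f x then h z else if f z = f y then h⁻¹ z else z
  have s1 : ∀ z, f z = f x → s z = h z := fun z hz => if_pos hz
  have s2 : ∀ z, f z = f y → s z = h⁻¹ z := fun z hz => (if_neg fun h3 => hxy (h3.symm.trans hz)).trans (if_pos hz)
  have s3 : ∀ z, f z ≠ f x → f z ≠ f y → s z = z := fun z h3 h4 => (if_neg h3).trans (if_neg h4)
  have s4 : Function.Involutive s := fun z => by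
    by_cases h3 : f z = f x
    · rw [s1 z h3, s2 _ (h1 z h3), inv_ap]
    · by_cases h4 : f z = f y
      · rw [s2 z h4, s1 _ (h2 z h4), ap_inv]
      · rw [s3 z h3 h4, s3 z h3 h4]
  have s5 : ∀ z, f (s z) = swap (f x) (f y) (f z) := fun z => by
    by_cases h3 : f z = f x
    · rw [s1 z h3, h1 z h3, h3, swap_apply_left]
    · by_cases h4 : f z = f y
      · rw [s2 z h4, h2 z h4, h4, swap_apply_right]
      · rw [s3 z h3 h4, swap_apply_of_ne_of_ne h3 h4]
  refine ⟨s4.toPerm s, fun a b => ?_, (s1 x rfl).trans hx, (s2 y rfl).trans (by rw [← hx, inv_ap]), s3⟩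
  show f (s a) = f (s b) ↔ _
  rw [s5, s5, (swap (f x) (f y)).injective.eq_iff]

theorem card_one_ge (hT : ∀ x y, ∃ σ ∈ Par f, σ x = y) {x y : α} (hxy : f x ≠ f y) :
    2 * Nat.card (St (St (Par f) x) y) ≤ Nat.card ↥(Par f ⊓ cj (swap x y) (Par f)) := by
  have h0 : x ≠ y := fun h => hxy (h ▸ rfl)
  have h1 := card_St_ge (X := Par f ⊓ cj (swap x y) (Par f)) (x := x) {x, y} fun t ht => by
    rcases Finset.mem_insert.1 ht with rfl | ht
    · exact ⟨1, one_mem _, rfl⟩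
    · obtain ⟨σ, h1, h2, h3, -⟩ := exists_blockswap hT hxy
      exact ⟨σ, mem_cj_swap h1 (Or.inr ⟨h2, h3⟩), h2.trans (Finset.mem_singleton.1 ht).symm⟩
  rw [Finset.card_pair h0] at h1
  refine le_trans (Nat.mul_le_mul_left _ (card_mono fun σ hσ => ?_)) h1
  exact ⟨mem_cj_swap hσ.1.1 (Or.inl ⟨hσ.1.2, hσ.2⟩), hσ.1.2⟩

theorem swap_not_mem_Par {x y x' : α} (hxy : f x ≠ f y) (h1 : x' ≠ x) (h2 : f x' = f x) : swap x y ∉ Par f :=
  fun h => by
  have h3 := (h x x').2 h2.symm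
  rw [swap_apply_left, swap_apply_of_ne_of_ne h1 fun h4 => hxy (by rw [← h2, h4])] at h3
  exact hxy (h2.symm.trans h3.symm)

theorem exists_move (hT : ∀ x y, ∃ σ ∈ Par f, σ x = y) {x y z t : α} (h1 : f z ≠ f x) (h2 : f z ≠ f y)
    (h3 : f t ≠ f x) (h4 : f t ≠ f y) : ∃ σ ∈ St (St (Par f) x) y, σ z = t := by
  by_cases h : f z = f t
  · exact ⟨swap z t, ⟨⟨swap_mem_Par h, swap_apply_of_ne_of_ne (fun h => h1 (h ▸ rfl)) fun h => h3 (h ▸ rfl)⟩,
      swap_apply_of_ne_of_ne (fun h => h2 (h ▸ rfl)) fun h => h4 (h ▸ rfl)⟩, swap_apply_left _ _⟩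
  · obtain ⟨σ, h5, h6, -, h7⟩ := exists_blockswap hT h
    exact ⟨σ, ⟨⟨h5, h7 x h1.symm h3.symm⟩, h7 y h2.symm h4.symm⟩, h6⟩

attribute [-instance] instNoNatZeroDivisorsOfIsAddTorsionFree instIsCharPOfIsLeftCancelAddOfCharP in
/-- at least three blocks -/
theorem impr_three (hC : Cmp (Par f)) (hT : ∀ x y, ∃ σ ∈ Par f, σ x = y) (h2 : ∀ t, ∃ t', t' ≠ t ∧ f t' = f t)
    {x y z : α} (hxy : f x ≠ f y) (hxz : f x ≠ f z) (hyz : f y ≠ f z) {p q : α} (hpq : p ≠ q) (hf : f p = f q)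
    (hp : p ≠ x ∧ p ≠ y ∧ p ≠ z) (hq : q ≠ x ∧ q ≠ y ∧ q ≠ z) (D : Finset α) (hD : ∀ t ∈ D, f t ≠ f x ∧ f t ≠ f y)
    (T : Finset α)
    (hS : ∀ t, t ≠ x → t ≠ y → t ≠ z → (∀ t', t' ≠ x → t' ≠ y → t' ≠ z → f t' = f t → t' = t) → t ∈ T)
    (hx : x ∈ T) (hy : y ∈ T) (hz : z ∈ T) : 2 * D.card ≤ T.card := by
  have e1 : x ≠ y := fun h => hxy (h ▸ rfl)
  have e2 : x ≠ z := fun h => hxz (h ▸ rfl)
  have e3 : y ≠ z := fun h => hyz (h ▸ rfl)
  set W := Par f with hW
  set g := swap x z * swap x y with hg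
  have hg0 : ∀ a, g⁻¹ a = if a = x then z else if a = y then x else if a = z then y else a := fun a => by
    rw [hg, mul_inv_rev, swap_inv, swap_inv, mul_apply, swap_apply_def, swap_apply_def]
    split_ifs <;> grind
  have g1 : g⁻¹ x = z := by rw [hg0, if_pos rfl]
  have g2 : g⁻¹ y = x := by rw [hg0, if_neg e1.symm, if_pos rfl]
  have g3 : g⁻¹ z = y := by rw [hg0, if_neg e2.symm, if_neg e3.symm, if_pos rfl]
  have g4 : ∀ a, a ≠ x → a ≠ y → a ≠ z → g⁻¹ a = a := fun a h1 h2 h3 => by rw [hg0, if_neg h1, if_neg h2, if_neg h3]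
  obtain ⟨x', hx1, hx2⟩ := h2 x
  obtain ⟨y', hy1, hy2⟩ := h2 y
  have a1 := swap_not_mem_Par hxy hx1 hx2
  have a2 : g ∉ W := fun h => by
    have h3 := (W.inv_mem h x x').2 hx2.symm
    rw [g1, g4 x' hx1 (by (clear * - hxy hx2; grobner)) (by (clear * - hxz hx2; grobner))] at h3
    (clear * - hxz hx2 h3; grobner)
  have a3 : swap p q ∈ W ⊓ cj g W := by
    refine ⟨swap_mem_Par hf, mem_cj.2 ?_⟩
    have h3 : g⁻¹ * swap p q * g = swap p q := by
      have h4 := swap_apply_apply g⁻¹ p q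
      rw [inv_inv, g4 p hp.1 hp.2.1 hp.2.2, g4 q hq.1 hq.2.1 hq.2.2] at h4
      exact h4.symm
    rw [h3]
    exact swap_mem_Par hf
  have b0 := hC _ a1 _ a2 ⟨_, a3, sign_swap hpq⟩
  have b1 := card_one_ge hT hxy
  have b2 := card_St_ge (X := St (St W x) y) (x := z) D fun t ht =>
    exists_move hT hxz.symm hyz.symm (hD t ht).1 (hD t ht).2
  have b3 := card_St_le (X := W ⊓ cj g W) (x := x) T fun σ hσ => by
    by_cases c1 : σ x = x
    · rwa [c1]
    by_cases c2 : σ x = y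
    · rwa [c2]
    by_cases c3 : σ x = z
    · rwa [c3]
    refine hS _ c1 c2 c3 fun t' c4 c5 c6 c7 => ?_
    obtain ⟨u, rfl⟩ := σ.surjective t'
    obtain ⟨c8, c9⟩ := mem_inf_cj_Par hσ u x
    rw [g4 _ c1 c2 c3, g4 _ c4 c5 c6, g1] at c9
    by_contra c10
    have c11 : u ≠ x := fun h => c10 (h ▸ rfl)
    rw [g4 u c11 (by (clear * - hxy c7 c8; grobner)) (by (clear * - hxz c7 c8; grobner))] at c9
    (clear * - hxz c7 c8 c9; grobner)
  have b4 : Nat.card (St (W ⊓ cj g W) x) ≤ Nat.card (St (St (St W x) y) z) := by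
    refine card_mono fun σ hσ => ?_
    obtain ⟨c1, c2⟩ := hσ
    have c2' : σ x = x := c2
    have c3 : σ y = y := by
      have d1 := (mem_inf_cj_Par c1 x' x).1.2 hx2
      have d2 := (mem_inf_cj_Par c1 y x).1
      have d3 := (mem_inf_cj_Par c1 y x').2
      have d4 : σ x' ≠ x := fun h => hx1 (σ.injective (h.trans c2'.symm))
      rw [c2'] at d1 d2
      rw [g2, g4 x' hx1 (by (clear * - hxy hx2; grobner)) (by (clear * - hxz hx2; grobner)), g4 (σ x') d4 (by (clear * - hxy d1; grobner)) (by (clear * - hxz d1; grobner)), hg0] at d3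
      (clear * - hxy hxz hx2 d1 d2 d3; grind)
    have c4 : σ z = z := by
      have d1 := (mem_inf_cj_Par c1 y' y).1.2 hy2
      have d2 := (mem_inf_cj_Par c1 z y).1
      have d3 := (mem_inf_cj_Par c1 z y').2
      have d4 : σ y' ≠ y := fun h => hy1 (σ.injective (h.trans c3.symm))
      rw [c3] at d1 d2
      rw [g3, g4 y' (by (clear * - hxy hy2; grobner)) hy1 (by (clear * - hyz hy2; grobner)), g4 (σ y') (by (clear * - hxy d1; grobner)) d4 (by (clear * - hyz d1; grobner)), hg0] at d3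
      (clear * - hxy hyz hy2 d1 d2 d3; grind)
    exact ⟨⟨⟨c1.1, c2⟩, c3⟩, c4⟩
  have b5 : 0 < Nat.card (St (St (St W x) y) z) := Nat.card_pos
  refine Nat.le_of_mul_le_mul_right ?_ b5
  calc 2 * D.card * Nat.card (St (St (St W x) y) z) = 2 * (D.card * Nat.card (St (St (St W x) y) z)) := mul_assoc _ _ _
    _ ≤ 2 * Nat.card (St (St W x) y) := Nat.mul_le_mul_left _ b2
    _ ≤ T.card * Nat.card (St (W ⊓ cj g W) x) := b1.trans (b0.trans b3)
    _ ≤ _ := Nat.mul_le_mul_left _ b4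

attribute [-instance] instNoNatZeroDivisorsOfIsAddTorsionFree instIsCharPOfIsLeftCancelAddOfCharP in
/-- two blocks -/
theorem impr_two (hC : Cmp (Par f)) (hT : ∀ x y, ∃ σ ∈ Par f, σ x = y) {x y : α} (hxy : f x ≠ f y)
    (h2 : ∀ t, f t = f x ∨ f t = f y) {a : ℕ} (ha : ∀ t, (Finset.univ.filter fun u => f u = f t).card = a)
    (h3 : 3 ≤ a) : (a - 1) * (a - 1) ≤ Fintype.card α := by
  obtain ⟨x', hx1, hx2, x'', hx3, hx4, hx5⟩ : ∃ x', x' ≠ x ∧ f x' = f x ∧ ∃ x'', x'' ≠ x ∧ f x'' = f x ∧ x' ≠ x'' := by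
    have h4 : 1 < ((Finset.univ.filter fun u => f u = f x).erase x).card := by
      rw [Finset.card_erase_of_mem (by simp only [_root_.Finset.mem_filter, _root_.Finset.mem_univ, _root_.and_self]), ha]; omega
    obtain ⟨b, hb, c, hc, hbc⟩ := Finset.one_lt_card.1 h4
    simp only [Finset.mem_erase, Finset.mem_filter, Finset.mem_univ, true_and] at hb hc
    exact ⟨b, hb.1, hb.2, c, hc.1, hc.2, hbc⟩
  obtain ⟨y', hy1, hy2⟩ : ∃ y', y' ≠ y ∧ f y' = f y := by
    have h4 : 0 < ((Finset.univ.filter fun u => f u = f y).erase y).card := by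
      rw [Finset.card_erase_of_mem (by simp only [_root_.Finset.mem_filter, _root_.Finset.mem_univ, _root_.and_self]), ha]; omega
    obtain ⟨b, hb⟩ := Finset.card_pos.1 h4
    simp only [Finset.mem_erase, Finset.mem_filter, Finset.mem_univ, true_and] at hb
    exact ⟨b, hb⟩
  set W := Par f with hW
  set g := swap x y * swap x' y' with hg
  have hg0 : ∀ a, g⁻¹ a = if a = x then y else if a = y then x else if a = x' then y' else if a = y' then x' else a :=
    fun a => by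
    rw [hg, mul_inv_rev, swap_inv, swap_inv, mul_apply, swap_apply_def, swap_apply_def]
    split_ifs <;> grobner
  have g1 : ∀ a, f (g⁻¹ a) = f y ↔ (f a = f y ∧ a ≠ y ∧ a ≠ y') ∨ a = x ∨ a = x' := fun a => by
    rw [hg0]
    split_ifs <;> grobner
  have a1 := swap_not_mem_Par hxy hx1 hx2
  have a2 : g ∉ W := fun h => by
    have h3 := (W.inv_mem h x x'').2 hx4.symm
    have h4 := g1 x
    have h5 := g1 x''
    (clear * - hxy hx3 hx4 hx5 h3 h4 h5; grobner)
  have a3 : swap x x' ∈ W ⊓ cj g W := by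
    refine ⟨swap_mem_Par hx2.symm, mem_cj.2 ?_⟩
    have h4 := swap_apply_apply g⁻¹ x x'
    rw [inv_inv] at h4
    rw [← h4]
    exact swap_mem_Par (((g1 x).2 (by simp)).trans ((g1 x').2 (by simp)).symm)
  have b0 := hC _ a1 _ a2 ⟨_, a3, sign_swap hx1.symm⟩
  have b1 := card_one_ge hT hxy
  rw [← hW] at b1
  have b2 := card_St_ge (X := St (St W x) y) (x := x') ((Finset.univ.filter fun u => f u = f x).erase x) fun t ht => by
    simp only [Finset.mem_erase, Finset.mem_filter, Finset.mem_univ, true_and] at ht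
    refine ⟨swap x' t, ⟨⟨swap_mem_Par (hx2.trans ht.2.symm), ?_⟩, ?_⟩, swap_apply_left _ _⟩
    · exact swap_apply_of_ne_of_ne hx1.symm ht.1.symm
    · exact swap_apply_of_ne_of_ne (by (clear * - hxy hx2; grobner)) (by (clear * - hxy ht; grobner))
  have b3 := card_St_ge (X := St (St (St W x) y) x') (x := y') ((Finset.univ.filter fun u => f u = f y).erase y)
    fun t ht => by
    simp only [Finset.mem_erase, Finset.mem_filter, Finset.mem_univ, true_and] at ht
    refine ⟨swap y' t, ⟨⟨⟨swap_mem_Par (hy2.trans ht.2.symm), ?_⟩, ?_⟩, ?_⟩, swap_apply_left _ _⟩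
    · exact swap_apply_of_ne_of_ne (by (clear * - hxy hy2; grobner)) (by (clear * - hxy ht; grobner))
    · exact swap_apply_of_ne_of_ne hy1.symm ht.1.symm
    · exact swap_apply_of_ne_of_ne (by (clear * - hxy hx2 hy2; grobner)) (by (clear * - hxy hx2 ht; grobner))
  have hKy : ∀ σ ∈ St (W ⊓ cj g W) x, ∀ a, (a = y ∨ a = y') → (σ a = y ∨ σ a = y') := fun σ hσ a ha => by
    have c2 : σ x = x := hσ.2
    obtain ⟨d1, d2⟩ := mem_inf_cj_Par hσ.1 a x
    rw [c2] at d1 d2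
    rw [(g1 x).2 (by simp), g1, g1] at d2
    have d3 := h2 (σ a)
    (clear * - hxy h2 hx1 hx2 hx4 hy2 hg0 g1 ha c2 d1 d2 d3; grind)
  have b4 := card_St_le (X := W ⊓ cj g W) (x := x) Finset.univ fun σ _ => Finset.mem_univ _
  have b5 := card_St_le (X := St (W ⊓ cj g W) x) (x := y) {y, y'} fun σ hσ => by
    simpa using hKy σ hσ y (Or.inl rfl)
  have b6 : Nat.card (St (St (W ⊓ cj g W) x) y) ≤ Nat.card (St (St (St (St W x) y) x') y') := by
    refine card_mono fun σ hσ => ?_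
    obtain ⟨⟨c1, c2⟩, c3⟩ := hσ
    have c2' : σ x = x := c2
    have c3' : σ y = y := c3
    refine ⟨⟨⟨⟨c1.1, c2⟩, c3⟩, ?_⟩, ?_⟩
    · obtain ⟨d1, d2⟩ := mem_inf_cj_Par c1 x' x
      rw [c2'] at d1 d2
      rw [(g1 x).2 (by simp), g1, g1] at d2
      have d4 : σ x' ≠ x := fun h => hx1 (σ.injective (h.trans c2'.symm))
      show σ x' = x'
      (clear * - hxy hx2 d1 d2 d4; grobner)
    · exact (hKy σ ⟨c1, c2⟩ y' (Or.inr rfl)).resolve_left fun h => hy1 (σ.injective (h.trans c3'.symm))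
  rw [Finset.card_erase_of_mem (by simp only [_root_.Finset.mem_filter, _root_.Finset.mem_univ, _root_.and_self]), ha] at b2 b3
  rw [Finset.card_univ] at b4
  rw [Finset.card_pair hy1.symm] at b5
  have b7 : 0 < Nat.card (St (St (St (St W x) y) x') y') := Nat.card_pos
  refine Nat.le_of_mul_le_mul_right ?_ b7
  have b8 := (Nat.mul_le_mul_left (a - 1) b3).trans b2
  have b9 := b4.trans (Nat.mul_le_mul_left _ (b5.trans (Nat.mul_le_mul_left _ b6)))
  rw [mul_left_comm] at b9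
  rw [mul_assoc]
  omega

attribute [-instance] instNoNatZeroDivisorsOfIsAddTorsionFree instIsCharPOfIsLeftCancelAddOfCharP in
theorem not_cmp_Par (hn : 7 ≤ Fintype.card α) (hT : ∀ x y, ∃ σ ∈ Par f, σ x = y) {x y : α} (hxy : f x ≠ f y)
    {u v : α} (huv : u ≠ v) (hf : f u = f v) : ¬ Cmp (Par f) := by
  intro hC
  obtain ⟨a, ha⟩ : ∃ a, ∀ t, (Finset.univ.filter fun w => f w = f t).card = a := by
    refine ⟨(Finset.univ.filter fun w => f w = f x).card, fun t => ?_⟩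
    obtain ⟨σ, h1, h2⟩ := hT t x
    refine Finset.card_bijective σ σ.bijective fun w => ?_
    simp only [Finset.mem_filter, Finset.mem_univ, true_and]
    rw [← h2, h1]
  have a2 : 2 ≤ a := by
    rw [← ha u]
    exact Finset.one_lt_card.2 ⟨u, by simp only [_root_.Finset.mem_filter, _root_.Finset.mem_univ, _root_.and_self], v, by simp [hf], huv⟩
  have h2 : ∀ t, ∃ t', t' ≠ t ∧ f t' = f t := fun t => by
    have h4 : 0 < ((Finset.univ.filter fun w => f w = f t).erase t).card := by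
      rw [Finset.card_erase_of_mem (by simp), ha]; omega
    obtain ⟨b, hb⟩ := Finset.card_pos.1 h4
    simp only [Finset.mem_erase, Finset.mem_filter, Finset.mem_univ, true_and] at hb
    exact ⟨b, hb⟩
  by_cases h3 : ∀ t, f t = f x ∨ f t = f y
  · have h4 : Fintype.card α ≤ a + a := by
      rw [← Finset.card_univ]
      nth_rw 1 [← ha x]
      rw [← ha y]
      refine le_trans (Finset.card_le_card fun t _ => ?_) (Finset.card_union_le _ _)
      simpa only [_root_.Finset.mem_union, _root_.Finset.mem_filter, _root_.Finset.mem_univ, _root_.true_and] using h3 t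
    have h5 := impr_two hC hT hxy h3 ha (by omega)
    obtain ⟨b, rfl⟩ : ∃ b, a = b + 4 := ⟨a - 4, by omega⟩
    have h6 : (b + 3) * (b + 3) ≤ Fintype.card α := h5
    nlinarith only [h4, h6]
  push Not at h3
  obtain ⟨z, hzx, hzy⟩ := h3
  obtain ⟨z', hz1, hz2⟩ := h2 z
  rcases a2.eq_or_lt with rfl | a3
  · let T := ((Finset.univ.filter fun w => f w = f x) ∪ (Finset.univ.filter fun w => f w = f y)) ∪
      (Finset.univ.filter fun w => f w = f z)
    have hT6 : T.card ≤ 6 := by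
      refine (Finset.card_union_le _ _).trans ?_
      have := Finset.card_union_le (Finset.univ.filter fun w => f w = f x) (Finset.univ.filter fun w => f w = f y)
      rw [ha, ha] at this
      rw [ha]
      omega
    have hTm : ∀ t, t ∈ T ↔ f t = f x ∨ f t = f y ∨ f t = f z := fun t => by simp only [T, _root_.Finset.union_assoc, _root_.Finset.mem_union, _root_.Finset.mem_filter, _root_.Finset.mem_univ, _root_.true_and]
    obtain ⟨w, hw⟩ : ∃ w, w ∉ T := by
      by_contra h4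
      push Not at h4
      have h5 := Finset.card_le_card (s := Finset.univ) (t := T) fun t _ => h4 t
      rw [Finset.card_univ] at h5
      omega
    obtain ⟨w', hw1, hw2⟩ := h2 w
    rw [hTm] at hw
    have h5 := impr_three hC hT h2 hxy hzx.symm hzy.symm hw1 hw2 (by (clear * - hw hw2; grind)) (by (clear * - hw; grind)) {z, z', w, w'} (by (clear * - hzx hzy hz1 hz2 hTm hw hw2; grind)) T
      (fun t _ _ _ h4 => by
        rw [hTm]
        by_contra h5
        obtain ⟨t', h6, h7⟩ := h2 t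
        exact h6 (h4 t' (by (clear * - h5 h7; grobner)) (by (clear * - h5 h7; grobner)) (by (clear * - h5 h7; grobner)) h7))
      (by simp [hTm]) (by simp [hTm]) (by simp [hTm])
    rw [Finset.card_insert_of_notMem (by (clear * - hz1 hTm hw hw2; grind)), Finset.card_insert_of_notMem (by (clear * - hz2 hw hw2; grind)),
      Finset.card_pair hw1.symm] at h5
    omega
  · have h4 : ∀ t t', ∃ s, s ≠ t ∧ s ≠ t' ∧ f s = f t := fun t t' => by
      have h4 : 1 < ((Finset.univ.filter fun w => f w = f t).erase t).card := by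
        rw [Finset.card_erase_of_mem (by simp only [_root_.Finset.mem_filter, _root_.Finset.mem_univ, _root_.and_self]), ha]; omega
      obtain ⟨b, hb, c, hc, hbc⟩ := Finset.one_lt_card.1 h4
      simp only [Finset.mem_erase, Finset.mem_filter, Finset.mem_univ, true_and] at hb hc
      by_cases h5 : b = t'
      · exact ⟨c, hc.1, fun h => hbc (h5.trans h.symm), hc.2⟩
      · exact ⟨b, hb.1, h5, hb.2⟩
    obtain ⟨p, hp1, hp2⟩ := h2 x
    obtain ⟨q, hq1, hq2, hq3⟩ := h4 x p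
    have h5 := impr_three hC hT h2 hxy hzx.symm hzy.symm hq2 (hq3.trans hp2.symm) (by (clear * - hxy hzx hq1 hq3; grind)) (by (clear * - hxy hzx hp1 hp2; grind)) {z, z'}
      (by (clear * - hzx hzy hz2; grind)) {x, y, z}
      (fun t _ _ _ h5 => by
        exfalso
        by_cases h6 : f t = f x
        · obtain ⟨s, h7, h8, h9⟩ := h4 t x
          exact h7 (h5 s h8 (by (clear * - hxy h6 h9; grobner)) (by (clear * - hzx h6 h9; grobner)) h9)
        by_cases h6' : f t = f y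
        · obtain ⟨s, h7, h8, h9⟩ := h4 t y
          exact h7 (h5 s (by (clear * - hxy h6' h9; grobner)) h8 (by (clear * - hzy h6' h9; grobner)) h9)
        · obtain ⟨s, h7, h8, h9⟩ := h4 t z
          exact h7 (h5 s (by (clear * - h6 h9; grobner)) (by (clear * - h6' h9; grobner)) h8 h9))
      (by simp) (by simp) (by simp)
    rw [Finset.card_pair hz1.symm] at h5
    have := Finset.card_le_three (a := x) (b := y) (c := z)
    omega

/-- the imprimitive case -/
theorem impr {Γ : Subgroup (Perm α)} (hA : alternatingGroup α ≤ Γ) (hn : 7 ≤ Fintype.card α) {m : ℕ}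
    {H : Subgroup Γ} (hH : Half H m) (h : IsPretransitive (H.map Γ.subtype) α) :
    IsPreprimitive (H.map Γ.subtype) α := by
  classical
  refine ⟨fun {B} hB => ?_⟩
  by_contra h1
  rw [IsTrivialBlock, not_or, Set.not_subsingleton_iff, ← Ne, Set.ne_univ_iff_exists_notMem] at h1
  obtain ⟨⟨u, hu, v, hv, huv⟩, y, hy⟩ := h1
  let r : Setoid α :=
    { r := fun a b => ∃ σ : H.map Γ.subtype, σ • a ∈ B ∧ σ • b ∈ B
      iseqv :=
        { refl := fun a => by
            obtain ⟨σ, hσ⟩ := exists_smul_eq (H.map Γ.subtype) a u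
            exact ⟨σ, hσ ▸ hu, hσ ▸ hu⟩
          symm := fun ⟨σ, h1, h2⟩ => ⟨σ, h2, h1⟩
          trans := fun {a b c} ⟨σ, h1, h2⟩ ⟨τ, h3, h4⟩ => by
            refine ⟨τ, ?_, h4⟩
            have h5 := hB.smul_eq_of_mem (g := τ * σ⁻¹) h2 (by rwa [mul_smul, inv_smul_smul])
            rw [← h5]
            exact ⟨σ • a, h1, by show (τ * σ⁻¹) • σ • a = _; rw [mul_smul, inv_smul_smul]⟩ } }
  let f : α → Quotient r := Quotient.mk r
  have hf : ∀ a b, f a = f b ↔ ∃ σ : H.map Γ.subtype, σ • a ∈ B ∧ σ • b ∈ B := fun a b => Quotient.eq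
  have h2 : H.map Γ.subtype ≤ Par f := fun σ hσ a b => by
    rw [hf, hf]
    constructor
    · rintro ⟨τ, h3, h4⟩
      exact ⟨τ * ⟨σ, hσ⟩, by rwa [mul_smul], by rwa [mul_smul]⟩
    · rintro ⟨τ, h3, h4⟩
      refine ⟨τ * (⟨σ, hσ⟩ : H.map Γ.subtype)⁻¹, ?_, ?_⟩
      · show (τ * (⟨σ, hσ⟩ : H.map Γ.subtype)⁻¹) • (⟨σ, hσ⟩ : H.map Γ.subtype) • a ∈ B
        rwa [mul_smul, inv_smul_smul]
      · show (τ * (⟨σ, hσ⟩ : H.map Γ.subtype)⁻¹) • (⟨σ, hσ⟩ : H.map Γ.subtype) • b ∈ B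
        rwa [mul_smul, inv_smul_smul]
  have h3 : f u = f v := (hf u v).2 ⟨1, by rwa [one_smul], by rwa [one_smul]⟩
  have h4 : f u ≠ f y := fun h4 => by
    obtain ⟨σ, h5, h6⟩ := (hf u y).1 h4
    have h7 := hB.smul_eq_of_mem hu h5
    rw [← h7, Set.smul_mem_smul_set_iff] at h6
    exact hy h6
  have h5 : ¬ alternatingGroup α ≤ Par f := fun h5 => by
    have e1 : u ≠ y := fun h => hy (h ▸ hu)
    have e2 : v ≠ y := fun h => hy (h ▸ hv)
    have h6 : IsMultiplyPretransitive (alternatingGroup α) α 2 := by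
      have := alternatingGroup.isMultiplyPretransitive α
      exact isMultiplyPretransitive_of_le (n := Nat.card α - 2) (by rw [Nat.card_eq_fintype_card]; omega)
        (Nat.sub_le _ _)
    obtain ⟨σ, h7, h8⟩ := is_two_pretransitive_iff.1 h6 huv e1
    have h7' : (σ : Perm α) u = u := h7
    have h8' : (σ : Perm α) v = y := h8
    have h9 := (h5 σ.2 u v).2 h3
    rw [h7', h8'] at h9
    exact h4 h9
  have h6 := eq_subgroupOf hA hH h2 h5
  refine not_cmp_Par hn (fun a b => ?_) h4 huv h3 (cmp_of hA (h6 ▸ hH))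
  obtain ⟨σ, hσ⟩ := exists_smul_eq (H.map Γ.subtype) a b
  exact ⟨σ, h2 σ.2, hσ⟩

end Cfsg.Agent.TH.Alt

private theorem dce_e4838bb53106 : _root_.True := by
  try have : _root_.True := by simp only [_root_.Cfsg.Agent.TH.Alt.Cmp.congr_simp]
  exact _root_.True.intro
end

-- part: TH/Cl/Ten/Red
section
prune_inst 0x95306544554012000018050270201d46f6000592006b000018020e4006ceff4028c70f61f4e01916123a0b5560310448111000204020000000000800011d00a0880840008208a90c26000f807887180c00000000000000000000000000051004000000000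
set_option linter.all false
open scoped Cfsg.Agent.FastGrp

-- part: TH/Cl/Ten/Key
section
/-!
# S3541, tensor decompositions: the elements `s π + (1 - π)` (helper94)

`B` is a factor, `π` a symmetric idempotent commuting with `B`.  An element `y` of the unitary group of `B` which
permutes the factors after conjugation with `g = s π + (1 - π)` commutes with `s`.  So the group `Dt F B` has no
non-central `p`-element.
-/

set_option autoImplicit false
set_option linter.unusedSectionVars false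

namespace Cfsg.Agent.TH.Cl.Ten

open Cfsg.Agent.DS.Cl Cfsg.Agent.DS.Cl.Fwd Cfsg.Agent.SB.Cl
open scoped Pointwise commutatorElement

local notation "cA" => Cfsg.Agent.DS.Cl.cj

variable {A : Type} [Ring A] [StarRing A] [Finite A]

/-- if every element of `D` centralises the stabiliser in `D` of some point, `D` has no `p`-elements -/
theorem grp {F : FR A} {G H : Subgroup (RingAut A)} {m p : ℕ} (c : Ctx F G H m p) {M D : Subgroup (RingAut A)}
    (hM : M ≤ H) (hMn : ∀ a ∈ H, ∀ x ∈ M, a * x * a⁻¹ ∈ M) (hD : D ≤ M) (hDn : ∀ a ∈ M, ∀ x ∈ D, a * x * a⁻¹ ∈ D)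
    (h : ∀ s ∈ D, ∃ g ∈ G, ∀ y ∈ D, g⁻¹ * y * g ∈ H → s * y = y * s) {y : RingAut A} (hy : y ∈ D) {k : ℕ}
    (hk : y ^ p ^ k = 1) : y = 1 := by
  have hY : IsPGroup p (Subgroup.zpowers y) := by
    rintro ⟨_, j, rfl⟩
    refine ⟨k, Subtype.ext ?_⟩
    change (y ^ j) ^ p ^ k = 1
    rw [← zpow_natCast, ← zpow_mul, mul_comm, zpow_mul, zpow_natCast, hk, one_zpow]
  have h1 : ∀ g ∈ G, ∃ b ∈ D, g⁻¹ * (b * y * b⁻¹) * g ∈ H := fun g hg => by
    obtain ⟨b, hb, h2⟩ := c.uni hM hMn hD hDn hY (Subgroup.zpowers_le.2 hy) hg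
    exact ⟨b, hb, mem_cj.1 (h2 ⟨y, Subgroup.mem_zpowers y, rfl⟩)⟩
  have h2 := H427.Cs.eq_top_of_cover ((Subgroup.centralizer {y}).subgroupOf D) fun s => by
    obtain ⟨g, hg, h3⟩ := h s s.2
    obtain ⟨b, hb, h4⟩ := h1 g hg
    have h5 := h3 _ (mul_mem (mul_mem hb hy) (inv_mem hb)) h4
    refine ⟨⟨b, hb⟩, Subgroup.mem_centralizer_singleton_iff.2 ?_⟩
    change b⁻¹ * s * b * y = y * (b⁻¹ * s * b)
    calc b⁻¹ * s * b * y = b⁻¹ * (s * (b * y * b⁻¹)) * b := by group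
      _ = y * (b⁻¹ * s * b) := by rw [h5]; group
  by_contra hne
  obtain ⟨g, hg, -, h3⟩ := c.in.exists_not_le (N := Subgroup.zpowers y) (fun e => hne (Subgroup.zpowers_eq_bot.1 e))
    (Subgroup.zpowers_le.2 (hM (hD hy)))
  obtain ⟨b, hb, h4⟩ := h1 g hg
  have h5 : (⟨b, hb⟩ : D) ∈ (Subgroup.centralizer {y}).subgroupOf D := h2 ▸ Subgroup.mem_top _
  have h6 : b * y = y * b := Subgroup.mem_centralizer_singleton_iff.1 h5
  rw [h6, mul_inv_cancel_right] at h4
  exact h3 (Subgroup.zpowers_le.2 (mem_cj.2 h4))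

/-- the centraliser of a subring -/
abbrev Cz (B : Subring A) : Subring A := Subring.centralizer (B : Set A)

/-- a symmetric idempotent commuting with `B` -/
structure Sy (B : Subring A) (π : A) : Prop where
  mem : π ∈ Cz B
  symm : star π = π
  idem : π * π = π

theorem Sy.compl {B : Subring A} {π : A} (h : Sy B π) : Sy B (1 - π) :=
  ⟨sub_mem (one_mem _) h.mem, by rw [star_sub, star_one, h.symm], by rw [sub_mul, one_mul, mul_sub, mul_one, h.idem]; simp⟩

theorem Sy.one (B : Subring A) : Sy B 1 := ⟨one_mem _, star_one A, mul_one 1⟩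

theorem Sy.map {B : Subring A} {π : A} (h : Sy B π) {γ : RingAut A} (hγ : γ ∈ SAut A) (hB : γ • B = B) :
    Sy B (γ π) := by
  refine ⟨fun x hx => ?_, by rw [← hγ, h.symm], by rw [← map_mul, h.idem]⟩
  have h1 : γ⁻¹ x ∈ B := mem_smul_subring.1 (hB.symm ▸ hx)
  rw [← ra_apply_inv γ x, ← map_mul, ← map_mul, h.mem _ h1]

/-- `a` on the range of `π`, `b` on the kernel -/
def cb (π a b : A) : A := a * π + b * (1 - π)

theorem cb_self (π a : A) : cb π a a = a := by rw [cb, ← mul_add, add_sub_cancel, mul_one]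

theorem Sy.cb_mul {B : Subring A} {π : A} (h : Sy B π) (a b : A) {a' b' : A} (ha : a' ∈ B) (hb : b' ∈ B) :
    cb π a b * cb π a' b' = cb π (a * a') (b * b') := by
  have h1 := h.mem a' ha
  have h2 := h.mem b' hb
  have h3 : π * (a' * π) = a' * π := by rw [← mul_assoc, ← h1, mul_assoc, h.idem]
  have h4 : π * (b' * π) = b' * π := by rw [← mul_assoc, ← h2, mul_assoc, h.idem]
  simp only [cb, mul_add, add_mul, mul_sub, sub_mul, mul_one, mul_assoc, h3, h4, ← h2]
  abel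

theorem Sy.star_cb {B : Subring A} {π : A} (h : Sy B π) {a b : A} (ha : star a ∈ B) (hb : star b ∈ B) :
    star (cb π a b) = cb π (star a) (star b) := by
  rw [cb, cb, star_add, star_mul, star_mul, h.symm, h.compl.symm, h.mem _ ha, h.compl.mem _ hb]

theorem Sy.cb_left {B : Subring A} {π : A} (h : Sy B π) (a b : A) : cb π a b * π = a * π := by
  rw [cb, add_mul, mul_assoc, mul_assoc, h.idem, sub_mul, one_mul, h.idem, sub_self, mul_zero, add_zero]

theorem Sy.cb_right {B : Subring A} {π : A} (h : Sy B π) (a b : A) : cb π a b * (1 - π) = b * (1 - π) := by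
  rw [cb, add_mul, mul_assoc, mul_assoc, h.compl.idem, mul_sub π, mul_one, h.idem, sub_self, mul_zero, zero_add]

/-- a tensor decomposition compatible with the form -/
structure TD (F : FR A) (𝓑 : Set (Subring A)) : Prop where
  ss : SS A
  t : Tens 𝓑
  l : ∀ B ∈ 𝓑, ∃ l ∈ B, l + star l = 1
  cong : ∀ B ∈ 𝓑, ∀ x ∈ B, x + star x = 1 → F.l - x ∈ F.L

theorem iso_of_cong {F : FR A} {x : A} (hx : F.l - x ∈ F.L) {u : Aˣ} (h1 : (u : A) * star (u : A) = 1)
    (h2 : u * x * star (u : A) - x ∈ F.L) : u ∈ F.Iso := by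
  refine ⟨h1, ?_⟩
  convert F.L.sub_mem (F.L.add_mem (F.conj_mem hx u) h2) hx using 1
  noncomm_ring

/-- the unitary elements of `B` all of whose restrictions `s π + (1 - π)` lie in the commutator group -/
def Dt (F : FR A) (B : Subring A) (hs : ∀ x ∈ B, star x ∈ B) : Subgroup Aˣ where
  carrier := {s | (s : A) ∈ B ∧ (s : A) * star (s : A) = 1 ∧
    ∀ π, Sy B π → ∃ g ∈ (⁅F.Iso, F.Iso⁆ : Subgroup Aˣ), (g : A) = cb π s 1}
  one_mem' := ⟨one_mem _, by simp, fun π _ => ⟨1, one_mem _, (cb_self π 1).symm⟩⟩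
  mul_mem' := by
    rintro s t ⟨s1, s2, s3⟩ ⟨t1, t2, t3⟩
    refine ⟨mul_mem s1 t1, ?_, fun π hπ => ?_⟩
    · rw [Units.val_mul, star_mul, mul_assoc, ← mul_assoc (t : A), t2, one_mul, s2]
    · obtain ⟨g, hg, e⟩ := s3 π hπ
      obtain ⟨g', hg', e'⟩ := t3 π hπ
      exact ⟨g * g', mul_mem hg hg', by rw [Units.val_mul, e, e', hπ.cb_mul _ _ t1 (one_mem _), mul_one]; rfl⟩
  inv_mem' := by
    rintro s ⟨s1, s2, s3⟩
    refine ⟨by rw [star_eq_inv s2]; exact hs _ s1, by rw [star_eq_inv s2, star_star, ← star_eq_inv s2, Units.inv_mul],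
      fun π hπ => ?_⟩
    obtain ⟨g, hg, e⟩ := s3 π hπ
    refine ⟨g⁻¹, inv_mem hg, ?_⟩
    rw [FR.Iso.inv_eq (FR.comm_le_Iso hg), e, hπ.star_cb (hs _ s1) (by rw [star_one]; exact one_mem _), star_one,
      star_eq_inv s2]

namespace TD

variable {F : FR A} {𝓑 : Set (Subring A)} (h : TD F 𝓑) {B : Subring A} (hB : B ∈ 𝓑)
include h hB

theorem nzd {r c : A} (hr : r ∈ B) (hc : c ∈ Cz B) (hs : star c = c ∨ star c = -c) (h0 : c ≠ 0) (hrc : r * c = 0) :
    r = 0 := by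
  let I : AddSubgroup A :=
    { carrier := {x | x ∈ B ∧ x * c = 0}
      add_mem' := fun ha hb => ⟨add_mem ha.1 hb.1, by rw [add_mul, ha.2, hb.2, add_zero]⟩
      zero_mem' := ⟨zero_mem _, zero_mul c⟩
      neg_mem' := fun ha => ⟨neg_mem ha.1, by rw [neg_mul, ha.2, neg_zero]⟩ }
  rcases Blk.ss_elim _ (h.t.ss h.ss hB) I (fun _ hx => hx.1)
    (fun x hx a ha => ⟨B.mul_mem ha hx.1, by rw [mul_assoc, hx.2, mul_zero]⟩) (fun x hx => by
      have h1 := h.t.star_mem B hB x hx.1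
      refine ⟨h1, ?_⟩
      have h2 := congrArg star hx.2
      rw [star_mul, star_zero] at h2
      rw [hc _ h1]
      rcases hs with hs | hs <;> rw [hs] at h2
      · exact h2
      · rwa [neg_mul, neg_eq_zero] at h2) with h1 | h1
  · have h2 : r ∈ I := ⟨hr, hrc⟩
    rwa [h1] at h2
  · exact absurd ((one_mul c).symm.trans h1.2) h0

theorem le_Cz {B' : Subring A} (hB' : B' ∈ 𝓑) (hne : B' ≠ B) : B' ≤ Cz B := fun y hy x hx =>
  h.t.comm B hB B' hB' hne.symm x hx y hy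

theorem exists_l : ∃ l ∈ Cz B, l + star l = 1 ∧ F.l - l ∈ F.L := by
  obtain ⟨B', hB', hne⟩ := h.t.exists_ne hB
  obtain ⟨l, hl, hl'⟩ := h.l B' hB'
  exact ⟨l, h.le_Cz hB hB' hne hl, hl', h.cong B' hB' l hl hl'⟩

theorem star_Cz : ∀ x ∈ Cz B, star x ∈ Cz B := star_centralizer (h.t.star_mem B hB)

theorem ss_Cz : SS (Blk.ofSubring (Cz B) (h.star_Cz hB)).T := by
  obtain ⟨B', hB', hne⟩ := h.t.exists_ne hB
  have h1 : B ≠ Cz B := fun e => h.t.not_le B hB fun z hz => h.t.cen_blk hB hz fun y hy => (e ▸ hz : z ∈ Cz B) y hy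
  have h2 : Tens {B, Cz B} := by
    refine ⟨Set.nontrivial_pair h1, ?_, ?_, ?_, ?_, ?_⟩
    · rintro _ (rfl | rfl)
      · exact h.t.cen_le _ hB
      · exact fun z hz y _ => cen_comm hz y
    · rintro _ (rfl | rfl)
      · exact h.t.not_le _ hB
      · exact fun e => h.t.not_le B' hB' ((h.le_Cz hB hB' hne).trans e)
    · rintro _ (rfl | rfl)
      · exact h.t.star_mem _ hB
      · exact h.star_Cz hB
    · rintro _ (rfl | rfl) _ (rfl | rfl) hn x hx y hy
      · exact absurd rfl hn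
      · exact hy x hx
      · exact (hx y hy).symm
      · exact absurd rfl hn
    · rw [eq_top_iff]
      intro a _
      refine h.t.ind (fun B'' hB'' x hx => Subring.subset_closure ?_) a
      simp only [Set.mem_iUnion]
      by_cases e : B'' = B
      · exact ⟨B, Or.inl rfl, e ▸ hx⟩
      · exact ⟨Cz B, Or.inr rfl, h.le_Cz hB hB'' e hx⟩
  exact h2.ss h.ss (Or.inr rfl)

/-- `s π + (1 - π)` is an isometry -/
theorem exists_g {π s : A} (hπ : Sy B π) (hs : s ∈ B) (h1 : s * star s = 1) : ∃ g ∈ F.Iso, (g : A) = cb π s 1 := by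
  have hs' := h.t.star_mem B hB s hs
  have h2 : star (cb π s 1) = cb π (star s) 1 := by
    rw [hπ.star_cb hs' (by rw [star_one]; exact one_mem _), star_one]
  have h3 : cb π s 1 * star (cb π s 1) = 1 := by rw [h2, hπ.cb_mul _ _ hs' (one_mem _), h1, mul_one, cb_self]
  obtain ⟨x, hx, hx'⟩ := h.l B hB
  obtain ⟨l, hl, hl', -⟩ := h.exists_l hB
  refine ⟨mkU _ h3, iso_of_cong (h.cong B hB x hx hx') h3 ?_, rfl⟩
  have h4 : cb π s 1 * x * star (cb π s 1) - x = (s * x * star s - x) * π := by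
    rw [h2]
    conv_lhs => rw [← cb_self π x]
    rw [hπ.cb_mul _ _ hx hx, hπ.cb_mul _ _ hs' (one_mem _), cb, cb]
    noncomm_ring
  have h5 : s * x * star s - x ∈ B := sub_mem (mul_mem (mul_mem hs hx) hs') hx
  have h6 : star (s * x * star s - x) = -(s * x * star s - x) := by
    rw [star_sub, star_mul, star_mul, star_star, eq_sub_of_add_eq' hx', sub_mul, one_mul, mul_sub, h1]
    noncomm_ring
  rw [mkU_val, h4]
  generalize s * x * star s - x = σ at h5 h6
  convert F.sub_star_mem (σ * (π * l * π)) using 1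
  rw [star_mul, h6, mul_neg, sub_neg_eq_add, ← h.star_Cz hB _ (mul_mem (mul_mem hπ.mem hl) hπ.mem) σ h5, star_mul,
    star_mul, hπ.symm, ← mul_add, ← mul_assoc π, ← add_mul, ← mul_add, hl', mul_one, hπ.idem]

/-- **the key lemma** -/
theorem key {π : A} (hπ : Sy B π) (h0 : π ≠ 0) (h1 : π ≠ 1) {z a b : Aˣ} (ha : (a : A) ∈ B)
    (ha' : ((a⁻¹ : Aˣ) : A) ∈ B) (hb : (b : A) ∈ B) (hb' : ((b⁻¹ : Aˣ) : A) ∈ B) (hz : (z : A) = cb π a b)
    (hz' : cA A z • B ∈ 𝓑) : cA A a = cA A b := by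
  have h2 : ((z⁻¹ : Aˣ) : A) = cb π (a⁻¹ : Aˣ) (b⁻¹ : Aˣ) :=
    (Units.eq_inv_of_mul_eq_one_left (by rw [hz, hπ.cb_mul _ _ ha' hb', a.mul_inv, b.mul_inv, cb_self])).symm
  have h3 : ∀ x ∈ B, cA A z x = cb π (cA A a x) (cA A b x) := fun x hx => by
    rw [cj_apply, hz, h2]
    conv_lhs => rw [← cb_self π x]
    rw [hπ.cb_mul _ _ hx hx, hπ.cb_mul _ _ ha' hb', cj_apply, cj_apply]
  have h4 : ∀ {a : Aˣ}, (a : A) ∈ B → ((a⁻¹ : Aˣ) : A) ∈ B → ∀ x ∈ B, cA A a x ∈ B := fun ha ha' x hx =>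
    mul_mem (mul_mem ha hx) ha'
  have h1' : 1 - π ≠ 0 := fun e => h1 (sub_eq_zero.1 e).symm
  by_cases e : cA A z • B = B
  · have h5 : ∀ x ∈ B, cA A a x = cA A b x := fun x hx => by
      have h6 : cA A z x ∈ B := e ▸ apply_mem_smul.2 hx
      have h7 := h.nzd hB (sub_mem h6 (h4 ha ha' x hx)) hπ.mem (Or.inl hπ.symm) h0 (by
        rw [sub_mul, h3 x hx, hπ.cb_left, sub_self])
      have h8 := h.nzd hB (sub_mem h6 (h4 hb hb' x hx)) hπ.compl.mem (Or.inl hπ.compl.symm) h1' (by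
        rw [sub_mul, h3 x hx, hπ.cb_right, sub_self])
      rw [← sub_eq_zero.1 h7, sub_eq_zero.1 h8]
    refine cj_eq_iff.2 ⟨b⁻¹ * a, h.t.cen_blk hB (mul_mem hb' ha) fun y hy => ?_, by group⟩
    have h6 := h5 y hy
    rw [cj_apply, cj_apply] at h6
    calc y * ((b⁻¹ * a : Aˣ) : A) = (b⁻¹ : Aˣ) * (b * y * (b⁻¹ : Aˣ)) * a := by simp [mul_assoc]
      _ = ((b⁻¹ * a : Aˣ) : A) * y := by rw [← h6]; simp [mul_assoc]
  · exfalso
    refine h.t.not_le B hB fun x hx => h.t.cen_blk hB hx fun y hy => ?_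
    have h5 := h.t.comm _ hz' B hB e _ (apply_mem_smul.2 hx) _ (h4 hb hb' y hy)
    have h6 : (cA A b (x * y) - cA A b (y * x)) * (1 - π) = 0 := by
      have h7 := congrArg (· * (1 - π)) h5
      simp only [h3 x hx] at h7
      rw [mul_assoc (cA A b y), hπ.cb_right, mul_assoc, hπ.compl.mem _ (h4 hb hb' y hy), ← mul_assoc, hπ.cb_right,
        mul_assoc, ← hπ.compl.mem _ (h4 hb hb' y hy), ← mul_assoc, ← mul_assoc] at h7
      rw [sub_mul, map_mul, map_mul, h7, sub_self]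
    have h7 := h.nzd hB (sub_mem (h4 hb hb' _ (mul_mem hx hy)) (h4 hb hb' _ (mul_mem hy hx))) hπ.compl.mem
      (Or.inl hπ.compl.symm) h1' h6
    exact ((cA A b).injective (sub_eq_zero.1 h7)).symm

end TD

end Cfsg.Agent.TH.Cl.Ten
end

-- part: TH/Cl/Ten/Red
section
/-!
# S3541, tensor decompositions: the reduction (helper94)

`mem_Dt_of_S2`, `mem_Dt_comm` : unipotent elements of `Dt F B`; `uniD` : **UNI** for `Dt F B`; `no_idem` : no such element
if a proper symmetric idempotent commutes with `B`; `skew_cen` : factors `O₂` do not occur.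
-/

set_option autoImplicit false
set_option linter.unusedSectionVars false

namespace Cfsg.Agent.TH.Cl.Ten

open Cfsg.Agent.DS.Cl Cfsg.Agent.DS.Cl.Fwd Cfsg.Agent.SB.Cl
open scoped Pointwise commutatorElement

local notation "cA" => Cfsg.Agent.DS.Cl.cj

variable {A : Type} [Ring A] [StarRing A] [Finite A]

/-- a long root element `1 + ν` with a totally isotropic idempotent -/
structure S2 (ν ε : A) : Prop where
  ne : ν ≠ 0
  skew : star ν = -ν
  en : ε * ν = ν
  nE : ν * ε = 0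
  es : ε * star ε = 0
  se : star ε * ε = 0

theorem S2.sq {ν ε : A} (h : S2 ν ε) : ν * ν = 0 := by
  conv_lhs => rhs; rw [← h.en]
  rw [← mul_assoc, h.nE, zero_mul]

theorem S2.sn {ν ε : A} (h : S2 ν ε) : star ε * ν = 0 := by
  have h1 := congrArg star h.nE
  rwa [star_mul, h.skew, star_zero, mul_neg, neg_eq_zero] at h1

theorem S2.ns {ν ε : A} (h : S2 ν ε) : ν * star ε = ν := by
  have h1 := congrArg star h.en
  rwa [star_mul, h.skew, neg_mul, neg_inj] at h1

/-- the unit `1 + ν` -/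
def sqU (ν : A) (h : ν * ν = 0) : Aˣ where
  val := 1 + ν
  inv := 1 - ν
  val_inv := by rw [add_mul, mul_sub, mul_sub, h]; simp
  inv_val := by rw [sub_mul, mul_add, mul_add, h]; simp

theorem one_add_pow {ν : A} (h : ν * ν = 0) (k : ℕ) : (1 + ν) ^ k = 1 + k * ν := by
  induction k with
  | zero => simp
  | succ k ih => rw [pow_succ, ih, add_mul, mul_add, mul_add, mul_assoc _ ν ν, h]; push_cast; noncomm_ring

theorem comm_val {a b : A} (ha : a * a = 0) (hb : b * b = 0) (h1 : a * b * a = 0) (h2 : b * a * b = 0) :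
    (1 + a) * (1 + b) * (1 - a) * (1 - b) = 1 + (a * b - b * a) := by
  have e : (1 + a) * (1 + b) * (1 - a) * (1 - b) = 1 + (a * b - b * a) - a * a * (1 - b) - a * b * a * (1 - b)
      - (1 + a) * (b * b) + b * a * b := by noncomm_ring
  rw [e, ha, hb, h1, h2]
  simp

theorem mm {B : Subring A} {α' y : A} (h1 : α' ∈ B) (h2 : y ∈ Cz B) (α y' : A) :
    α * y * (α' * y') = α * α' * (y * y') := by
  rw [mul_assoc, ← mul_assoc y, ← h2 α' h1, mul_assoc, mul_assoc]

theorem not_cen (h : SS A) {ν : A} (h0 : ν ≠ 0) (hn : IsNilpotent ν) : 1 + ν ∉ Subring.center A := fun hc =>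
  h0 (SS_eq_zero h (by simpa using sub_mem hc (one_mem _)) hn)

namespace TD

variable {F : FR A} {𝓑 : Set (Subring A)} (h : TD F 𝓑) {B : Subring A} (hB : B ∈ 𝓑)
include h hB

theorem star_mm {α y : A} (h1 : α ∈ B) (h2 : y ∈ Cz B) : star (α * y) = star α * star y := by
  rw [star_mul, h.star_Cz hB y h2 _ (h.t.star_mem B hB α h1)]

theorem nil {α y : A} (h1 : α ∈ B) (h2 : y ∈ Cz B) (h3 : α * star α = 0) (h4 : star α * α = 0)
    (h5 : α * α * (y * y) = 0) : Nil F (α * y) := by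
  have h1' := h.t.star_mem B hB α h1
  have h2' := h.star_Cz hB y h2
  obtain ⟨l, hl, -, hl'⟩ := h.exists_l hB
  refine ⟨by rw [mm h1 h2, h5], by rw [h.star_mm hB h1 h2, mm h1' h2, h3, zero_mul],
    by rw [h.star_mm hB h1 h2, mm h1 h2', h4, zero_mul], ?_, ?_⟩
  · have h6 : α * y * l * star (α * y) = 0 := by
      rw [h.star_mm hB h1 h2, mul_assoc α, mm h1' (mul_mem h2 hl), h3, zero_mul]
    convert F.conj_mem hl' (α * y) using 1
    rw [mul_sub, sub_mul, h6, sub_zero]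
  · have h6 : star (α * y) * l * (α * y) = 0 := by
      rw [h.star_mm hB h1 h2, mul_assoc (star α), mm h1 (mul_mem h2' hl), h4, zero_mul]
    convert F.conj_mem hl' (star (α * y)) using 1
    rw [star_star, mul_sub, sub_mul, h6, sub_zero]

theorem mem_Dt_of_S2 {ν ε : A} (hν : ν ∈ B) (hε : ε ∈ B) (s : S2 ν ε) {π₀ : A} (hπ₀ : Sy B π₀) (h0 : π₀ ≠ 0)
    (h1 : π₀ ≠ 1) : sqU ν s.sq ∈ Dt F B (h.t.star_mem B hB) := by
  have hε' := h.t.star_mem B hB ε hε
  have hsq : ∀ c ∈ Cz B, ∀ d, ν * c * (ν * d) = 0 := fun c hc d => by rw [mm hν hc, s.sq, zero_mul]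
  let N : AddSubgroup A :=
    { carrier := {c | c ∈ Cz B ∧ ∃ g ∈ (⁅F.Iso, F.Iso⁆ : Subgroup Aˣ), (g : A) = 1 + ν * c}
      add_mem' := by
        rintro c d ⟨c1, g, hg, e⟩ ⟨d1, g', hg', e'⟩
        refine ⟨add_mem c1 d1, g * g', mul_mem hg hg', ?_⟩
        rw [Units.val_mul, e, e', add_mul, mul_add, mul_add, hsq c c1]
        noncomm_ring
      zero_mem' := ⟨zero_mem _, 1, one_mem _, by simp⟩
      neg_mem' := by
        rintro c ⟨c1, g, hg, e⟩
        refine ⟨neg_mem c1, g⁻¹, inv_mem hg, (Units.eq_inv_of_mul_eq_one_left ?_).symm⟩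
        rw [e, add_mul, mul_add, mul_add, hsq c c1]
        noncomm_ring }
  have k1 : ∀ y ∈ Cz B, ∀ y' ∈ Cz B, y' * y' = 0 → y' * y = 0 → y' * star y + y * star y' ∈ N := by
    intro y hy y' hy' e1 e2
    have hy1 := h.star_Cz hB y hy
    have hy1' := h.star_Cz hB y' hy'
    have e3 : star y * star y' = 0 := by rw [← star_mul, e2, star_zero]
    have n1 := h.nil hB hε hy' s.es s.se (by rw [e1, mul_zero])
    have n2 := h.nil hB hν hy (by rw [s.skew, mul_neg, s.sq, neg_zero]) (by rw [s.skew, neg_mul, s.sq, neg_zero])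
      (by rw [s.sq, zero_mul])
    refine ⟨add_mem (mul_mem hy' hy1) (mul_mem hy hy1'), ⁅n1.unit, n2.unit⁆,
      Subgroup.commutator_mem_commutator n1.unit_mem n2.unit_mem, ?_⟩
    have f1 : ε * y' - star (ε * y') = ε * y' - star ε * star y' := by rw [h.star_mm hB hε hy']
    have f2 : ν * y - star (ν * y) = ν * (y + star y) := by rw [h.star_mm hB hν hy, s.skew]; noncomm_ring
    have f3 : (ε * y' - star ε * star y') * (ν * (y + star y)) = ν * (y' * star y) := by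
      rw [sub_mul, mm hν hy', mm hν hy1', s.en, s.sn, zero_mul, sub_zero, mul_add, e2, zero_add]
    have f4 : ∀ c ∈ Cz B, ν * c * (ε * y' - star ε * star y') = -(ν * (c * star y')) := fun c hc => by
      rw [mul_sub, mm hε hc, mm hε' hc, s.nE, s.ns, zero_mul, zero_sub]
    have f5 := n1.sq
    change (1 + (ε * y' - star (ε * y'))) * (1 + (ν * y - star (ν * y))) * (1 - (ε * y' - star (ε * y'))) *
      (1 - (ν * y - star (ν * y))) = _
    rw [f1] at f5
    rw [f1, f2, comm_val f5 (hsq _ (add_mem hy hy1) _) (by rw [f3, f4 _ (mul_mem hy' hy1), mul_assoc, e3]; simp)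
      (by rw [mul_assoc, f3, hsq _ (add_mem hy hy1)]), f3, f4 _ (add_mem hy hy1), add_mul, e3]
    noncomm_ring
  have k2 : ∀ π, Sy B π → π ≠ 1 → π ∈ N := by
    intro π hπ hπ1
    let I : AddSubgroup A :=
      { carrier := {x | x ∈ Cz B ∧ ∀ a ∈ Cz B, ∀ b ∈ Cz B, π * a * x * b * π + star (π * a * x * b * π) ∈ N}
        add_mem' := fun {x y} hx hy => ⟨add_mem hx.1 hy.1, fun a ha b hb => by
          convert N.add_mem (hx.2 a ha b hb) (hy.2 a ha b hb) using 1
          simp only [mul_add, add_mul, star_add]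
          abel⟩
        zero_mem' := ⟨zero_mem _, fun a _ b _ => by simp⟩
        neg_mem' := fun {x} hx => ⟨neg_mem hx.1, fun a ha b hb => by
          convert N.neg_mem (hx.2 a ha b hb) using 1
          simp only [mul_neg, neg_mul, star_neg]
          abel⟩ }
    have e0 : (1 - π) * π = 0 := by rw [sub_mul, one_mul, hπ.idem, sub_self]
    rcases Blk.ss_elim _ (h.ss_Cz hB) I (fun _ hx => hx.1)
      (fun x hx a ha => ⟨mul_mem (show a ∈ Cz B from ha) hx.1, fun a' ha' b hb => by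
        have h2 := hx.2 _ (mul_mem ha' (show a ∈ Cz B from ha)) b hb
        simpa only [mul_assoc] using h2⟩)
      (fun x hx => ⟨h.star_Cz hB x hx.1, fun a ha b hb => by
        have h2 := hx.2 _ (h.star_Cz hB b hb) _ (h.star_Cz hB a ha)
        rw [add_comm] at h2
        simpa only [star_mul, star_star, hπ.symm, mul_assoc] using h2⟩) with h2 | h2
    · have h3 : 1 - π ∈ I := ⟨hπ.compl.mem, fun a ha b hb => by
        have h4 := k1 (π * star b * (1 - π)) (mul_mem (mul_mem hπ.mem (h.star_Cz hB b hb)) hπ.compl.mem)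
          (π * a * (1 - π)) (mul_mem (mul_mem hπ.mem ha) hπ.compl.mem)
          (by rw [mul_assoc, ← mul_assoc (1 - π), ← mul_assoc (1 - π), e0]; simp)
          (by rw [mul_assoc, ← mul_assoc (1 - π), ← mul_assoc (1 - π), e0]; simp)
        have h5 : ∀ x, (1 - π) * ((1 - π) * x) = (1 - π) * x := fun x => by rw [← mul_assoc, hπ.compl.idem]
        simpa only [star_mul, star_star, hπ.symm, hπ.compl.symm, mul_assoc, h5] using h4⟩
      rw [h2] at h3
      exact absurd (sub_eq_zero.1 h3).symm hπ1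
    · obtain ⟨l, hl, hl', -⟩ := h.exists_l hB
      have h3 := h2.2 l hl 1 (one_mem _)
      change π * l * 1 * 1 * π + star (π * l * 1 * 1 * π) ∈ N at h3
      rwa [mul_one, mul_one, star_mul, star_mul, hπ.symm, ← mul_assoc π, ← add_mul, ← mul_add, hl', mul_one,
        hπ.idem] at h3
  refine ⟨add_mem (one_mem _) hν, ?_, fun π hπ => ?_⟩
  · change (1 + ν) * star (1 + ν) = 1
    rw [star_add, star_one, s.skew, ← sub_eq_add_neg]
    exact (sqU ν s.sq).val_inv
  · have h2 : π ∈ N := by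
      by_cases e : π = 1
      · have h3 := N.add_mem (k2 _ hπ₀ h1) (k2 _ hπ₀.compl fun e => h0 (sub_eq_self.1 e))
        rwa [add_sub_cancel, ← e] at h3
      · exact k2 π hπ e
    obtain ⟨-, g, hg, e⟩ := h2
    refine ⟨g, hg, ?_⟩
    change _ = (1 + ν) * π + 1 * (1 - π)
    rw [e]
    noncomm_ring

theorem mem_Dt_comm {a b : Aˣ} (ha : (a : A) ∈ B) (hb : (b : A) ∈ B) (ha' : (a : A) * star (a : A) = 1)
    (hb' : (b : A) * star (b : A) = 1) : ⁅a, b⁆ ∈ Dt F B (h.t.star_mem B hB) := by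
  have ha1 := h.t.star_mem B hB _ ha
  have hb1 := h.t.star_mem B hB _ hb
  have e : ((⁅a, b⁆ : Aˣ) : A) = a * b * star (a : A) * star (b : A) := by
    rw [← star_eq_inv ha', ← star_eq_inv hb']; rfl
  refine ⟨e ▸ mul_mem (mul_mem (mul_mem ha hb) ha1) hb1, ?_, fun π hπ => ?_⟩
  · exact (FR.comm_le_Iso (F := F.max)
      (Subgroup.commutator_mem_commutator (mem_Iso_max rfl ha') (mem_Iso_max rfl hb'))).1
  · obtain ⟨g, hg, e1⟩ := h.exists_g hB hπ ha ha'
    obtain ⟨g', hg', e2⟩ := h.exists_g hB hπ hb hb'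
    refine ⟨⁅g, g'⁆, Subgroup.commutator_mem_commutator hg hg', ?_⟩
    have h1 : star (1 : A) ∈ B := by rw [star_one]; exact one_mem _
    change (g : A) * g' * (g⁻¹ : Aˣ) * (g'⁻¹ : Aˣ) = _
    rw [FR.Iso.inv_eq hg, FR.Iso.inv_eq hg', e1, e2, hπ.star_cb ha1 h1, hπ.star_cb hb1 h1, star_one,
      hπ.cb_mul _ _ hb (one_mem _), hπ.cb_mul _ _ ha1 (one_mem _), hπ.cb_mul _ _ hb1 (one_mem _), e]
    simp only [mul_one]

theorem Dt_le {s : Aˣ} (hs : s ∈ Dt F B (h.t.star_mem B hB)) : s ∈ (⁅F.Iso, F.Iso⁆ : Subgroup Aˣ) := by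
  obtain ⟨g, hg, e⟩ := hs.2.2 1 (Sy.one B)
  rwa [← Units.ext (e.trans (by simp [cb]) : (g : A) = s)]

theorem fix {s : Aˣ} (hs : (s : A) ∈ B) {B' : Subring A} (hB' : B' ∈ 𝓑) (hne : B' ≠ B) :
    cA A s ∈ DS.Cl.Fix (B' : Set A) := fun x hx => cj_eq_of_mul (h.t.comm B' hB' B hB hne x hx s hs).symm

theorem pt {s : Aˣ} (hs : s ∈ Dt F B (h.t.star_mem B hB)) : cA A s ∈ ptStab (RingAut A) 𝓑 := by
  intro B' hB'
  by_cases e : B' = B
  · subst e
    have h1 := (inv_mem hs).1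
    exact smul_eq_of_inv (fun x hx => mul_mem (mul_mem hs.1 hx) h1) fun x hx => mul_mem (mul_mem h1 hx) hs.1
  · exact smul_eq_of_fix (h.fix hB hs.1 hB' e)

variable {G H : Subgroup (RingAut A)} {m p : ℕ} (c : Ctx F G H m p) (hst : ∀ γ ∈ H, ∀ B ∈ 𝓑, γ • B ∈ 𝓑)
include c hst

theorem stab_eq {y : Aˣ} (hy : y ∈ Dt F B (h.t.star_mem B hB)) (hc : (y : A) ∉ Subring.center A) :
    G ⊓ setStab (RingAut A) 𝓑 = H := by
  refine c.max (le_inf c.H_le (le_setStab hst)) inf_le_left fun hS => hc (cj_eq_one_iff.1 ?_)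
  have h1 : cA A y ∈ F.S := ⟨y, h.Dt_le hB hy, rfl⟩
  obtain ⟨B', hB', hne⟩ := h.t.exists_ne hB
  by_cases hK : F.S ≤ ptStab (RingAut A) 𝓑
  · refine inf_eq_bot_of_simple c.simple (K := DS.Cl.Fix (B' : Set A)) (fun s hs k hk x hx => ?_) (fun hle => ?_) _ h1
      (h.fix hB hy.1 hB' hne)
    · rw [ra_mul, ra_mul, hk _ (mem_smul_subring.1 ((hK hs B' hB').symm ▸ hx)), ra_apply_inv]
    · exact h.t.not_le B' hB' fun z hz => FR.cen_of_S c.span fun s hs => hle hs z hz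
  · exact inf_eq_bot_of_simple c.simple (fun s hs k hk => conj_mem_ptStab (hS hs).2 hk) hK _ h1 (h.pt hB hy)

theorem sub {y : Aˣ} (hy : y ∈ Dt F B (h.t.star_mem B hB)) (hc : (y : A) ∉ Subring.center A) :
    (∀ a ∈ H, ∀ x ∈ H ⊓ ptStab (RingAut A) 𝓑, a * x * a⁻¹ ∈ H ⊓ ptStab (RingAut A) 𝓑) ∧
    (Dt F B (h.t.star_mem B hB)).map (cA A) ≤ H ⊓ ptStab (RingAut A) 𝓑 ∧
    ∀ a ∈ H ⊓ ptStab (RingAut A) 𝓑, ∀ x ∈ (Dt F B (h.t.star_mem B hB)).map (cA A),
      a * x * a⁻¹ ∈ (Dt F B (h.t.star_mem B hB)).map (cA A) := by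
  refine ⟨fun a ha x hx => ⟨H.mul_mem (H.mul_mem ha hx.1) (H.inv_mem ha), conj_mem_ptStab (le_setStab hst ha) hx.2⟩, ?_, ?_⟩
  · rintro _ ⟨s, hs, rfl⟩
    refine ⟨?_, h.pt hB hs⟩
    rw [← h.stab_eq hB c hst hy hc]
    exact ⟨c.S_le ⟨s, h.Dt_le hB hs, rfl⟩,
      le_setStab (P := ptStab (RingAut A) 𝓑) (fun g hg B hB => by rwa [hg B hB]) (h.pt hB hs)⟩
  · rintro γ hγ _ ⟨s, hs, rfl⟩
    have h1 := c.le_SAut hγ.1
    refine ⟨um γ s, ⟨?_, ?_, fun π hπ => ?_⟩, (conj_cj γ s).symm⟩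
    · exact hγ.2 B hB ▸ apply_mem_smul.2 hs.1
    · rw [um_val, ← h1, ← map_mul, hs.2.1, map_one]
    · obtain ⟨g, hg, e⟩ := hs.2.2 _ (hπ.map (inv_mem h1) ((inv_mem hγ).2 B hB))
      refine ⟨um γ g, FR.um_mem_comm (c.H_le_Aut hγ.1) hg, ?_⟩
      rw [um_val, um_val, e, cb, cb, map_add, map_mul, map_mul, map_sub, map_one, ra_apply_inv]

/-- no non-central `p`-element in `Dt F B` if a proper symmetric idempotent commutes with `B` -/
theorem no_idem {π : A} (hπ : Sy B π) (h0 : π ≠ 0) (h1 : π ≠ 1) {y : Aˣ} (hy : y ∈ Dt F B (h.t.star_mem B hB))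
    (hc : (y : A) ∉ Subring.center A) {k : ℕ} (hk : y ^ p ^ k = 1) : False := by
  obtain ⟨h2, h3, h4⟩ := h.sub hB c hst hy hc
  refine hc (cj_eq_one_iff.1 (grp c inf_le_left h2 h3 h4 ?_ ⟨y, hy, rfl⟩ (k := k) (by rw [← map_pow, hk, map_one])))
  rintro _ ⟨s, hs, rfl⟩
  obtain ⟨g, hg, e⟩ := hs.2.2 π hπ
  refine ⟨cA A g, c.S_le ⟨g, hg, rfl⟩, ?_⟩
  rintro _ ⟨x, hx, rfl⟩ h5
  rw [← map_inv, ← map_mul, ← map_mul] at h5
  have h6 := mul_mem (mul_mem (inv_mem hs) hx) hs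
  have h7 := h.key hB hπ h0 h1 h6.1 (inv_mem h6).1 hx.1 (inv_mem hx).1 (z := g⁻¹ * x * g) (by
    rw [Units.val_mul, Units.val_mul, FR.Iso.inv_eq (FR.comm_le_Iso hg), e,
      hπ.star_cb (h.t.star_mem B hB _ hs.1) (by rw [star_one]; exact one_mem _), star_one, ← star_eq_inv hs.2.1]
    conv_lhs => rw [← cb_self π x]
    rw [hπ.cb_mul _ _ hx.1 hx.1, hπ.cb_mul _ _ hs.1 (one_mem _), one_mul, mul_one]
    rfl) (hst _ h5 B hB)
  rw [map_mul, map_mul, map_inv] at h7
  conv_lhs => rw [← h7]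
  group

/-- **UNI** for a `p`-element of `Dt F B` -/
theorem uniD {y : Aˣ} (hy : y ∈ Dt F B (h.t.star_mem B hB)) (hc : (y : A) ∉ Subring.center A) (hk : y ^ p = 1)
    {g : Aˣ} (hg : g ∈ (⁅F.Iso, F.Iso⁆ : Subgroup Aˣ)) :
    ∃ b ∈ Dt F B (h.t.star_mem B hB), cA A (g⁻¹ * (b * y * b⁻¹) * g) ∈ H := by
  obtain ⟨h2, h3, h4⟩ := h.sub hB c hst hy hc
  have hY : IsPGroup p (Subgroup.zpowers (cA A y)) := by
    rintro ⟨_, j, rfl⟩
    refine ⟨1, Subtype.ext ?_⟩
    change (cA A y ^ j) ^ p ^ 1 = 1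
    rw [pow_one, ← zpow_natCast, ← zpow_mul, mul_comm, zpow_mul, zpow_natCast, ← map_pow, hk, map_one, one_zpow]
  obtain ⟨_, ⟨b, hb, rfl⟩, h5⟩ := c.uni inf_le_left h2 h3 h4 hY (Subgroup.zpowers_le.2 ⟨y, hy, rfl⟩)
    (c.S_le (show cA A g ∈ F.S from ⟨g, hg, rfl⟩))
  refine ⟨b, hb, ?_⟩
  rw [map_mul, map_mul, map_mul, map_mul, map_inv, map_inv]
  exact mem_cj.1 (h5 ⟨_, Subgroup.mem_zpowers _, rfl⟩)

omit c in
/-- if the skew elements of a factor commute, they are central -/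
theorem skew_cen (hH : H ≤ SAut A) (hI : ∀ Z : Subring A, ComSub Z → Inv H Z → Z ≤ Subring.center A)
    (hc : ∀ x ∈ B, ∀ y ∈ B, star x = -x → star y = -y → x * y = y * x) {x : A} (hx : x ∈ B) (hs : star x = -x) :
    x ∈ Subring.center A := by
  let X : Set A := {x | x ∈ Subring.center A ∨ ∃ B ∈ 𝓑,
    (∀ x ∈ B, ∀ y ∈ B, star x = -x → star y = -y → x * y = y * x) ∧ x ∈ B ∧ star x = -x}
  have h1 : ∀ x ∈ X, ∀ y ∈ X, x * y = y * x := by
    rintro x (hx | ⟨B₁, a1, a2, a3, a4⟩) y hy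
    · exact (cen_comm hx y).symm
    rcases hy with hy | ⟨B₂, b1, -, b3, b4⟩
    · exact cen_comm hy x
    by_cases e : B₁ = B₂
    · exact a2 x a3 y (e ▸ b3) a4 b4
    · exact h.t.comm _ a1 _ b1 e x a3 y b3
  refine hI (Subring.closure X) ⟨fun z hz => Subring.subset_closure (Or.inl hz), fun z hz => ?_, fun y hy z hz => ?_⟩
    (fun γ hγ z hz => ?_) (Subring.subset_closure (Or.inr ⟨B, hB, hc, hx, hs⟩))
  · induction hz using Subring.closure_induction with
    | mem z hz =>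
      rcases hz with hz | ⟨B₁, a1, a2, a3, a4⟩
      · exact Subring.subset_closure (Or.inl (star_cen hz))
      · rw [a4]; exact neg_mem (Subring.subset_closure (Or.inr ⟨B₁, a1, a2, a3, a4⟩))
    | zero => rw [star_zero]; exact zero_mem _
    | one => rw [star_one]; exact one_mem _
    | add a b _ _ ha hb => rw [star_add]; exact add_mem ha hb
    | neg a _ ha => rw [star_neg]; exact neg_mem ha
    | mul a b _ _ ha hb => rw [star_mul]; exact mul_mem hb ha
  · have h2 : Subring.closure X ≤ Subring.centralizer X := Subring.closure_le.2 fun a ha b hb => h1 b hb a ha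
    have h3 : Subring.closure X ≤ Subring.centralizer {y} := Subring.closure_le.2 fun a ha b hb => by
      rw [Set.mem_singleton_iff.1 hb]; exact (h2 hy a ha).symm
    exact h3 hz y rfl
  · have h2 : Subring.closure X ≤ (Subring.closure X).comap (γ : A →+* A) := Subring.closure_le.2 (by
      rintro a (ha | ⟨B₁, a1, a2, a3, a4⟩)
      · exact Subring.subset_closure (Or.inl (map_cen γ ha))
      · refine Subring.subset_closure (Or.inr ⟨γ • B₁, hst γ hγ B₁ a1, fun x hx y hy x1 y1 => ?_,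
          apply_mem_smul.2 a3, ?_⟩)
        · have h3 := hH (inv_mem hγ)
          apply (γ⁻¹).injective
          rw [map_mul, map_mul]
          exact a2 _ (mem_smul_subring.1 hx) _ (mem_smul_subring.1 hy) (by rw [← h3, x1, map_neg])
            (by rw [← h3, y1, map_neg])
        · change star (γ a) = -γ a
          rw [← hH hγ, a4, map_neg])
    exact h2 hz

end TD

end Cfsg.Agent.TH.Cl.Ten
end

private theorem dce_ce48ea70d834 : _root_.True := by
  try have : _root_.True := by simp only [_root_.Cfsg.Agent.TH.Cl.Ten.cb.eq_1]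
  exact _root_.True.intro
end
end
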