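import Cfsg.Agent.TH.Sv.ClDat_m3
import Cfsg.Agent.TH.Ex.Si.Cls
import Cfsg.Agent.Transfer.ElemAbAut
import Cfsg.Agent.Lib.FinFast
import Cfsg.Agent.TH.Ex.Ab.Defs_m3
import Cfsg.Agent.SB.Exc.CI.Main_m3
import Cfsg.Agent.TH.Cl.FldSO.Main_m3
import Cfsg.Agent.SB.Exc.Frm.Main_m3
import Cfsg.Agent.SB.Exc.Card
import Cfsg.Agent.FastGrp
import Cfsg.Agent.Prune
set_option linter.all false

section
prune_inst 0x7fbdfffdffb8bddeffff7e7ffff9dffe19d0dfffefdffb4bfffdfbffbfff236f3be5fbaf1de4d8ff8ed6e2be30b87853fbffefffef6fdc7ffffd5ff45ffbee5ff7ffbd2971d79c341ffc6ffffbf37fee7f3fffffffffffffffffffffffffffffffffffffffff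

-- part: TH/Ex/Ab/NTNum
section
prune_inst 0x420000000702210000000000040001e62d2000100000b0000200004000d890c0180400620b210060211c400a44078404001000009001000002000020041180080002920820034ac00100000008801180c00000000000000000000000000000000000000000
set_option linter.all false
open scoped Cfsg.Agent.FastGrp

/-!
# S3541, local examples in `F₄, E₆, ²E₆, E₇, E₈` without invariant toral subgroup: the numerical part (helper70)

`chk Y r c k` : the kernel test for `|H ⊓ T| ∣ r ^ c |GL_k(r)|`, `r ∣ d`, and all fields; `num_false`.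
-/

set_option autoImplicit false

namespace Cfsg.Agent.TH.Ab.NT

open Cfsg.Agent.H902 Cfsg.Agent.H290.ElTab Cfsg.Agent.H290.ElCross Cfsg.Agent.H252.EN Cfsg.Agent.TH.Sv Cfsg.Agent.TH.Ex.Si
open Subgroup (centralizer)

/-- the order of `GL_k(r)` -/
def glN (r : ℕ) : ℕ → ℕ
  | 0 => 1
  | k + 1 => (r ^ (k + 1) - 1) * r ^ k * glN r k

theorem prod_eq (r k : ℕ) : ∏ i : Fin k, (r ^ k - r ^ (i : ℕ)) = glN r k := by
  induction k with
  | zero => rfl
  | succ k ih =>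
    rw [Fin.prod_univ_succ, glN, ← ih, mul_assoc]
    congr 1
    rw [← Fin.prod_const k r, ← Finset.prod_mul_distrib, Fin.prod_const]
    exact Finset.prod_congr rfl fun i _ => by rw [Fin.val_succ, pow_succ', pow_succ', Nat.mul_sub]

theorem glN_dvd (r : ℕ) {j k : ℕ} (h : j ≤ k) : glN r j ∣ glN r k := by
  induction k, h using Nat.le_induction with
  | base => exact dvd_rfl
  | succ k _ ih => exact ih.mul_left _

/-- the parameters of the sieve -/
def par (Y : Art.Sh) (r NB p f N b : ℕ) : Par where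
  N := N
  p := p
  outT := ouN Y p f
  c := (p ^ f) ^ e1 Y
  NB := NB
  low := Nat.gcd N (r ^ 64)
  cA := fun a _ => bif Nat.beq (a % p) 0 then (p ^ f) ^ e1 Y else N / b
  fa := fun _ n1 => Nat.beq (n1 % r) 0
  flt := fun a _ d => Nat.beq (d % r) 0 && allL [2, 3, 5, 7, 11, 13, 31] fun s =>
    Nat.beq s p || (!Nat.beq (a % s) 0 || (Nat.beq (d % s) 0 || Nat.ble N (Nat.gcd a d * a * b)))

/-- the test for one field -/
def chk1 (Y : Art.Sh) (r NB p f : ℕ) : Bool :=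
  Nat.blt ((NB * ouN Y p f) ^ 2) ((p ^ f) ^ e1 Y) ||
    frc ((p ^ f) ^ Art.NN Y * Art.num Y (p ^ f) / Art.dd Y (p ^ f)) fun N => frc (bY Y (p ^ f)) fun b =>
      sieveG (par Y r NB p f N b)

/-- the test for all fields -/
def chk (Y : Art.Sh) (r c k : ℕ) : Bool :=
  frc (r ^ c * glN r k) fun NB => Nat.blt (36 * NB ^ 2) (300 ^ (e1 Y - 2)) &&
    allL (List.range 300) fun p => Nat.beq p r || (!(allL (List.range p) fun j => Nat.blt j 2 || !Nat.beq (p % j) 0) ||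
      (Nat.blt p 2 || allL (List.range 9) fun f => Nat.beq f 0 || chk1 Y r NB p f))

private theorem pwL_c {s : ℕ} (hs : 2 ≤ s) (k : ℕ → Bool) (fuel : ℕ) : ∀ x acc, x ≠ 0 → x < 2 ^ fuel →
    (∀ j, s ^ j ∣ x → k (acc * s ^ j) = true) → pwL s k fuel x acc = true := by
  induction fuel with
  | zero => exact fun x _ h0 h1 _ => absurd (Nat.lt_one_iff.1 h1) h0
  | succ f ih =>
    intro x acc h0 h1 h
    show (k acc && (bif Nat.beq (x % s) 0 then frc (x / s) fun x' => frc (acc * s) fun acc' => pwL s k f x' acc'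
      else true)) = true
    rw [Bool.and_eq_true, frc_eq, frc_eq, Bool.cond_eq_ite]
    refine ⟨by have := h 0 (by rw [pow_zero]; exact one_dvd _); rwa [pow_zero, mul_one] at this, ?_⟩
    split_ifs with h2
    · obtain ⟨y, rfl⟩ := Nat.dvd_of_mod_eq_zero (Nat.eq_of_beq_eq_true h2)
      rw [Nat.mul_div_cancel_left _ (Nat.lt_of_lt_of_le Nat.two_pos hs)]
      refine ih _ _ (right_ne_zero_of_mul h0) ?_ fun j hj => ?_
      · rw [pow_succ'] at h1
        exact Nat.lt_of_mul_lt_mul_left ((Nat.mul_le_mul_right y hs).trans_lt h1)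
      · rw [mul_assoc, ← pow_succ']
        exact h _ (by rw [pow_succ']; exact Nat.mul_dvd_mul_left _ hj)
    · rfl

private theorem allDiv_c {x : ℕ} (h0 : x ≠ 0) (h1 : x < 2 ^ 5000) (f : ℕ → Bool) (low : ℕ)
    (H : ∀ z, z ∣ x → f (low * z) = true) (ps : List ℕ) (h2 : ∀ s ∈ ps, 2 ≤ s) (hc : ps.Pairwise Nat.Coprime) :
    ∀ y, y ∣ x → (∀ s ∈ ps, Nat.Coprime y s) → allDiv ps x f (low * y) = true := by
  induction ps with
  | nil => exact fun y hy _ => H y hy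
  | cons s l ih =>
    intro y hy h3
    refine pwL_c (h2 s List.mem_cons_self) (allDiv l x f) 5000 x (low * y) h0 h1 fun j hj => ?_
    rw [mul_assoc]
    exact ih (fun t ht => h2 t (List.mem_cons_of_mem _ ht)) (List.pairwise_cons.1 hc).2 _
      (((h3 s List.mem_cons_self).pow_right j).mul_dvd_of_dvd_of_dvd hy hj) fun t ht =>
      Nat.Coprime.mul_left (h3 t (List.mem_cons_of_mem _ ht)) (((List.pairwise_cons.1 hc).1 t ht).pow_left j)

private theorem pfK_m {k k' : List ℕ → Bool} (h : ∀ ps, k ps = true → k' ps = true) (fuel : ℕ) :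
    ∀ s x acc, pfK k fuel s x acc = true → pfK k' fuel s x acc = true := by
  induction fuel with
  | zero => exact fun _ _ _ h => h
  | succ f ih =>
    intro s x acc h1
    have h2 : (bif Nat.ble (s * s) x then
        (bif Nat.beq (x % s) 0 then frc (cop s x) fun x' => frc (s + 1) fun s' => pfK k f s' x' (s :: acc)
        else frc (s + 1) fun s' => pfK k f s' x acc)
      else bif Nat.ble x 1 then k acc else k (x :: acc)) = true := h1
    show (bif Nat.ble (s * s) x then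
        (bif Nat.beq (x % s) 0 then frc (cop s x) fun x' => frc (s + 1) fun s' => pfK k' f s' x' (s :: acc)
        else frc (s + 1) fun s' => pfK k' f s' x acc)
      else bif Nat.ble x 1 then k' acc else k' (x :: acc)) = true
    simp only [frc_eq, Bool.cond_eq_ite] at h2 ⊢
    split_ifs at h2 ⊢
    · exact ih _ _ _ h2
    · exact ih _ _ _ h2
    · exact h _ h2
    · exact h _ h2

private def qk (N NB o c : ℕ) : Bool :=
  frc (Nat.gcd N NB) fun g => frc (g * o) fun G => frc (N / g) fun u =>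
    Nat.blt (2 * (G * (G / Nat.gcd G (u ^ 64)))) c && (Nat.ble 1 u && (Nat.blt G (2 ^ 5000) &&
      withPrimes G fun ps => decide (ps.Pairwise Nat.Coprime) && allL ps (Nat.ble 2)))

private theorem qk_sound (P : Par) {c : ℕ} (hc : ∀ a o, P.cG a o = c) (h : qk P.N P.NB P.outT c = true) :
    sieveG P = true := by
  simp only [qk, frc_eq, Bool.and_eq_true, Nat.ble_eq, Nat.blt_eq] at h
  obtain ⟨h1, h2, h3, h4⟩ := h
  have h0 := (withPrimes_sound h4).1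
  have hg0 := left_ne_zero_of_mul h0
  have ho0 := right_ne_zero_of_mul h0
  simp only [sieveG, frc_eq]
  rw [Bool.or_eq_true, Bool.not_eq_true', ← Bool.not_eq_true, Nat.beq_eq, or_iff_not_imp_left, not_not]
  intro h5
  rw [withPrimes, frc_eq, Bool.and_eq_true] at h4 ⊢
  refine ⟨h4.1, pfK_m (fun l hl => ?_) _ _ _ _ h4.2⟩
  rw [Bool.and_eq_true, allL_iff] at hl
  have hl1 := of_decide_eq_true hl.1
  have hl2 : ∀ s ∈ l, 2 ≤ s := fun s hs => Nat.le_of_ble_eq_true (hl.2 s hs)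
  show allDiv l (Nat.gcd P.N P.NB / P.low) (loopO P l) P.low = true
  obtain ⟨u, hu⟩ := Nat.gcd_dvd_left P.N P.NB
  generalize Nat.gcd P.N P.NB = g at *
  obtain ⟨x, rfl⟩ := Nat.dvd_of_mod_eq_zero h5
  have hl0 := Nat.pos_of_ne_zero (left_ne_zero_of_mul hg0)
  have hx0 := right_ne_zero_of_mul hg0
  rw [hu, Nat.mul_div_cancel_left _ (Nat.pos_of_ne_zero hg0)] at h1 h2
  rw [Nat.mul_div_cancel_left _ hl0]
  refine (congrArg _ (mul_one P.low).symm).trans (allDiv_c hx0 (((Nat.le_mul_of_pos_left _ hl0).trans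
    (Nat.le_mul_of_pos_right _ (Nat.pos_of_ne_zero ho0))).trans_lt h3) _ P.low ?_ l hl2 hl1 1 (one_dvd _)
    fun s _ => Nat.coprime_one_left s)
  rintro z ⟨w, rfl⟩
  have ha0 : 0 < P.low * z := Nat.mul_pos hl0 (Nat.pos_of_ne_zero (left_ne_zero_of_mul hx0))
  have hn : P.N / (P.low * z) = w * u := by
    rw [hu, ← mul_assoc P.low, mul_assoc (P.low * z), Nat.mul_div_cancel_left _ ha0]
  have hn1 : 1 ≤ w * u := Nat.mul_pos (Nat.pos_of_ne_zero (right_ne_zero_of_mul hx0)) h2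
  have h13 := allDiv_c ho0 ((Nat.le_mul_of_pos_left _ (Nat.pos_of_ne_zero hg0)).trans_lt h3)
    (loopD P l (w * u - 1) (P.low * z)) 1 (fun v hv => ?_) l hl2 hl1 1 (one_dvd _) fun s _ => Nat.coprime_one_left s
  · rw [loopO, frc_eq, frc_eq, hn, show allDiv l P.outT _ 1 = true from h13, Bool.or_true, Bool.or_true, Bool.or_true,
      Bool.or_true]
  rw [loopD, frc_eq, frc_eq, frc_eq, frc_eq, hc, one_mul, ← Bool.or_assoc, Bool.or_eq_true, ← Bool.not_and,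
    Bool.not_eq_true', ← Bool.not_eq_true, Bool.and_eq_true, Nat.ble_eq, Nat.ble_eq]
  refine Or.inl fun ⟨h6, h7⟩ => h1.not_ge ?_
  have hh : P.low * z * v ∣ P.low * (z * w) * P.outT :=
    Nat.mul_dvd_mul (Nat.mul_dvd_mul_left _ (Dvd.intro _ rfl)) hv
  have hD := Nat.gcd_dvd_left (P.low * z * v) (w * u - 1)
  have hD' : Nat.Coprime (Nat.gcd (P.low * z * v) (w * u - 1)) u :=
    Nat.Coprime.coprime_dvd_left (Nat.gcd_dvd_right _ _) (Nat.Coprime.coprime_dvd_right (Dvd.intro_left w rfl)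
      ((Nat.coprime_self_sub_left hn1).2 (Nat.coprime_one_left _)))
  generalize Nat.gcd (P.low * z * v) (w * u - 1) = D at *
  generalize P.low * z * v = h at *
  generalize P.low * (z * w) * P.outT = G at *
  have hG := Nat.pos_of_ne_zero h0
  have h8 : D ≤ G / Nat.gcd G (u ^ 64) :=
    Nat.le_of_dvd (Nat.div_pos (Nat.gcd_le_left _ hG) (Nat.gcd_pos_of_pos_left _ hG))
      (Nat.dvd_div_of_mul_dvd (((hD'.pow_right 64).coprime_dvd_right (Nat.gcd_dvd_right G _)).symm.mul_dvd_of_dvd_of_dvd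
        (Nat.gcd_dvd_left _ _) (hD.trans hh)))
  have h9 := Nat.le_of_dvd hG hh
  have h10 : (h - 1) ^ 2 ≤ h * h := by rw [← sq]; exact Nat.pow_le_pow_left (Nat.sub_le _ _) 2
  have hh0 := ne_zero_of_dvd_ne_zero h0 hh
  refine le_trans ?_ (Nat.mul_le_mul_left 2 (Nat.mul_le_mul h9 h8))
  obtain ⟨t, rfl⟩ := hD
  rw [Nat.mul_div_cancel_left _ (Nat.pos_of_ne_zero (left_ne_zero_of_mul hh0))] at h6
  have ht := Nat.pos_of_ne_zero (right_ne_zero_of_mul hh0)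
  by_cases h11 : t = 1
  · subst h11
    rw [mul_one] at h7 h10 ⊢
    exact (h7.trans h10).trans (Nat.le_mul_of_pos_left _ two_pos)
  · refine Nat.le_of_mul_le_mul_left ?_ ht
    calc t * c ≤ 2 * (t - 1) * c := Nat.mul_le_mul_right c (by omega)
      _ = 2 * ((t - 1) * c) := mul_assoc _ _ _
      _ ≤ 2 * (D * t * (D * t)) := Nat.mul_le_mul_left 2 (h6.trans h10)
      _ = t * (2 * (D * t * D)) := by ring

private def PR : List ℕ := [2, 3, 5, 7, 11, 13, 17, 19, 23, 29, 31, 37, 41, 43, 47, 53, 59, 61, 67, 71, 73, 79, 83, 89, 97, 101, 103, 107, 109, 113, 127, 131, 137, 139, 149, 151, 157, 163, 167, 173, 179, 181, 191, 193, 197, 199, 211, 223, 227, 229, 233, 239, 241, 251, 257, 263, 269, 271, 277, 281, 283, 293]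

private noncomputable def _root_.Cfsg.Agent.LsF.f68c337_0 : {f // @Cfsg.Agent.TH.Sv.allL = f} := ⟨_, by first | (delta Cfsg.Agent.TH.Sv.allL; rewrite [Cfsg.Agent.LsF.and_eq]; exact rfl) | exact rfl⟩
private theorem PR_ok : allL (List.range 300) (fun p => !(allL (List.range p) fun j => Nat.blt j 2 || !Nat.beq (p % j) 0) ||
    (Nat.blt p 2 || decide (p ∈ PR))) = true := by ((try (rewrite [Cfsg.Agent.LsF.dMemE_pat, Cfsg.Agent.LsF.f68c337_0.2, Cfsg.Agent.LsF.nmod_pat, Cfsg.Agent.LsF.or_eq, Cfsg.Agent.LsF.not_eq, Cfsg.Agent.LsF.instDecEq_eq, Cfsg.Agent.LsF.range_eq, Cfsg.Agent.LsF.decide_eq])); decide +kernel)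

private def fk1 (Y : Art.Sh) (r NB p f : ℕ) : Bool :=
  Nat.blt ((NB * ouN Y p f) ^ 2) ((p ^ f) ^ e1 Y) ||
    frc ((p ^ f) ^ Art.NN Y * Art.num Y (p ^ f) / Art.dd Y (p ^ f)) fun N =>
      qk N NB (ouN Y p f) ((p ^ f) ^ e1 Y) || frc (bY Y (p ^ f)) fun b => sieveG (par Y r NB p f N b)

private def fchk (Y : Art.Sh) (r c k : ℕ) : Bool :=
  frc (r ^ c * glN r k) fun NB => Nat.blt (36 * NB ^ 2) (300 ^ (e1 Y - 2)) &&
    allL PR fun p => Nat.beq p r || allL (List.range 9) fun f => Nat.beq f 0 || fk1 Y r NB p f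

private theorem chk_of {Y : Art.Sh} {r c k : ℕ} (h : fchk Y r c k = true) : chk Y r c k = true := by
  rw [fchk, frc_eq, Bool.and_eq_true, allL_iff] at h
  rw [chk, frc_eq, Bool.and_eq_true, allL_iff]
  refine ⟨h.1, fun p hp => ?_⟩
  have h1 := (allL_iff _ _).1 PR_ok p hp
  rw [Bool.or_eq_true, Bool.or_eq_true] at h1
  rw [Bool.or_eq_true, Bool.or_eq_true, Bool.or_eq_true]
  rcases h1 with h1 | h1 | h1
  · exact Or.inr (Or.inl h1)
  · exact Or.inr (Or.inr (Or.inl h1))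
  have h2 := h.2 p (of_decide_eq_true h1)
  rw [Bool.or_eq_true, allL_iff] at h2
  refine h2.imp_right fun h2 => Or.inr (Or.inr ((allL_iff _ _).2 fun f hf => ?_))
  have h3 := h2 f hf
  rw [fk1, frc_eq, frc_eq, Bool.or_eq_true, Bool.or_eq_true, Bool.or_eq_true] at h3
  rw [chk1, frc_eq, frc_eq, Bool.or_eq_true, Bool.or_eq_true]
  exact h3.imp_right (Or.imp_right fun h3 => h3.elim (qk_sound (par Y r _ p f _ _) fun _ _ => rfl) id)

theorem chk_F4_3 : chk .F4 3 4 3 = true := chk_of (by decide +kernel)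
theorem chk_E6_3 : chk .E6 3 7 3 = true := chk_of (by decide +kernel)
theorem chk_TE6_3 : chk .TE6 3 7 3 = true := chk_of (by decide +kernel)
theorem chk_E8_5 : chk .E8 5 10 3 = true := chk_of (by decide +kernel)
theorem chk_E8_2 : chk .E8 2 22 5 = true := chk_of (by decide +kernel)
theorem chk_F4_2 : chk .F4 2 3 3 = true := chk_of (by decide +kernel)
theorem chk_E6_2 : chk .E6 2 4 4 = true := chk_of (by decide +kernel)
theorem chk_TE6_2 : chk .TE6 2 4 4 = true := chk_of (by decide +kernel)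
private noncomputable def _root_.Cfsg.Agent.LsF.f68c337_1 : {f // @Cfsg.Agent.TH.Ab.NT.glN = f} := ⟨_, by first | (delta Cfsg.Agent.TH.Ab.NT.glN Cfsg.Agent.TH.Ab.NT.glN._f Nat.brecOn.go Nat.brecOn; rewrite [Cfsg.Agent.LsF.nadd_pat, Cfsg.Agent.LsF.nmul_pat, Cfsg.Agent.LsF.nsub_pat, Cfsg.Agent.LsF.npow_pat]; (try delta Cfsg.Agent.TH.Ab.NT.glN.match_1); (try delta Nat.casesOn); first | dsimp -zeta only | exact rfl) | exact rfl⟩
private noncomputable def _root_.Cfsg.Agent.LsF.f68c337_2 : {f // @Cfsg.Agent.TH.Ex.Si.e1 = f} := ⟨_, by first | (delta Cfsg.Agent.TH.Ex.Si.e1; (try delta Cfsg.Agent.TH.Ex.Si.e1.match_1); (try delta Cfsg.Agent.TH.Ex.Si.bY._sparseCasesOn_1); exact rfl) | exact rfl⟩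
private noncomputable def _root_.Cfsg.Agent.LsF.f68c337_3 : {f // @Cfsg.Agent.H252.EN.ouN = f} := ⟨_, by first | (delta Cfsg.Agent.H252.EN.ouN; rewrite [Cfsg.Agent.LsF.nadd_pat, Cfsg.Agent.LsF.nmul_pat, Cfsg.Agent.LsF.nsub_pat, Cfsg.Agent.LsF.npow_pat, Cfsg.Agent.LsF.instDecEq_eq, Cfsg.Agent.LsF.dAnd_eq, Cfsg.Agent.LsF.ite_eq]; (try delta Cfsg.Agent.H252.EN.ouN.match_1); (try delta Cfsg.Agent.H902.Art.Sh.casesOn); exact rfl) | exact rfl⟩
private noncomputable def _root_.Cfsg.Agent.LsF.f68c337_4 : {f // @Cfsg.Agent.H902.Art.NN = f} := ⟨_, by first | (delta Cfsg.Agent.H902.Art.NN; rewrite [Cfsg.Agent.LsF.nmul_pat, Cfsg.Agent.LsF.nsub_pat, Cfsg.Agent.LsF.ndiv_pat, Cfsg.Agent.LsF.npow_pat]; (try delta Cfsg.Agent.H902.Art.NN.match_1); (try delta Cfsg.Agent.H902.Art.Sh.casesOn); exact rfl) | exact rfl⟩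
private noncomputable def _root_.Cfsg.Agent.LsF.f68c337_5 : {f // @Cfsg.Agent.H902.Art.num = f} := ⟨_, by first | (delta Cfsg.Agent.H902.Art.num; rewrite [Cfsg.Agent.LsF.nadd_pat, Cfsg.Agent.LsF.nmul_pat, Cfsg.Agent.LsF.nsub_pat, Cfsg.Agent.LsF.npow_pat, Cfsg.Agent.LsF.fprod_eq, Cfsg.Agent.LsF.frange_eq, Cfsg.Agent.LsF.ite_eq]; (try delta Cfsg.Agent.H902.Art.num.match_1); (try delta Cfsg.Agent.H902.Art.Sh.casesOn); exact rfl) | exact rfl⟩
private noncomputable def _root_.Cfsg.Agent.LsF.f68c337_6 : {f // @Cfsg.Agent.H902.Art.dd = f} := ⟨_, by first | (delta Cfsg.Agent.H902.Art.dd; rewrite [Cfsg.Agent.LsF.nadd_pat, Cfsg.Agent.LsF.nsub_pat, Cfsg.Agent.LsF.npow_pat]; (try delta Cfsg.Agent.H902.Art.dd.match_1); (try delta Cfsg.Agent.H902.Art.dd._sparseCasesOn_1); exact rfl) | exact rfl⟩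
private noncomputable def _root_.Cfsg.Agent.LsF.f68c337_7 : {f // @Cfsg.Agent.TH.Sv.cop = f} := ⟨_, by first | (delta Cfsg.Agent.TH.Sv.cop; rewrite [Cfsg.Agent.LsF.ndiv_pat, Cfsg.Agent.LsF.npow_pat, Cfsg.Agent.LsF.log2_eq]; exact rfl) | exact rfl⟩
private noncomputable def _root_.Cfsg.Agent.LsF.f68c337_8 : {f // @Cfsg.Agent.TH.Sv.pfK = f} := ⟨_, by first | (delta Cfsg.Agent.TH.Sv.pfK; rewrite [Cfsg.Agent.LsF.f68c337_7.2, Cfsg.Agent.LsF.nadd_pat, Cfsg.Agent.LsF.nmul_pat, Cfsg.Agent.LsF.nmod_pat, Cfsg.Agent.LsF.cond_eq]; exact rfl) | exact rfl⟩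
private noncomputable def _root_.Cfsg.Agent.LsF.f68c337_9 : {f // @Cfsg.Agent.TH.Sv.withPrimes = f} := ⟨_, by first | (delta Cfsg.Agent.TH.Sv.withPrimes; rewrite [Cfsg.Agent.LsF.f68c337_8.2, Cfsg.Agent.LsF.and_eq]; exact rfl) | exact rfl⟩
private noncomputable def _root_.Cfsg.Agent.LsF.f68c337_10 : {f // @Cfsg.Agent.TH.Ab.NT.qk = f} := ⟨_, by first | (delta Cfsg.Agent.TH.Ab.NT.qk; rewrite [Cfsg.Agent.LsF.f68c337_9.2, Cfsg.Agent.LsF.f68c337_0.2, Cfsg.Agent.LsF.nmul_pat, Cfsg.Agent.LsF.ndiv_pat, Cfsg.Agent.LsF.npow_pat, Cfsg.Agent.LsF.and_eq, Cfsg.Agent.LsF.dPairwise_eq, Cfsg.Agent.LsF.decide_eq]; exact rfl) | exact rfl⟩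
private noncomputable def _root_.Cfsg.Agent.LsF.f68c337_11 : {f // @Cfsg.Agent.TH.Ex.Si.bY = f} := ⟨_, by first | (delta Cfsg.Agent.TH.Ex.Si.bY; rewrite [Cfsg.Agent.LsF.nadd_pat, Cfsg.Agent.LsF.nmul_pat, Cfsg.Agent.LsF.nmod_pat, Cfsg.Agent.LsF.npow_pat, Cfsg.Agent.LsF.instDecEq_eq, Cfsg.Agent.LsF.ite_eq]; (try delta Cfsg.Agent.TH.Ex.Si.bY.match_1); (try delta Cfsg.Agent.TH.Ex.Si.bY._sparseCasesOn_1); exact rfl) | exact rfl⟩
private noncomputable def _root_.Cfsg.Agent.LsF.f68c337_12 : {f // @Cfsg.Agent.TH.Sv.pwL = f} := ⟨_, by first | (delta Cfsg.Agent.TH.Sv.pwL; rewrite [Cfsg.Agent.LsF.nmul_pat, Cfsg.Agent.LsF.ndiv_pat, Cfsg.Agent.LsF.nmod_pat, Cfsg.Agent.LsF.and_eq, Cfsg.Agent.LsF.cond_eq]; exact rfl) | exact rfl⟩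
private noncomputable def _root_.Cfsg.Agent.LsF.f68c337_13 : {f // @Cfsg.Agent.TH.Sv.allDiv = f} := ⟨_, by first | (delta Cfsg.Agent.TH.Sv.allDiv; rewrite [Cfsg.Agent.LsF.f68c337_12.2]; exact rfl) | exact rfl⟩
private noncomputable def _root_.Cfsg.Agent.LsF.f68c337_14 : {f // @Cfsg.Agent.TH.Sv.test0 = f} := ⟨_, by first | (delta Cfsg.Agent.TH.Sv.test0; rewrite [Cfsg.Agent.LsF.f68c337_0.2, Cfsg.Agent.LsF.nadd_pat, Cfsg.Agent.LsF.nmul_pat, Cfsg.Agent.LsF.nsub_pat, Cfsg.Agent.LsF.ndiv_pat, Cfsg.Agent.LsF.nmod_pat, Cfsg.Agent.LsF.npow_pat, Cfsg.Agent.LsF.and_eq, Cfsg.Agent.LsF.or_eq, Cfsg.Agent.LsF.not_eq]; exact rfl) | exact rfl⟩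
private noncomputable def _root_.Cfsg.Agent.LsF.f68c337_15 : {f // @Cfsg.Agent.TH.Sv.nuL = f} := ⟨_, by first | (delta Cfsg.Agent.TH.Sv.nuL; rewrite [Cfsg.Agent.LsF.nadd_pat, Cfsg.Agent.LsF.ndiv_pat, Cfsg.Agent.LsF.nmod_pat, Cfsg.Agent.LsF.and_eq, Cfsg.Agent.LsF.cond_eq]; exact rfl) | exact rfl⟩
private noncomputable def _root_.Cfsg.Agent.LsF.f68c337_16 : {f // @Cfsg.Agent.TH.Sv.nu = f} := ⟨_, by first | (delta Cfsg.Agent.TH.Sv.nu; rewrite [Cfsg.Agent.LsF.f68c337_7.2, Cfsg.Agent.LsF.f68c337_15.2]; exact rfl) | exact rfl⟩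
private noncomputable def _root_.Cfsg.Agent.LsF.f68c337_17 : {f // @Cfsg.Agent.TH.Sv.mn = f} := ⟨_, by first | (delta Cfsg.Agent.TH.Sv.mn; rewrite [Cfsg.Agent.LsF.cond_eq]; exact rfl) | exact rfl⟩
private noncomputable def _root_.Cfsg.Agent.LsF.f68c337_18 : {f // @Cfsg.Agent.TH.Sv.nuC = f} := ⟨_, by first | (delta Cfsg.Agent.TH.Sv.nuC; rewrite [Cfsg.Agent.LsF.f68c337_16.2, Cfsg.Agent.LsF.f68c337_17.2, Cfsg.Agent.LsF.cond_eq]; exact rfl) | exact rfl⟩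
private noncomputable def _root_.Cfsg.Agent.LsF.f68c337_19 : {f // @Cfsg.Agent.TH.Sv.prodL = f} := ⟨_, by first | (delta Cfsg.Agent.TH.Sv.prodL; rewrite [Cfsg.Agent.LsF.nmul_pat]; exact rfl) | exact rfl⟩
private noncomputable def _root_.Cfsg.Agent.LsF.f68c337_20 : {f // @Cfsg.Agent.TH.Sv.vl = f} := ⟨_, by first | (delta Cfsg.Agent.TH.Sv.vl; rewrite [Cfsg.Agent.LsF.nadd_pat, Cfsg.Agent.LsF.ndiv_pat, Cfsg.Agent.LsF.nmod_pat, Cfsg.Agent.LsF.cond_eq, Cfsg.Agent.LsF.log2_eq]; exact rfl) | exact rfl⟩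
private noncomputable def _root_.Cfsg.Agent.LsF.f68c337_21 : {f // @Cfsg.Agent.TH.Sv.gbF = f} := ⟨_, by first | (delta Cfsg.Agent.TH.Sv.gbF; rewrite [Cfsg.Agent.LsF.nadd_pat, Cfsg.Agent.LsF.nmul_pat, Cfsg.Agent.LsF.nsub_pat, Cfsg.Agent.LsF.ndiv_pat, Cfsg.Agent.LsF.npow_pat]; exact rfl) | exact rfl⟩
private noncomputable def _root_.Cfsg.Agent.LsF.f68c337_22 : {f // @Cfsg.Agent.TH.Sv.trm = f} := ⟨_, by first | (delta Cfsg.Agent.TH.Sv.trm; rewrite [Cfsg.Agent.LsF.f68c337_20.2, Cfsg.Agent.LsF.f68c337_21.2, Cfsg.Agent.LsF.f68c337_18.2, Cfsg.Agent.LsF.nmul_pat, Cfsg.Agent.LsF.nmod_pat, Cfsg.Agent.LsF.cond_eq]; exact rfl) | exact rfl⟩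
private noncomputable def _root_.Cfsg.Agent.LsF.f68c337_23 : {f // @Cfsg.Agent.TH.Sv.test1 = f} := ⟨_, by first | (delta Cfsg.Agent.TH.Sv.test1; rewrite [Cfsg.Agent.LsF.f68c337_0.2, Cfsg.Agent.LsF.f68c337_18.2, Cfsg.Agent.LsF.f68c337_17.2, Cfsg.Agent.LsF.f68c337_19.2, Cfsg.Agent.LsF.f68c337_22.2, Cfsg.Agent.LsF.nmul_pat, Cfsg.Agent.LsF.nsub_pat, Cfsg.Agent.LsF.ndiv_pat, Cfsg.Agent.LsF.nmod_pat, Cfsg.Agent.LsF.and_eq, Cfsg.Agent.LsF.or_eq, Cfsg.Agent.LsF.not_eq]; exact rfl) | exact rfl⟩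
private noncomputable def _root_.Cfsg.Agent.LsF.f68c337_24 : {f // @Cfsg.Agent.TH.Sv.test = f} := ⟨_, by first | (delta Cfsg.Agent.TH.Sv.test; rewrite [Cfsg.Agent.LsF.f68c337_14.2, Cfsg.Agent.LsF.f68c337_23.2, Cfsg.Agent.LsF.and_eq]; exact rfl) | exact rfl⟩
private noncomputable def _root_.Cfsg.Agent.LsF.f68c337_25 : {f // @Cfsg.Agent.TH.Sv.loopD = f} := ⟨_, by first | (delta Cfsg.Agent.TH.Sv.loopD; rewrite [Cfsg.Agent.LsF.f68c337_13.2, Cfsg.Agent.LsF.f68c337_24.2, Cfsg.Agent.LsF.nmul_pat, Cfsg.Agent.LsF.nsub_pat, Cfsg.Agent.LsF.ndiv_pat, Cfsg.Agent.LsF.npow_pat, Cfsg.Agent.LsF.and_eq, Cfsg.Agent.LsF.or_eq, Cfsg.Agent.LsF.not_eq]; exact rfl) | exact rfl⟩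
private noncomputable def _root_.Cfsg.Agent.LsF.f68c337_26 : {f // @Cfsg.Agent.TH.Sv.loopO = f} := ⟨_, by first | (delta Cfsg.Agent.TH.Sv.loopO; rewrite [Cfsg.Agent.LsF.f68c337_13.2, Cfsg.Agent.LsF.f68c337_25.2, Cfsg.Agent.LsF.nsub_pat, Cfsg.Agent.LsF.ndiv_pat, Cfsg.Agent.LsF.nmod_pat, Cfsg.Agent.LsF.or_eq, Cfsg.Agent.LsF.not_eq]; exact rfl) | exact rfl⟩
private noncomputable def _root_.Cfsg.Agent.LsF.f68c337_27 : {f // @Cfsg.Agent.TH.Sv.sieveG = f} := ⟨_, by first | (delta Cfsg.Agent.TH.Sv.sieveG; rewrite [Cfsg.Agent.LsF.f68c337_9.2, Cfsg.Agent.LsF.f68c337_13.2, Cfsg.Agent.LsF.f68c337_26.2, Cfsg.Agent.LsF.nmul_pat, Cfsg.Agent.LsF.ndiv_pat, Cfsg.Agent.LsF.nmod_pat, Cfsg.Agent.LsF.or_eq, Cfsg.Agent.LsF.not_eq]; exact rfl) | exact rfl⟩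
private noncomputable def _root_.Cfsg.Agent.LsF.f68c337_28 : {f // @Cfsg.Agent.TH.Ab.NT.par = f} := ⟨_, by first | (delta Cfsg.Agent.TH.Ab.NT.par; rewrite [Cfsg.Agent.LsF.f68c337_3.2, Cfsg.Agent.LsF.f68c337_2.2, Cfsg.Agent.LsF.f68c337_0.2, Cfsg.Agent.LsF.nmul_pat, Cfsg.Agent.LsF.ndiv_pat, Cfsg.Agent.LsF.nmod_pat, Cfsg.Agent.LsF.npow_pat, Cfsg.Agent.LsF.and_eq, Cfsg.Agent.LsF.or_eq, Cfsg.Agent.LsF.not_eq, Cfsg.Agent.LsF.cond_eq]; exact rfl) | exact rfl⟩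
private noncomputable def _root_.Cfsg.Agent.LsF.f68c337_29 : {f // @Cfsg.Agent.TH.Ab.NT.fk1 = f} := ⟨_, by first | (delta Cfsg.Agent.TH.Ab.NT.fk1; rewrite [Cfsg.Agent.LsF.f68c337_3.2, Cfsg.Agent.LsF.f68c337_2.2, Cfsg.Agent.LsF.f68c337_4.2, Cfsg.Agent.LsF.f68c337_5.2, Cfsg.Agent.LsF.f68c337_6.2, Cfsg.Agent.LsF.f68c337_10.2, Cfsg.Agent.LsF.f68c337_11.2, Cfsg.Agent.LsF.f68c337_27.2, Cfsg.Agent.LsF.f68c337_28.2, Cfsg.Agent.LsF.nmul_pat, Cfsg.Agent.LsF.ndiv_pat, Cfsg.Agent.LsF.npow_pat, Cfsg.Agent.LsF.or_eq]; exact rfl) | exact rfl⟩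
private noncomputable def _root_.Cfsg.Agent.LsF.f68c337_30 : {f // @Cfsg.Agent.TH.Ab.NT.fchk = f} := ⟨_, by first | (delta Cfsg.Agent.TH.Ab.NT.fchk; rewrite [Cfsg.Agent.LsF.f68c337_1.2, Cfsg.Agent.LsF.f68c337_2.2, Cfsg.Agent.LsF.f68c337_0.2, Cfsg.Agent.LsF.f68c337_29.2, Cfsg.Agent.LsF.nmul_pat, Cfsg.Agent.LsF.nsub_pat, Cfsg.Agent.LsF.npow_pat, Cfsg.Agent.LsF.and_eq, Cfsg.Agent.LsF.or_eq, Cfsg.Agent.LsF.range_eq]; exact rfl) | exact rfl⟩
theorem chk_E7_2 : chk .E7 2 11 7 = true := chk_of (by ((try (rewrite [Cfsg.Agent.LsF.f68c337_30.2])); decide +kernel))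
theorem chk_E7_3 : chk .E7 3 3 3 = true := chk_of (by decide +kernel)
theorem chk_E8_2' : chk .E8 2 13 6 = true := chk_of (by decide +kernel)
theorem chk_E8_3 : chk .E8 3 7 7 = true := chk_of (by ((try (rewrite [Cfsg.Agent.LsF.f68c337_30.2])); decide +kernel))

theorem ouN_le {Y : Art.Sh} (hY : Y ∈ Zs) (p f : ℕ) : ouN Y p f ≤ 6 * f := by
  have h1 : Nat.gcd 3 (p ^ f - 1) ≤ 3 := Nat.gcd_le_left _ (by norm_num)
  have h2 : Nat.gcd 2 (p ^ f - 1) ≤ 2 := Nat.gcd_le_left _ (by norm_num)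
  have h3 : Nat.gcd 3 (p ^ f + 1) ≤ 3 := Nat.gcd_le_left _ (by norm_num)
  simp only [Zs, List.mem_cons, List.not_mem_nil, or_false] at hY
  rcases hY with rfl | rfl | rfl | rfl | rfl <;> simp only [ouN]
  · exact Nat.mul_le_mul_right _ (by split_ifs <;> omega)
  · exact Nat.mul_le_mul_right _ (by omega)
  · exact Nat.mul_le_mul_right _ (by omega)
  · exact Nat.mul_le_mul_right _ (by omega)
  · omega

theorem two_le_e1 (Y : Art.Sh) : 2 ≤ e1 Y := by
  cases Y <;> simp [e1]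

theorem f_le {Y : Art.Sh} (hY : Y ∈ Zs) {p f g O : ℕ} (h : Art.Real Y p f O) (h' : Art.Real Y p g O) (h0 : 0 < O) :
    g ≤ f := by
  by_contra h1
  have h2 : 2 * p ^ f ≤ p ^ g := by
    refine le_trans ?_ (Nat.pow_le_pow_right h.hp.pos (show f + 1 ≤ g by omega))
    rw [pow_succ']
    exact Nat.mul_le_mul_right _ h.hp.two_le
  have h3 := (show ∀ Z ∈ Zs, Z ∈ Ys ∧ 2 ≤ Art.NN Z by decide) Y hY
  have h4 := Nat.mul_le_mul (Nat.pow_le_pow_left h2 (Art.NN Y)) (num_mono h3.1 (show p ^ f ≤ p ^ g by omega))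
  rw [← h'.eq, mul_pow, mul_assoc, ← h.eq] at h4
  have h5 := Nat.mul_le_mul (Nat.pow_le_pow_right two_pos h3.2) (Nat.le_mul_of_pos_left O (real_pos h))
  have h6 := Nat.mul_le_mul_right O (dd_le h3.1 (p ^ g))
  omega

variable {G : Type} [Group G] [Finite G] {T H : Subgroup G} {m : ℕ} {Y : Art.Sh} {p f r : ℕ}

omit [Finite G] in
theorem cent_sub (x : T) : (centralizer ({(x : G)} : Set G)).subgroupOf T = centralizer {x} := by
  ext y
  rw [Subgroup.mem_subgroupOf, Subgroup.mem_centralizer_singleton_iff, Subgroup.mem_centralizer_singleton_iff]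
  exact ⟨fun h => Subtype.ext h, fun h => congrArg Subtype.val h⟩

omit [Finite G] in
/-- the classes of the semisimple elements of prime order -/
theorem card_le_cls (hd : Dat Y p f T) {x : G} (hx : x ∈ T) (h1 : (orderOf x).Prime) (h2 : orderOf x ≠ p) :
    Nat.card T ≤ (centralizer {x}).relIndex T * bY Y (p ^ f) := by
  have h3 : orderOf (⟨x, hx⟩ : T) = orderOf x := Subgroup.orderOf_mk x hx
  have h4 := (hd.cent ⟨x, hx⟩ (h3 ▸ h1) (h3 ▸ h2)).trans (bS_le _ _ _)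
  rw [← cent_sub] at h4
  rw [← ((centralizer {x}).subgroupOf T).index_mul_card]
  exact Nat.mul_le_mul_left _ h4

theorem chk1_false (hT : AS T) (hH : Half H m) (hp : p ∣ H.index) (hd : Dat Y p f T) (ho : T.index ∣ ouN Y p f)
    (hr : r.Prime) (hrd : r ∣ Nat.card H / m) {NB : ℕ} (h0 : 0 < NB * ouN Y p f) (ha : Nat.card ↥(H ⊓ T) ∣ NB)
    (h : chk1 Y r NB p f = true) : False := by
  have h1 : (p ^ f) ^ Art.NN Y * Art.num Y (p ^ f) / Art.dd Y (p ^ f) = Nat.card T := by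
    rw [← hd.real.eq, Nat.mul_div_cancel_left _ (real_pos hd.real)]
  rw [chk1, frc_eq, frc_eq, h1, Bool.or_eq_true, Nat.blt_eq] at h
  rcases h with h | h
  · have h2 := hT.sigma_index hH hd.idx
    have h3 := hH.one_lt
    have h4 : Nat.card H ≤ NB * ouN Y p f := by
      rw [hT.card_eq_mul hH]
      exact Nat.le_of_dvd h0 (Nat.mul_dvd_mul ha ho)
    have h5 : (Nat.card H - 1) ^ 2 ≤ (NB * ouN Y p f) ^ 2 := Nat.pow_le_pow_left (by omega) 2
    have h6 : (p ^ f) ^ e1 Y ≤ (m - 1) * (p ^ f) ^ e1 Y := Nat.le_mul_of_pos_left _ (by omega)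
    omega
  have hG : ∀ x : G, x ≠ 1 → (p ^ f) ^ e1 Y ≤ (centralizer {x}).relIndex T := fun x hx =>
    le_relIndex hd.idx (not_le_centralizer hT hx)
  refine false_of_sieveG boxNecX hT hH _ h rfl rfl rfl hp ho (le_index hT hH hd.idx) ha ?_ (fun x _ => hG x)
    (fun x hx h2 => ?_) (fun _ _ _ hP h2 _ => le_relIndex hd.idx (not_le_normalizer hT hH hP h2))
    (fun _ _ _ h2 => absurd rfl h2) (fun _ _ _ h2 => absurd rfl h2) ?_ ?_
  · have h2 : Nat.Coprime (Nat.gcd (Nat.card T) (r ^ 64)) H.index :=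
      ((hr.coprime_iff_not_dvd.2 (hH.not_dvd_index hr hrd)).pow_left 64).coprime_dvd_left (Nat.gcd_dvd_right _ _)
    refine h2.dvd_of_dvd_mul_right ?_
    rw [hT.card_inf_mul hH]
    exact Nat.gcd_dvd_left _ _
  · show (bif Nat.beq (Nat.card ↥(H ⊓ T) % p) 0 then (p ^ f) ^ e1 Y else Nat.card T / bY Y (p ^ f)) ≤ _
    rw [Bool.cond_eq_ite]
    split_ifs with h3
    · exact hG x h2
    · obtain ⟨s, hs, h4⟩ := Nat.exists_prime_and_dvd (mt orderOf_eq_one_iff.1 h2)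
      have h5 : orderOf (x ^ (orderOf x / s)) = s := orderOf_pow_orderOf_div (orderOf_pos x).ne' h4
      have h6 := card_le_cls hd (pow_mem hx.2 (orderOf x / s)) (h5.symm ▸ hs) (by
        rw [h5]
        rintro rfl
        exact h3 (Nat.beq_eq ▸ Nat.mod_eq_zero_of_dvd (h4.trans (Subgroup.orderOf_dvd_natCard _ hx))))
      refine (Nat.div_le_of_le_mul (by rwa [mul_comm] at h6)).trans ?_
      refine Subgroup.relIndex_le_of_le_left (fun y hy => ?_) Subgroup.index_ne_zero_of_finite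
      rw [Subgroup.mem_centralizer_singleton_iff] at hy ⊢
      exact ((show Commute y x from hy).pow_right _)
  · exact Nat.beq_eq ▸ Nat.mod_eq_zero_of_dvd (hrd.trans hH.d_dvd)
  · refine Bool.and_eq_true_iff.2 ⟨Nat.beq_eq ▸ Nat.mod_eq_zero_of_dvd hrd, (allL_iff _ _).2 fun s hs => ?_⟩
    have hs' : s.Prime := by
      revert s
      decide
    simp only [Bool.or_eq_true, Nat.beq_eq, Bool.not_eq_true', ← Bool.not_eq_true, Nat.ble_eq, or_iff_not_imp_left, not_not]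
    intro h2 h3 h4
    have := Fact.mk hs'
    obtain ⟨x, hx⟩ := exists_prime_orderOf_dvd_card' (G := ↥(H ⊓ T)) s (Nat.dvd_of_mod_eq_zero h3)
    rw [← Subgroup.orderOf_coe] at hx
    have hn : ∀ a ∈ H, ∀ y ∈ H ⊓ T, a * y * a⁻¹ ∈ H ⊓ T := fun a ha y hy =>
      ⟨H.mul_mem (H.mul_mem ha hy.1) (H.inv_mem ha), hT.normal.conj_mem _ hy.2 a⟩
    have h5 := boxEl G T H (H ⊓ T) (H ⊓ T) m s 1 x hT hH hs' (fun h5 => h4 (Nat.mod_eq_zero_of_dvd h5)) inf_le_left hn le_rfl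
      (fun a ha => hn a ha.1) x.2 (by rw [hx, pow_one])
    have h6 : (clsIn T H x).ncard ≤ Nat.card ↥(H ⊓ T) := by
      refine Set.ncard_le_ncard (t := ((H ⊓ T : Subgroup G) : Set G)) ?_
      rintro y ⟨h6, t, ht, rfl⟩
      exact ⟨h6, T.mul_mem (T.mul_mem (T.inv_mem ht) x.2.2) ht⟩
    exact (card_le_cls hd x.2.2 (hx ▸ hs') (hx ▸ h2)).trans
      (Nat.mul_le_mul_right _ (h5.trans (Nat.mul_le_mul (min_le_left _ _) h6)))

/-- **the numerical contradiction** -/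
theorem num_false (hT : AS T) (hH : Half H m) (hp : p ∣ H.index) (hd : Dat Y p f T) (ho : T.index ∣ ouN Y p f)
    (h0 : 0 < ouN Y p f) (hr : r.Prime) (hrp : r ≠ p) (hrd : r ∣ Nat.card H / m) {c k : ℕ}
    (ha : Nat.card ↥(H ⊓ T) ∣ r ^ c * glN r k) (hk : 0 < glN r k) (h : chk Y r c k = true) : False := by
  rw [chk, frc_eq, Bool.and_eq_true, Nat.blt_eq, allL_iff] at h
  have hp' := hd.real.hp
  have hf := hd.real.hf
  have h1 : 0 < r ^ c * glN r k * ouN Y p f := Nat.mul_pos (Nat.mul_pos (pow_pos hr.pos c) hk) h0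
  generalize r ^ c * glN r k = NB at *
  by_cases hq : 300 ≤ p ^ f
  · refine chk1_false hT hH hp hd ho hr hrd h1 ha (Bool.or_eq_true_iff.2 (Or.inl (Nat.blt_eq.mpr ?_)))
    have h2 : ouN Y p f ≤ 6 * p ^ f := (ouN_le hd.mem p f).trans (Nat.mul_le_mul_left 6 (Nat.lt_pow_self hp'.one_lt).le)
    have h3 : 300 ^ (e1 Y - 2) ≤ (p ^ f) ^ (e1 Y - 2) := Nat.pow_le_pow_left hq _
    calc (NB * ouN Y p f) ^ 2 ≤ (NB * (6 * p ^ f)) ^ 2 := Nat.pow_le_pow_left (Nat.mul_le_mul_left _ h2) 2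
      _ = 36 * NB ^ 2 * (p ^ f) ^ 2 := by ring
      _ < (p ^ f) ^ (e1 Y - 2) * (p ^ f) ^ 2 := Nat.mul_lt_mul_of_pos_right (h.1.trans_le h3) (by positivity)
      _ = _ := by rw [← pow_add, Nat.sub_add_cancel (two_le_e1 Y)]
  · have h2 : p < 300 := by
      have := Nat.le_self_pow (show f ≠ 0 by omega) p
      omega
    have h3 : f < 9 := by
      by_contra h3
      have h4 : 2 ^ 9 ≤ p ^ f := (Nat.pow_le_pow_left hp'.two_le 9).trans (Nat.pow_le_pow_right hp'.pos (by omega))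
      omega
    have h4 := h.2 p (List.mem_range.2 h2)
    have h5 : (allL (List.range p) fun j => Nat.blt j 2 || !Nat.beq (p % j) 0) = true := (allL_iff _ _).2 fun j hj => by
      simp only [Bool.or_eq_true, Nat.beq_eq, Bool.not_eq_true', ← Bool.not_eq_true, Nat.blt_eq, or_iff_not_imp_left]
      intro h5 h6
      have h7 := List.mem_range.1 hj
      rcases (Nat.dvd_prime hp').1 (Nat.dvd_of_mod_eq_zero h6) with h8 | h8 <;> omega
    have h6 := hp'.two_le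
    rw [h5] at h4
    simp only [Bool.or_eq_true, Nat.beq_eq, Nat.blt_eq, Bool.not_true, Bool.false_eq_true, false_or, allL_iff] at h4
    have h7 := ((h4.resolve_left hrp.symm).resolve_left (by omega)) f (List.mem_range.2 h3)
    exact chk1_false hT hH hp hd ho hr hrd h1 ha (h7.resolve_left (by omega))

end Cfsg.Agent.TH.Ab.NT

private theorem dce_880930144417 : _root_.True := by
  try have : _root_.True := by simp only [_root_.Cfsg.Agent.TH.Ab.NT.glN.eq_2]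
  try have : _root_.True := by simp only [_root_.Cfsg.Agent.TH.Ab.NT.glN.eq_1]
  try have : _root_.True := by simp only [_root_.Cfsg.Agent.TH.Ab.NT.chk1.eq_1]
  try have : _root_.True := by simp only [_root_.Cfsg.Agent.TH.Ab.NT.glN.eq_def]
  try have : _root_.True := by simp only [_root_.Cfsg.Agent.TH.Ab.NT.chk.eq_1]
  exact _root_.True.intro
end

-- part: TH/Ex/Ab/NT
section
prune_inst 0x20040400000000180000000000002000000200400000004000000000000000000800000001120000000000000000000000000000000000000000000000000000400082080000200000000000000000000000000000000000000000000000000000000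
set_option linter.all false
open scoped Cfsg.Agent.FastGrp

/-!
# S3541, local examples in `F₄, E₆, ²E₆, E₇, E₈` without invariant toral subgroup (helper70)

`|H ⊓ T|` divides `r ^ c |GL_k(r)|` (`caseA`, `caseB`); `boxNT_of`.
-/

set_option autoImplicit false
set_option linter.unusedSectionVars false

namespace Cfsg.Agent.TH.Ab.NT

open CoxeterSystem Cfsg Cfsg.Lie Cfsg.Lie.ChevalleyDatum
open Cfsg.Agent.ChevalleyStructure Cfsg.Agent.Nodes.RGDChev Cfsg.Agent.KFacts.RgdChevCoord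
open Cfsg.Agent.H469.Exc Cfsg.Agent.H316.U6 Cfsg.Agent.DS.Ex Cfsg.Agent.H786.FC
open Cfsg.Agent.H902 Cfsg.Agent.H252.EN Cfsg.Agent.H889.Enum Cfsg.Agent.TH.Ex.Si
open Cfsg.Agent.DS.Nt hiding Ctx
open Cfsg.Agent.SB.Exc (XF)
open Cfsg.Agent.SB.Exc.NT (low_bound exists_rp cen_bound ea_of_el f4_mul e7_inv neE6_F4 neE6_E7 neE6_E8 neE7_E8
  isPGroup_of_prime)

/-! ### the data of the socle -/

/-- the shape of the order -/
def Shp (D : ChevalleyDatum) (Y : Art.Sh) : Prop :=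
  (D = chevF4 → Y = .F4) ∧ (D = chevE6 → Y = .E6 ∨ Y = .TE6) ∧ (D = chevE7 → Y = .E7) ∧ (D = chevE8 → Y = .E8)

section Dat

variable {G : Type} [Group G] [Finite G] {T : Subgroup G} {p f : ℕ} [Fact p.Prime]

theorem index_dvd (hT : AS T) {o : ℕ} (h : Nat.card (MulAut T) = o * Nat.card T) : T.index ∣ o := by
  have := hT.normal
  have h1 : Nat.card G ∣ Nat.card (MulAut T) :=
    Subgroup.card_dvd_of_injective (MulAut.conjNormal : G →* MulAut T) (by
      rw [injective_iff_map_eq_one]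
      intro g hg
      have h2 : g ∈ Subgroup.centralizer (T : Set G) := fun t ht => by
        have h3 := congrArg (fun σ : MulAut T => ((σ ⟨t, ht⟩ : T) : G)) hg
        simp only [MulAut.conjNormal_apply, MulAut.one_apply] at h3
        exact (mul_inv_eq_iff_eq_mul.1 h3).symm
      rwa [hT.cent] at h2)
  rw [h, ← T.index_mul_card] at h1
  exact Nat.dvd_of_mul_dvd_mul_right Nat.card_pos h1

theorem dat_of (hT : AS T) {K : Type} [Group K] (e : T ≃* K) {Y : Art.Sh} {g : OrdDiv.Grp} (hg : Names.IsLie g Y p f)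
    (h1 : OrdDiv.Real g T) (h2 : Art.Real Y p f (Nat.card K)) (h3 : IsSimpleGroup K → ∃ f', Dat Y p f' K) :
    Dat Y p f T ∧ T.index ∣ ouN Y p f ∧ 0 < ouN Y p f := by
  have := hT.simple
  obtain ⟨f', h4⟩ := h3 e.symm.isSimpleGroup
  have h5 := h4.congr e
  rw [← Nat.card_congr e.toEquiv] at h2
  obtain rfl : f = f' := le_antisymm (f_le h5.mem h5.real h2 Nat.card_pos) (f_le h5.mem h2 h5.real Nat.card_pos)
  have h6 := aut_ouN (fun h => hT.nonab ⟨⟨h⟩⟩) hg h1 h2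
  exact ⟨h5, index_dvd hT h6, Nat.pos_of_mul_pos_right (h6 ▸ Nat.card_pos)⟩

theorem exists_dat {D : ChevalleyDatum} {tw : Bool} (hD : Typ D) (hT : AS T) (h : IsoX D tw p f ↥T) :
    ∃ Y, Shp D Y ∧ Dat Y p f T ∧ T.index ∣ ouN Y p f ∧ 0 < ouN Y p f := by
  obtain ⟨hf, F, _, _, _, ⟨-, hF, ⟨e⟩⟩ | ⟨-, rfl, hF, ⟨e⟩⟩⟩ := h
  · rcases hD with rfl | rfl | rfl | rfl
    · exact ⟨.F4, ⟨fun _ => rfl, fun h => absurd h neE6_F4, fun h => absurd h.symm neF4_E7,
        fun h => absurd h (ne_of_rank (by decide))⟩,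
        dat_of hT e (.f4 p f) ⟨F, _, _, hF, ⟨e⟩⟩ (real_f4 hf hF) dat_F4⟩
    · exact ⟨.E6, ⟨fun h => absurd h.symm neE6_F4, fun _ => Or.inl rfl, fun h => absurd h.symm neE6_E7,
        fun h => absurd h.symm neE6_E8⟩, dat_of hT e (.e6 p f) ⟨F, _, _, hF, ⟨e⟩⟩ (real_e6 hf hF) dat_E6⟩
    · exact ⟨.E7, ⟨fun h => absurd h neF4_E7, fun h => absurd h neE6_E7, fun _ => rfl, fun h => absurd h.symm neE7_E8⟩,
        dat_of hT e (.e7 p f) ⟨F, _, _, hF, ⟨e⟩⟩ (real_e7 hf hF) dat_E7⟩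
    · exact ⟨.E8, ⟨fun h => absurd h (ne_of_rank (by decide)), fun h => absurd h neE6_E8, fun h => absurd h neE7_E8,
        fun _ => rfl⟩, dat_of hT e (.e8 p f) ⟨F, _, _, hF, ⟨e⟩⟩ (real_e8 hf hF) dat_E8⟩
  · exact ⟨.TE6, ⟨fun h => absurd h.symm neE6_F4, fun _ => Or.inr rfl, fun h => absurd h.symm neE6_E7,
      fun h => absurd h.symm neE6_E8⟩, dat_of hT e (.te6 p f) ⟨F, _, _, hF, ⟨e⟩⟩ (real_te6 hf hF)
        (dat_TE6 ((Fact.out : p.Prime).isPrimePow.pow hf.ne') hF)⟩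

end Dat

/-! ### the order of `H ⊓ T` -/

/-- the list of the bounds -/
def Bd (D : ChevalleyDatum) (r a : ℕ) : Prop :=
  D = chevF4 ∧ (r = 3 ∧ a ∣ 3 ^ 4 * glN 3 3 ∨ r = 2 ∧ a ∣ 2 ^ 3 * glN 2 3) ∨
  D = chevE6 ∧ (r = 3 ∧ a ∣ 3 ^ 7 * glN 3 3 ∨ r = 2 ∧ a ∣ 2 ^ 4 * glN 2 4) ∨
  D = chevE7 ∧ (r = 2 ∧ a ∣ 2 ^ 11 * glN 2 7 ∨ r = 3 ∧ a ∣ 3 ^ 3 * glN 3 3) ∨
  D = chevE8 ∧ (r = 5 ∧ a ∣ 5 ^ 10 * glN 5 3 ∨ r = 2 ∧ a ∣ 2 ^ 22 * glN 2 5 ∨ r = 2 ∧ a ∣ 2 ^ 13 * glN 2 6 ∨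
    r = 3 ∧ a ∣ 3 ^ 7 * glN 3 7)

variable {D : ChevalleyDatum} {l : ℕ} {M : CoxeterMatrix (Fin l)} {hp : IsType D l M} {p : ℕ} [Fact p.Prime]
  {G : Type} [Group G] [Finite G] {T H E : Subgroup G} {L : Lift hp p T} {r : ℕ}

theorem card_dvd (hL : DS.Loc T H E r) {c k : ℕ} (h1 : IsPGroup r ↥(Subgroup.centralizer (E : Set G) ⊓ T))
    (h2 : Nat.card ↥(Subgroup.centralizer (E : Set G) ⊓ T) ≤ r ^ c) (h3 : Nat.card E ≤ r ^ k) :
    Nat.card ↥(H ⊓ T) ∣ r ^ c * glN r k := by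
  have := Fact.mk hL.prime
  have hpow : ∀ x : E, x ^ r = 1 := fun x => Subtype.ext (hL.pow x x.2)
  obtain ⟨j, hj⟩ := IsPGroup.iff_card.1 (show IsPGroup r E from fun x => ⟨1, by rw [pow_one, hpow]⟩)
  obtain ⟨i, hi⟩ := IsPGroup.iff_card.1 h1
  rw [hi, Nat.pow_le_pow_iff_right hL.prime.one_lt] at h2
  rw [hj, Nat.pow_le_pow_iff_right hL.prime.one_lt] at h3
  have h4 := Transfer.ElemAbAut.card_mulAut r j (fun x y : E => Subtype.ext (hL.comm x x.2 y y.2)) hpow hj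
  let φ : ↥(H ⊓ T) →* MulAut E := E.normalizerMonoidHom.comp (Subgroup.inclusion (inf_le_left.trans hL.norm.ge))
  rw [← φ.ker.card_mul_index, Subgroup.index_ker]
  refine Nat.mul_dvd_mul ?_ ((Subgroup.card_subgroup_dvd_card _).trans (by rw [h4, prod_eq]; exact glN_dvd r h3))
  refine Dvd.dvd.trans ?_ (pow_dvd_pow r h2)
  rw [← hi, ← Subgroup.card_map_of_injective (H ⊓ T).subtype_injective]
  refine Subgroup.card_dvd_of_le ?_
  rintro _ ⟨x, hx, rfl⟩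
  refine ⟨Subgroup.mem_centralizer_iff.2 fun e he => ?_, x.2.2⟩
  have h5 := congrArg (fun β : MulAut E => ((β ⟨e, he⟩ : E) : G)) (MonoidHom.mem_ker.1 hx)
  exact (mul_inv_eq_iff_eq_mul.1 h5).symm

theorem dataA (N : DS.Nt.Ctx L H) (hL : DS.Loc T H E r) (hE : EA p r (im L E))
    {A : Subgroup (YY D p)} (hA : A ≤ im L E) (hT : _root_.Cfsg.Agent.DS.Ex.Toral p A)
    (hF : Module.finrank (KK p) (Fx p (A : Set (YY D p))) = l) (hc : Nat.card E ≤ r * Nat.card A) {j n c : ℕ}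
    (hW : ¬ r ^ (j + 1) ∣ Nat.card M.Group) (hn : Nat.card E ≤ r ^ n)
    (hb : ∀ b, b ≤ r ^ l → (r = 3 → b ^ 2 ≤ 3 ^ l) → b * r ^ j ≤ r ^ c) : Nat.card ↥(H ⊓ T) ∣ r ^ c * glN r n := by
  have hI : L.Inv H (im L E) := inv_im hL.normal hL.norm.ge
  obtain ⟨B, h1, h2⟩ := exists_rp hp (hE.mono hA).el hA hT hF
  have h3 := N.noT B h1 fun φ hφ y hy => by
    obtain ⟨a1, m, a2, a3⟩ := (h2 y).1 hy
    exact (h2 _).2 ⟨fun e he => comm_app φ (a1 _ (hI φ⁻¹ (π_inv hφ) e he)), m, a2, by rw [← map_pow, a3, map_one]⟩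
  have h0 : ∀ y : YY D p, (∀ e ∈ im L E, y * e = e * y) → ∀ m : ℕ, r.Coprime m → y ^ m = 1 → y = 1 :=
    fun y a1 m a2 a3 => Subgroup.mem_bot.1 (h3.le ((h2 y).2 ⟨a1, m, a2, a3⟩))
  obtain ⟨hfin, b, h4, h5, h6⟩ := cen_bound hp N.typ hE hA hT hF (N.not_toral hL) (by rwa [card_im hL.le_S]) h0 hW
  refine card_dvd hL (isPGroup_of_prime fun x hx => ?_) (le_trans ?_ (h4.trans (hb b h5 h6))) hn
  · by_contra h7
    obtain ⟨y, hy⟩ : ∃ y : T, (y : G) = (x : G) := ⟨⟨x.1, x.2.2⟩, rfl⟩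
    have h9 : (x : G) ^ orderOf x = 1 := congrArg Subtype.val (pow_orderOf_eq_one x)
    have h8 := h0 (L.ι y) (fun e he => ι_comm (hy ▸ x.2.1) he) _ ((Nat.coprime_primes hL.prime hx).2 (Ne.symm h7)) (by
      rw [← map_pow, show y ^ orderOf x = 1 from Subtype.ext (by rw [Subgroup.coe_pow, hy]; exact h9), map_one])
    rw [← map_one L.ι] at h8
    rw [show x = 1 from Subtype.ext (hy.symm.trans (congrArg Subtype.val (L.inj h8))), orderOf_one] at hx
    exact Nat.not_prime_one hx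
  · rw [← card_im (L := L) (inf_le_right : Subgroup.centralizer (E : Set G) ⊓ T ≤ T)]
    refine Subgroup.card_le_of_le ?_
    rintro _ ⟨x, hx, rfl⟩
    exact Subgroup.mem_centralizer_iff.2 fun e he => (ι_comm hx.1 he).symm

theorem caseA (N : DS.Nt.Ctx L H) (hL : DS.Loc T H E r) (hE : EA p r (im L E)) (h : OutA L E r) :
    Bd D r (Nat.card ↥(H ⊓ T)) := by
  obtain ⟨⟨A, hA, hT, hF⟩, h1⟩ := h
  have hW := card_W hp
  have hl := typ_l hp
  rcases h1 with ⟨rfl, rfl, h2⟩ | ⟨rfl, rfl, -⟩ | ⟨rfl, rfl, h2⟩ | ⟨rfl, rfl, h2⟩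
  · obtain rfl := hl.1 rfl
    have h3 := low_bound hp nrF4 (hE.mono hA).el hF (d := 16) fun e he h1 =>
      (((iso_F4 hE.prime (N.iso hL hE (hA he) h1)).resolve_left fun h => absurd h.1 (by norm_num)).2).ge
    refine Or.inl ⟨rfl, Or.inl ⟨rfl, dataA N hL hE hA hT hF (by omega) (j := 2) (by rw [hW.1 rfl]; norm_num) h2
      fun b _ h6 => ?_⟩⟩
    have h8 := h6 rfl
    nlinarith only [h8]
  · obtain rfl := hl.2.1 rfl
    have hd : ∀ e ∈ im L E, e ≠ 1 → dd p e = 24 := fun e he h1 =>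
      ((iso_E6 hE.prime (N.iso hL hE he h1)).resolve_left fun h => absurd h.1 (by norm_num)).2
    have h3 := low_bound hp nrE6 (hE.mono hA).el hF (d := 24) fun e he h1 => (hd e (hA he) h1).ge
    have h2 : Nat.card E ≤ 3 ^ 3 := by
      have a1 := pure_eq hp hE.el hd
      have e : ((6 + chevE6.nroots : ℕ) : ℤ) = 78 := by
        rw [nrE6]
        norm_num
      rw [e, mul_assoc, card_im hL.le_S] at a1
      have a2 : (0 : ℤ) ≤ (Nat.card E : ℤ) * Module.finrank (KK p) (Fx p (im L E : Set (YY chevE6 p))) :=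
        mul_nonneg (Int.natCast_nonneg _) (Int.natCast_nonneg _)
      omega
    refine Or.inr (Or.inl ⟨rfl, Or.inl ⟨rfl, dataA N hL hE hA hT hF (by omega) (j := 4) (by rw [hW.2.1 rfl]; norm_num) h2
      fun b _ h6 => ?_⟩⟩)
    have h8 := h6 rfl
    nlinarith only [h8]
  · obtain rfl := hl.2.2.2 rfl
    have h3 := low_bound hp nrE8 (hE.mono hA).el hF (d := 48) fun e he h1 =>
      ((((iso_E8 hE.prime (N.iso hL hE (hA he) h1)).resolve_left fun h => absurd h.1 (by norm_num)).resolve_left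
        fun h => absurd h.1 (by norm_num)).2).ge
    exact Or.inr (Or.inr (Or.inr ⟨rfl, Or.inl ⟨rfl, dataA N hL hE hA hT hF (by omega) (j := 2)
      (by rw [hW.2.2.2 rfl]; norm_num) h2 fun b h5 _ => by omega⟩⟩))
  · obtain rfl := hl.2.2.2 rfl
    have h3 := low_bound hp nrE8 (hE.mono hA).el hF (d := 120) fun e he h1 => by
      rcases (((iso_E8 hE.prime (N.iso hL hE (hA he) h1)).resolve_right fun h =>
        h.elim (fun h => absurd h.1 (by norm_num)) fun h => absurd h.1 (by norm_num)).2) with h | h <;> omega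
    exact Or.inr (Or.inr (Or.inr ⟨rfl, Or.inr (Or.inl ⟨rfl, dataA N hL hE hA hT hF (by omega) (j := 14)
      (by rw [hW.2.2.2 rfl]; norm_num) h2 fun b h5 _ => by omega⟩)⟩))

theorem dataB (hL : DS.Loc T H E r) (hE : EA p r (im L E)) {d : ℕ} {J : YY D p → Subgroup (YY D p)}
    (h : DOut L E r d J) : ∃ B : Subgroup (YY D p), EL p r B ∧ L.Inv H B ∧ Nat.card E ≤ Nat.card B ∧
      ∀ c k, Nat.card B ≤ r ^ c → Nat.card E ≤ r ^ k → Nat.card ↥(H ⊓ T) ∣ r ^ c * glN r k := by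
  refine ⟨im L (Subgroup.centralizer (E : Set G) ⊓ T), ⟨hE.prime, hE.ne, finite_im _ _, ?_, ?_⟩,
    inv_im hL.normal (le_normalizer_of_conj fun s hs x hx => ⟨?_, hL.normal.conj_mem _ hx.2 s⟩), ?_, fun c k h1 h2 => ?_⟩
  · rintro _ ⟨x, hx, rfl⟩ _ ⟨y, hy, rfl⟩
    rw [← map_mul, ← map_mul, show x * y = y * x from Subtype.ext (h.comm x hx y hy)]
  · rintro _ ⟨x, hx, rfl⟩
    rw [← map_pow, show x ^ r = 1 from Subtype.ext (h.pow x hx), map_one]
  · refine Subgroup.mem_centralizer_iff.2 fun e he => ?_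
    have h1 := Subgroup.mem_centralizer_iff.1 hx.1 _ ((Subgroup.mem_normalizer_iff.1 (hL.norm.ge (inv_mem hs)) e).1 he)
    calc e * (s * x * s⁻¹) = s * (s⁻¹ * e * s⁻¹⁻¹ * x) * s⁻¹ := by group
      _ = _ := by rw [h1]; group
  · rw [card_im inf_le_right]
    exact Subgroup.card_le_of_le (le_inf (fun c hc => Subgroup.mem_centralizer_iff.2 fun x hx => hL.comm x hx c hc) hL.le_S)
  · rw [card_im inf_le_right] at h1
    exact card_dvd hL (fun x => ⟨1, Subtype.ext (by rw [pow_one]; exact h.pow x x.2)⟩) h1 h2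

theorem caseB (N : DS.Nt.Ctx L H) (hL : DS.Loc T H E r) (hE : EA p r (im L E)) (h : OutB L E r) :
    Bd D r (Nat.card ↥(H ⊓ T)) := by
  obtain ⟨⟨i, d, J, -, -, hD⟩, h1⟩ := h
  obtain ⟨B, hB, hI, hEB, hc⟩ := dataB hL hE hD
  clear hD
  have hl := typ_l hp
  rcases h1 with ⟨rfl, rfl, -⟩ | ⟨rfl, rfl, h0⟩ | ⟨rfl, rfl, h0⟩ | ⟨rfl, rfl, h0⟩ | ⟨rfl, rfl, h0⟩ | ⟨rfl, rfl, h0⟩
  · obtain rfl := hl.1 rfl
    have hB' := ea_of_el hp N.typ hB (fun h => absurd h.2 (by norm_num)) fun h => neF4_E7 h.1.symm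
    have hi : ∀ e ∈ B, e ≠ 1 → dd p e = 36 ∨ dd p e = 24 := fun e he h1 =>
      ((iso_F4 hB.prime (N.iso' hI hB' he h1)).resolve_right fun h => absurd h.1 (by norm_num)).2.imp_right And.left
    let K : Subgroup (YY chevF4 p) :=
      { carrier := {x | x ∈ B ∧ (x = 1 ∨ dd p x = 36)}
        one_mem' := ⟨one_mem _, Or.inl rfl⟩
        mul_mem' := by
          rintro x y ⟨hx, rfl | h1⟩ ⟨hy, h2⟩
          · rw [one_mul]
            exact ⟨hy, h2⟩
          rcases h2 with rfl | h2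
          · rw [mul_one]
            exact ⟨hx, Or.inr h1⟩
          by_cases h3 : x * y = 1
          · exact ⟨mul_mem hx hy, Or.inl h3⟩
          · exact ⟨mul_mem hx hy, Or.inr ((hi _ (mul_mem hx hy) h3).resolve_right
              (f4_mul hp hB.ne (hB'.tp x hx y hy) (hB.pow x hx) (hB.pow y hy) h1 h2))⟩
        inv_mem' := by
          rintro x ⟨hx, h1⟩
          rw [show x⁻¹ = x from inv_eq_of_mul_eq_one_left (by rw [← pow_two, hB.pow x hx])]
          exact ⟨hx, h1⟩ }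
    have hK := N.noT K (P4.boxP4 p K (hB'.mono fun x hx => hx.1) fun e he h1 => he.2.resolve_left h1)
      fun φ hφ x hx => ⟨hI φ hφ x hx.1, hx.2.imp (fun h => by rw [h, map_one])
        fun h => by rw [dd_app (fun _ => hB.ne.symm) hB' φ hx.1, h]⟩
    have h2 := card_le_of_dvd hB (k := 3) (pure_dvd hp hB fun e he h1 => (hi e he h1).resolve_left fun h =>
      h1 (Subgroup.mem_bot.1 (hK.le ⟨he, Or.inr h⟩))) (by rw [nrF4]; decide)
    exact Or.inl ⟨rfl, Or.inr ⟨rfl, hc 3 3 h2 (hEB.trans h2)⟩⟩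
  · obtain rfl := hl.2.1 rfl
    have hB' := ea_of_el hp N.typ hB (fun h => absurd h.2 (by norm_num)) fun h => neE6_E7 h.1.symm
    have h2 := card_le_of_dvd hB (k := 4) (pure_dvd hp hB fun e he h1 =>
      ((iso_E6 hB.prime (N.iso' hI hB' he h1)).resolve_right fun h => absurd h.1 (by norm_num)).2.1)
      (by rw [nrE6]; decide)
    exact Or.inr (Or.inl ⟨rfl, Or.inr ⟨rfl, hc 4 4 h2 h0⟩⟩)
  · obtain rfl := hl.2.2.1 rfl
    have h2 := card_le_of_dvd hB (k := 11) (dvd_two hp hB {-7, 5, 25} fun e he h1 => by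
      rw [nrE7]
      rcases e7_inv hp hB.ne (hB.pow e he) h1 with h | h | h <;> rw [h] <;> decide) (by rw [nrE7]; decide)
    exact Or.inr (Or.inr (Or.inl ⟨rfl, Or.inl ⟨rfl, hc 11 7 h2 h0⟩⟩))
  · obtain rfl := hl.2.2.1 rfl
    have hB' := ea_of_el hp N.typ hB (fun h => neE6_E7 h.1) fun h => absurd h.2 (by norm_num)
    have h2 := card_le_of_dvd hB (k := 3) (pure_dvd hp hB fun e he h1 =>
      ((iso_E7 hB.prime (N.iso' hI hB' he h1)).resolve_left fun h => absurd h.1 (by norm_num)).2.1)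
      (by rw [nrE7]; decide)
    exact Or.inr (Or.inr (Or.inl ⟨rfl, Or.inr ⟨rfl, hc 3 3 h2 h0⟩⟩))
  · obtain rfl := hl.2.2.2 rfl
    have hB' := ea_of_el hp N.typ hB (fun h => neE6_E8 h.1) fun h => neE7_E8 h.1
    have h2 := card_le_of_dvd hB (k := 13) (dvd_two hp hB {-8, 24} fun e he h1 => by
      rw [nrE8]
      rcases ((iso_E8 hB.prime (N.iso' hI hB' he h1)).resolve_right fun h =>
        h.elim (fun h => absurd h.1 (by norm_num)) fun h => absurd h.1 (by norm_num)).2 with h | ⟨h, -⟩ <;>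
        rw [h] <;> decide) (by rw [nrE8]; decide)
    exact Or.inr (Or.inr (Or.inr ⟨rfl, Or.inr (Or.inr (Or.inl ⟨rfl, hc 13 6 h2 h0⟩))⟩))
  · obtain rfl := hl.2.2.2 rfl
    have hB' := ea_of_el hp N.typ hB (fun h => neE6_E8 h.1) fun h => neE7_E8 h.1
    have h2 := card_le_of_dvd hB (k := 7) (dvd_three hp hB {-4, 5} fun e he h1 => by
      rw [nrE8]
      rcases (((iso_E8 hB.prime (N.iso' hI hB' he h1)).resolve_left fun h => absurd h.1 (by norm_num)).resolve_right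
        fun h => absurd h.1 (by norm_num)).2 with h | ⟨h, -⟩
      · exact ⟨-4, by simp, by rw [h]; norm_num⟩
      · exact ⟨5, by simp, by rw [h]; norm_num⟩) (by rw [nrE8]; decide)
    exact Or.inr (Or.inr (Or.inr ⟨rfl, Or.inr (Or.inr (Or.inr ⟨rfl, hc 7 7 h2 h0⟩))⟩))

end Cfsg.Agent.TH.Ab.NT

namespace Cfsg.Agent.TH.Ab

open Cfsg.Agent.DS.Ex Cfsg.Agent.TH.Ab.NT
open Cfsg.Agent.DS.Nt hiding Ctx

/-- **No invariant toral subgroup.** -/
theorem boxNT_of (hZ : BoxZC) : BoxNT := by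
  intro D l M hp tw p _ G _ _ T H E m f r C F hA
  have hT := C.ctx.as
  have hH := C.ctx.half
  have hn := C.ctx.toLieCtx.dvd_index
  have hr := C.loc.prime
  have := Fact.mk hr
  have hEH : E ≤ H := C.loc.norm ▸ Subgroup.le_normalizer
  have hE : IsPGroup r E := fun x => ⟨1, Subtype.ext (by rw [pow_one]; exact C.loc.pow x x.2)⟩
  have hrd := hH.dvd_d_of_normal C.loc.ne_bot hEH C.loc.norm.ge hE
  have N : DS.Nt.Ctx F.L H := ⟨C.typ, C.loc.toSetup, ⟨F.m.g, by rw [F.hσ]; exact F.m.fr⟩, fun Q h1 h2 h3 => by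
    by_contra h4
    have h5 : Subgroup.normalizer (Q : Set G) = H := by
      by_contra h5
      have h6 : Q.Normal := Subgroup.normalizer_eq_top_iff.1 (hH.max.2 _ (lt_of_le_of_ne h3 (Ne.symm h5)))
      have := hT.simple
      rcases (h6.subgroupOf T).eq_bot_or_eq_top with h7 | h7
      · exact h4 (by rw [← Subgroup.map_subgroupOf_eq_of_le h1, h7, Subgroup.map_bot])
      · obtain rfl : Q = T := le_antisymm h1 (Subgroup.subgroupOf_eq_top.1 h7)
        have := h2.isNilpotent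
        exact hT.nonab ⟨⟨IsSimpleGroup.comm_iff_isSolvable.2 inferInstance⟩⟩
    exact h4 (hH.eq_bot_of_isPGroup hn (h5 ▸ Subgroup.le_normalizer) h3 h2), hA⟩
  rcases rad_cases N hr C.loc.ne_bot C.loc.le_S C.loc.norm.ge hE with ⟨E', -, hL, hE', -⟩ | ⟨h1, h2, h3, h4⟩
  · have hB := (loc_struct N hL hE').elim (caseA N hL hE') (caseB N hL hE')
    obtain ⟨Y, hY, hd, ho, h0⟩ := exists_dat C.typ hT C.iso
    have key := fun c k => num_false (c := c) (k := k) hT hH hn hd ho h0 hr C.ne hrd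
    rcases hB with ⟨h, hB⟩ | ⟨h, hB⟩ | ⟨h, hB⟩ | ⟨h, hB⟩
    · obtain rfl := hY.1 h
      rcases hB with ⟨rfl, hB⟩ | ⟨rfl, hB⟩
      exacts [key _ _ hB (by decide +kernel) chk_F4_3, key _ _ hB (by decide +kernel) chk_F4_2]
    · rcases hY.2.1 h with rfl | rfl <;> rcases hB with ⟨rfl, hB⟩ | ⟨rfl, hB⟩
      exacts [key _ _ hB (by decide +kernel) chk_E6_3, key _ _ hB (by decide +kernel) chk_E6_2, key _ _ hB (by decide +kernel) chk_TE6_3,
        key _ _ hB (by decide +kernel) chk_TE6_2]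
    · obtain rfl := hY.2.2.1 h
      rcases hB with ⟨rfl, hB⟩ | ⟨rfl, hB⟩
      exacts [key _ _ hB (by decide +kernel) chk_E7_2, key _ _ hB (by decide +kernel) chk_E7_3]
    · obtain rfl := hY.2.2.2 h
      rcases hB with ⟨rfl, hB⟩ | ⟨rfl, hB⟩ | ⟨rfl, hB⟩ | ⟨rfl, hB⟩
      exacts [key _ _ hB (by decide +kernel) chk_E8_5, key _ _ hB (by decide +kernel) chk_E8_2, key _ _ hB (by decide +kernel) chk_E8_2',
        key _ _ hB (by decide +kernel) chk_E8_3]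
  · have hR : IsPGroup r ((E.subgroupOf T).subgroupOf (H.subgroupOf T)) := fun x =>
      ⟨1, Subtype.ext (Subtype.ext (Subtype.ext (by rw [pow_one]; exact h3 _ x.2)))⟩
    obtain ⟨P, hP⟩ := hR.exists_le_sylow
    have hc : ∀ a : T, (a : G) ∈ H → ∀ x ∈ E.subgroupOf T, a * x * a⁻¹ ∈ E.subgroupOf T := fun a ha x hx =>
      (Subgroup.mem_normalizer_iff.1 (C.loc.norm.ge ha) x).1 hx
    obtain ⟨x, hx, hx1, h5⟩ := hZ D l M hp tw p f r G T hT C.iso (h4.imp (fun h => ⟨h.1, h.2.1⟩) fun h => ⟨h.1, h.2.1⟩)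
      C.ne F ((P : Subgroup (H.subgroupOf T)).map (H.subgroupOf T).subtype) (E.subgroupOf T) (P.isPGroup'.map _)
      (by
        rw [Subgroup.index_map_subtype, hr.dvd_mul, not_or]
        exact ⟨P.not_dvd_index, fun h => hH.not_dvd_index hr hrd (hT.relIndex_eq hH ▸ h)⟩)
      (fun y hy => ⟨⟨y, hEH hy⟩, hP hy, rfl⟩) (by
        rintro _ ⟨a, -, rfl⟩
        exact hc a a.2)
      (fun h => C.loc.ne_bot (by rw [← Subgroup.map_subgroupOf_eq_of_le C.loc.le_S, h, Subgroup.map_bot]))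
      (fun x hx y hy => Subtype.ext (h2 x hx y hy)) fun x hx => Subtype.ext (h3 x hx)
    refine hx1 (F.L.inj ?_)
    rw [map_one]
    refine h1 _ ⟨ι_mem_im.2 hx, ?_, ?_⟩ ?_
    · rw [← map_pow, show x ^ r = 1 from Subtype.ext (h3 x hx), map_one]
    · rintro _ ⟨y, hy, rfl⟩
      rw [← map_mul, ← map_mul, show y * x = x * y from Subtype.ext (h2 y hy x hx)]
    · rintro _ ⟨⟨y, hy, rfl⟩, -⟩
      exact h5 y hy

end Cfsg.Agent.TH.Ab
end

-- part: TH/Ex/Ab/NT_mg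
section

end

-- part: TH/Ex/Ab/Frm
section
prune_inst 0x420000000742210000000000042001e22f0000102004b0000204000000d490c40800006210200001000c410801040000001000000020000000a0030000002000000284000823cac00100000000000000000000000000000000000000000000000000000000
set_option linter.all false
open scoped Cfsg.Agent.FastGrp

/-!
# S3541, exceptional groups: frames with the right field (helper73)
-/

set_option autoImplicit false
set_option linter.unusedSectionVars false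

namespace Cfsg.Agent.TH.Ab

open CoxeterSystem Cfsg Cfsg.Lie Cfsg.Lie.ChevalleyDatum
open Cfsg.Agent.ChevalleyStructure Cfsg.Agent.ChevalleyStructure.Elts Cfsg.Agent.ChevalleyStructure.CoxeterGeom
  Cfsg.Agent.ChevalleyStructure.CoxeterGeomTypes
open Cfsg.Agent.Tits.Roots Cfsg.Agent.Tits.Core Cfsg.Agent.Nodes Cfsg.Agent.Nodes.Reps Cfsg.Agent.Nodes.BNOf
  Cfsg.Agent.Nodes.RGDChev Cfsg.Agent.Nodes.Bruhat Cfsg.Agent.Nodes.Coroot
open Cfsg.Agent.KFacts.RgdField Cfsg.Agent.KFacts.RgdChevCoord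
open Cfsg.Agent.BpExc Cfsg.Agent.BpExc.TorCent Cfsg.Agent.BpExc.TorChev Cfsg.Agent.BpExc.Tow
  Cfsg.Agent.BpExc.TowChev Cfsg.Agent.BpExc.Fr Cfsg.Agent.BpExc.LangFr Cfsg.Agent.BpExc.Zc
open Cfsg.Agent.H469.Exc Cfsg.Agent.H316.U6 Cfsg.Agent.H129.TorusChar Cfsg.Agent.DS.Ex Cfsg.Agent.H786.FC
open Cfsg.Agent.SB.Exc (XF HasRt HasFrm ordU nP dM degs)

namespace Frm

theorem two_mul_sub {q d : ℕ} (hq : 2 ≤ q) (hd : d ≠ 0) : q ^ d ≤ 2 * (q ^ d - 1) := by
  have : 2 ≤ q ^ d := hq.trans (Nat.le_self_pow hd q)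
  omega

/-- a lower bound for the order polynomial -/
theorem ordU_ge {l q : ℕ} (hl : l = 4 ∨ l = 6 ∨ l = 7 ∨ l = 8) (hq : 2 ≤ q) : q ^ (2 * nP l + l) ≤ 2 ^ l * ordU l q := by
  have h : ∀ (L : List ℕ), (∀ d ∈ L, d ≠ 0) → q ^ L.sum ≤ 2 ^ L.length * (L.map fun d => q ^ d - 1).prod := by
    intro L
    induction L with
    | nil => simp
    | cons d L ih =>
      intro h0
      rw [List.sum_cons, List.length_cons, List.map_cons, List.prod_cons, pow_add, pow_succ]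
      calc q ^ d * q ^ L.sum ≤ (2 * (q ^ d - 1)) * (2 ^ L.length * (L.map fun d => q ^ d - 1).prod) :=
            Nat.mul_le_mul (two_mul_sub hq (h0 d List.mem_cons_self)) (ih fun e he => h0 e (List.mem_cons_of_mem _ he))
        _ = _ := by ring
  have h1 : (degs l).sum = nP l + l ∧ (degs l).length = l ∧ ∀ d ∈ degs l, d ≠ 0 := by
    rcases hl with rfl | rfl | rfl | rfl <;> decide
  have h2 := h _ h1.2.2
  rw [h1.1, h1.2.1] at h2
  calc q ^ (2 * nP l + l) = q ^ nP l * q ^ (nP l + l) := by ring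
    _ ≤ q ^ nP l * (2 ^ l * ((degs l).map fun d => q ^ d - 1).prod) := Nat.mul_le_mul_left _ h2
    _ = _ := by unfold ordU; ring

/-- two powers of `p` which both fit the order are equal -/
theorem le_of_fit {l p a b t : ℕ} (hl : l = 4 ∨ l = 6 ∨ l = 7 ∨ l = 8) (hp : 2 ≤ p) (ha : 0 < a) (hb : 0 < b)
    (h1 : ordU l (p ^ a) ≤ 3 * t) (h2 : t ≤ 2 * ((p ^ b) ^ (2 * nP l) * (p ^ b + 1) ^ l)) : a ≤ b := by
  by_contra h
  have h3 : 2 * p ^ b ≤ p ^ a := by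
    calc 2 * p ^ b ≤ p * p ^ b := Nat.mul_le_mul_right _ hp
      _ = p ^ (b + 1) := by ring
      _ ≤ p ^ a := Nat.pow_le_pow_right (by omega) (by omega)
  have hx : 2 ≤ p ^ b := hp.trans (Nat.le_self_pow hb.ne' p)
  have hy : 2 ≤ p ^ a := hp.trans (Nat.le_self_pow ha.ne' p)
  generalize p ^ b = x at *
  generalize p ^ a = y at *
  have h4 := ordU_ge hl hy
  have h5 : (x + 1) ^ l ≤ (2 * x) ^ l := Nat.pow_le_pow_left (by omega) l
  have h6 : (2 * x) ^ (2 * nP l + l) ≤ y ^ (2 * nP l + l) := Nat.pow_le_pow_left h3 _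
  have h7 : 2 ^ l * 6 < 2 ^ (2 * nP l) := by rcases hl with rfl | rfl | rfl | rfl <;> decide
  have h8 : 0 < x ^ (2 * nP l) * (2 * x) ^ l := by positivity
  have h9 : (2 * x) ^ (2 * nP l + l) ≤ 2 ^ l * 6 * (x ^ (2 * nP l) * (2 * x) ^ l) := by
    calc (2 * x) ^ (2 * nP l + l) ≤ 2 ^ l * ordU l y := h6.trans h4
      _ ≤ 2 ^ l * (3 * (2 * (x ^ (2 * nP l) * (2 * x) ^ l))) :=
          Nat.mul_le_mul_left _ (h1.trans (Nat.mul_le_mul_left _ (h2.trans
            (Nat.mul_le_mul_left _ (Nat.mul_le_mul_left _ h5)))))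
      _ = _ := by ring
  have h10 : (2 * x) ^ (2 * nP l + l) = 2 ^ (2 * nP l) * (x ^ (2 * nP l) * (2 * x) ^ l) := by
    rw [pow_add, mul_pow 2 x (2 * nP l), mul_assoc]
  rw [h10] at h9
  exact absurd (Nat.le_of_mul_le_mul_right h9 h8) (by omega)

theorem sub_le {q d e : ℕ} : q ^ (d + e) - 1 ≤ q ^ d * (q + 1) ^ e := by
  rw [pow_add]
  exact (Nat.sub_le _ _).trans (Nat.mul_le_mul_left _ (Nat.pow_le_pow_left (Nat.le_succ q) e))

theorem ordU_le {l q : ℕ} (hl : l = 4 ∨ l = 6 ∨ l = 7 ∨ l = 8) : ordU l q ≤ q ^ (2 * nP l) * (q + 1) ^ l := by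
  have h : ∀ (L : List ℕ), (L.map fun d => q ^ d - 1).prod ≤ q ^ L.sum := by
    intro L
    induction L with
    | nil => simp
    | cons d L ih =>
      rw [List.sum_cons, List.map_cons, List.prod_cons, pow_add]
      exact Nat.mul_le_mul (Nat.sub_le _ _) ih
  have h1 : (degs l).sum = nP l + l := by rcases hl with rfl | rfl | rfl | rfl <;> decide
  have h2 := h (degs l)
  rw [h1] at h2
  calc ordU l q ≤ q ^ nP l * q ^ (nP l + l) := Nat.mul_le_mul_left _ h2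
    _ = q ^ (2 * nP l) * q ^ l := by ring
    _ ≤ _ := Nat.mul_le_mul_left _ (Nat.pow_le_pow_left (Nat.le_succ q) l)

variable {D : ChevalleyDatum} {l : ℕ} {M : CoxeterMatrix (Fin l)} {hp : IsType D l M} {p : ℕ} [Fact p.Prime]

theorem rank_cases (hp : IsType D l M) (hD : Typ D) : (D = chevF4 ∧ l = 4) ∨ (D = chevE6 ∧ l = 6) ∨ (D = chevE7 ∧ l = 7) ∨
    (D = chevE8 ∧ l = 8) := by
  have h := rank_eq_of_inList hp.inList
  have h1 := hp.rank_eq
  rcases hD with rfl | rfl | rfl | rfl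
  · exact Or.inl ⟨rfl, h1 ▸ h.2.2.2.1 rfl⟩
  · exact Or.inr (Or.inl ⟨rfl, h1 ▸ h.2.2.2.2.1 rfl⟩)
  · exact Or.inr (Or.inr (Or.inl ⟨rfl, h1 ▸ h.2.2.2.2.2.1 rfl⟩))
  · exact Or.inr (Or.inr (Or.inr ⟨rfl, h1 ▸ h.2.2.2.2.2.2 rfl⟩))

theorem frame_of (hD : Typ D) {G : Type} [Group G] [Finite G] {T : Subgroup G} {f : ℕ} (hf : 0 < f)
    (h : ∃ q, Nonempty (XF hp p q T)) (h1 : ordU l (p ^ f) ≤ 3 * Nat.card T)
    (h2 : Nat.card T ≤ 2 * ((p ^ f) ^ (2 * nP l) * (p ^ f + 1) ^ l)) : Nonempty (XF hp p (p ^ f) T) := by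
  obtain ⟨q, ⟨F⟩⟩ := h
  have hl : l = 4 ∨ l = 6 ∨ l = 7 ∨ l = 8 := by rcases rank_cases hp hD with h | h | h | h <;> omega
  have hq := F.m.hq
  have p2 := (Fact.out : p.Prime).two_le
  have a1 : ordU l (p ^ F.m.e) ≤ 3 * Nat.card T := by
    rw [hq]
    exact F.ord.trans (Nat.mul_le_mul_right _ (by unfold dM; split_ifs <;> norm_num))
  have a2 : Nat.card T ≤ 2 * ((p ^ F.m.e) ^ (2 * nP l) * (p ^ F.m.e + 1) ^ l) := by
    have b1 := SB.Exc.Crit.card_fix_fr hp SB.Exc.boxCard F.m.he F.m.frob F.m.fr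
    replace b1 := b1.trans_eq (congrArg (fun n => (p ^ F.m.e) ^ n * (p ^ F.m.e + 1) ^ l) (SB.Exc.Crit.typ_num hp hD).1)
    have : Finite (DL.fix F.m.σ) := (DL.Ex.amb_of_isFrob (locFin p) F.m.he F.m.frob).finite_fix
    have b2 : Nat.card T ≤ Nat.card (DL.fix F.m.σ) :=
      Nat.card_le_card_of_injective (fun x : T => (⟨F.m.ι x, F.m.fix x⟩ : DL.fix F.m.σ))
        fun x y e => F.m.inj (congrArg Subtype.val e)
    exact (b2.trans b1).trans (Nat.le_mul_of_pos_left _ two_pos)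
  have e : F.m.e = f := le_antisymm (le_of_fit hl p2 F.m.he hf a1 h2) (le_of_fit hl p2 hf F.m.he h1 a2)
  rw [e] at hq
  subst hq
  exact ⟨F⟩

end Frm

open _root_.Cfsg.Agent.TH.Ab.Frm SB.Exc.Frm in
/-- **Frames with the right field.** -/
theorem boxFrm : BoxFrm := by
  intro D l M hp hD tw p _ f G _ _ T hT ⟨hf, F, _, _, _, h⟩
  have hT' : SB.AS T := ⟨hT.normal, hT.simple, hT.nonab, hT.cent⟩
  have hl : l = 4 ∨ l = 6 ∨ l = 7 ∨ l = 8 := by rcases rank_cases hp hD with h | h | h | h <;> omega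
  have hu := ordU_le (q := p ^ f) hl
  rcases h with ⟨-, hF, ⟨e⟩⟩ | ⟨-, rfl, hF, ⟨e⟩⟩
  · have hc := Nat.card_congr e.toEquiv
    have key : ∀ c, 0 < c → c ≤ 3 → c * Nat.card (D.group F) = ordU l (p ^ f) → HasFrm hp p ↥(D.group F) →
        Nonempty (XF hp p (p ^ f) T) := fun c c0 c3 h1 h2 => by
      refine frame_of hD hf (h2 G T hT' ⟨e⟩) ?_ ?_
      · rw [← h1, hc]
        exact Nat.mul_le_mul_right _ c3
      · have : Nat.card (D.group F) ≤ c * Nat.card (D.group F) := Nat.le_mul_of_pos_left _ c0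
        omega
    rcases hD with rfl | rfl | rfl | rfl
    · obtain ⟨rfl, e'⟩ := Sigma.mk.inj_iff.1 (type_of hp hpF4 (Or.inl rfl))
      obtain rfl := eq_of_heq e'
      refine key 1 one_pos (by norm_num) ?_ (boxFrmF4 p F)
      rw [one_mul, S1062.result hF]
      simp [ordU, nP, degs, mul_assoc]
    · obtain ⟨rfl, e'⟩ := Sigma.mk.inj_iff.1 (type_of hp hpE6 (Or.inr (Or.inl rfl)))
      obtain rfl := eq_of_heq e'
      refine key _ (Nat.gcd_pos_of_pos_left (p ^ f - 1) three_pos) (Nat.gcd_le_left _ three_pos) ?_ (boxFrmE6 p F)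
      rw [S1063.result hF]
      simp [ordU, nP, degs, mul_assoc]
    · obtain ⟨rfl, e'⟩ := Sigma.mk.inj_iff.1 (type_of hp hpE7 (Or.inr (Or.inr (Or.inl rfl))))
      obtain rfl := eq_of_heq e'
      refine key _ (Nat.gcd_pos_of_pos_left (p ^ f - 1) two_pos) ((Nat.gcd_le_left _ two_pos).trans (by norm_num)) ?_
        (boxFrmE7 p F)
      rw [S1064.result hF]
      simp [ordU, nP, degs, mul_assoc]
    · obtain ⟨rfl, e'⟩ := Sigma.mk.inj_iff.1 (type_of hp hpE8 (Or.inr (Or.inr (Or.inr rfl))))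
      obtain rfl := eq_of_heq e'
      refine key 1 one_pos (by norm_num) ?_ (boxFrmE8 p F)
      rw [one_mul, S1065.result hF]
      simp [ordU, nP, degs, mul_assoc]
  · obtain ⟨rfl, e'⟩ := Sigma.mk.inj_iff.1 (type_of hp hpE6 (Or.inr (Or.inl rfl)))
    obtain rfl := eq_of_heq e'
    have hq : IsPrimePow (p ^ f) := (Fact.out : p.Prime).isPrimePow.pow hf.ne'
    have hc := Nat.card_congr e.toEquiv
    have h1 := S1066.result hq hF
    have q2 : 2 ≤ p ^ f := hq.two_le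
    rw [← hc] at h1
    refine frame_of hD hf (boxFrm2E6 p F _ hq hF G T hT' ⟨e⟩) ?_ ?_
    · refine le_trans ?_ (Nat.mul_le_mul_right _ (Nat.gcd_le_left (p ^ f + 1) three_pos))
      rw [h1]
      simp only [ordU, nP, degs, List.map_cons, List.map_nil, List.prod_cons, List.prod_nil, mul_one, mul_assoc,
        Nat.reduceEqDiff, if_false, if_true]
      gcongr <;> omega
    · refine (Nat.le_mul_of_pos_left _ (Nat.gcd_pos_of_pos_left (p ^ f + 1) three_pos)).trans ?_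
      rw [h1]
      generalize p ^ f = q at q2
      have b5 : q ^ 5 + 1 ≤ q ^ 4 * (q + 1) := by
        have : 1 ≤ q ^ 4 := Nat.one_le_pow _ _ (by omega)
        nlinarith
      have b9 : q ^ 9 + 1 ≤ q ^ 8 * (q + 1) := by
        have : 1 ≤ q ^ 8 := Nat.one_le_pow _ _ (by omega)
        nlinarith
      calc q ^ 36 * (q ^ 2 - 1) * (q ^ 5 + 1) * (q ^ 6 - 1) * (q ^ 8 - 1) * (q ^ 9 + 1) * (q ^ 12 - 1)
          ≤ q ^ 36 * (q ^ 1 * (q + 1) ^ 1) * (q ^ 4 * (q + 1)) * (q ^ 5 * (q + 1) ^ 1) * (q ^ 7 * (q + 1) ^ 1) *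
            (q ^ 8 * (q + 1)) * (q ^ 11 * (q + 1) ^ 1) := by
            gcongr
            · exact sub_le (d := 1) (e := 1)
            · exact sub_le (d := 5) (e := 1)
            · exact sub_le (d := 7) (e := 1)
            · exact sub_le (d := 11) (e := 1)
        _ = q ^ (2 * nP 6) * (q + 1) ^ 6 := by
            show _ = q ^ (2 * 36) * (q + 1) ^ 6
            ring
        _ ≤ _ := Nat.le_mul_of_pos_left _ two_pos

end Cfsg.Agent.TH.Ab
end
end
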